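import Cfsg.Agent.Lib.H89.MX0

/-!
S5316, piece X: extension of the involution `τ` to `N_S(E)`.
-/

set_option autoImplicit false

namespace H84.MXX

open Subgroup Cfsg Cfsg.FusionSystem H67.HallPetrescu H57.Mc H89.MX
open H86.FusBasic H86.FusSat H57.Ess

variable {Ω : Type*} [Group Ω] {S : Subgroup Ω} [Finite S] {p n : ℕ} [hp : Fact p.Prime] {F : FusionSystem S} {E C W B : Subgroup Ω} {τ : MulAut E}

theorem dec {A : Subgroup Ω} (hcomm : ∀ x ∈ A, ∀ y ∈ A, x * y = y * x) {U V : Subgroup Ω} (hU : U ≤ A) (hV : V ≤ A)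
    {e : Ω} (he : e ∈ U ⊔ V) : ∃ w ∈ U, ∃ b ∈ V, w * b = e := by
  rw [Subgroup.sup_eq_closure] at he
  induction he using Subgroup.closure_induction with
  | mem x hx =>
    rcases hx with hx | hx
    · exact ⟨x, hx, 1, V.one_mem, mul_one x⟩
    · exact ⟨1, U.one_mem, x, hx, one_mul x⟩
  | one => exact ⟨1, U.one_mem, 1, V.one_mem, mul_one 1⟩
  | mul x y _ _ ih1 ih2 =>
    obtain ⟨w1, hw1, b1, hb1, rfl⟩ := ih1
    obtain ⟨w2, hw2, b2, hb2, rfl⟩ := ih2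
    refine ⟨w1 * w2, U.mul_mem hw1 hw2, b1 * b2, V.mul_mem hb1 hb2, ?_⟩
    have h1 := hcomm b1 (hV hb1) w2 (hU hw2)
    calc w1 * w2 * (b1 * b2) = w1 * (w2 * b1) * b2 := by group
      _ = w1 * (b1 * w2) * b2 := by rw [h1]
      _ = w1 * b1 * (w2 * b2) := by group
  | inv x _ ih =>
    obtain ⟨w, hw, b, hb, rfl⟩ := ih
    refine ⟨w⁻¹, U.inv_mem hw, b⁻¹, V.inv_mem hb, ?_⟩
    rw [hcomm w (hU hw) b (hV hb), mul_inv_rev]

theorem ext (D : Dat S p n F E) (H : Tau S p F E C τ W B) :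
    ∃ γ ∈ F.autGroup (normalizerIn S E), γ * γ = 1 ∧
      ∀ (x : E) (hx : (x : Ω) ∈ normalizerIn S E), ((γ ⟨x, hx⟩ : normalizerIn S E) : Ω) = τ x := by
  have hS : IsPGroup p S := IsPGroup.of_card D.mc.card
  have hrec : F.IsReceptive E := receptive_of_fullyNormalized hS D.sat D.ess.2.1
  have hES : E ≤ S := D.ess.1.1
  -- decomposition
  have hdec : ∀ e ∈ E, ∃ w ∈ W, ∃ b ∈ B, w * b = e := by
    intro e he
    exact dec D.comm H.WE (H.BC.trans H.CE) (by rw [H.sup]; exact he)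
  have hBE : B ≤ E := H.BC.trans H.CE
  have hτW : ∀ (w : Ω) (hw : w ∈ W) (hwE : w ∈ E), τ ⟨w, hwE⟩ = (⟨w, hwE⟩)⁻¹ := fun w hw hwE => H.inv _ hw
  have hτB : ∀ (b : Ω) (hb : b ∈ B) (hbE : b ∈ E), τ ⟨b, hbE⟩ = ⟨b, hbE⟩ := fun b hb hbE => H.fix _ hb
  have hτ2 : ∀ e : E, τ (τ e) = e := by
    rintro ⟨e, he⟩
    obtain ⟨w, hw, b, hb, rfl⟩ := hdec e he
    have h1 : (⟨w * b, he⟩ : E) = ⟨w, H.WE hw⟩ * ⟨b, hBE hb⟩ := rfl
    rw [h1, map_mul, map_mul, hτW w hw, hτB b hb, map_inv, hτW w hw, hτB b hb, inv_inv]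
  have hττ : τ * τ = 1 := by
    ext e
    rw [MulAut.mul_apply, hτ2]; rfl
  -- commutation with Aut_S(E)
  have hcomm : ∀ β ∈ autInducedBy S E, τ * β * τ⁻¹ = β := by
    intro β hβ
    obtain ⟨g, hgN, hgS, rfl⟩ := mem_autInducedBy'.1 hβ
    rw [mul_inv_eq_iff_eq_mul]
    ext ⟨e, he⟩
    obtain ⟨w, hw, b, hb, rfl⟩ := hdec e he
    have h1 : (⟨w * b, he⟩ : E) = ⟨w, H.WE hw⟩ * ⟨b, hBE hb⟩ := rfl
    have hbb : conjAut E hgN ⟨b, hBE hb⟩ = ⟨b, hBE hb⟩ := by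
      apply Subtype.ext
      rw [conjAut_apply]
      show g * b * g⁻¹ = b
      rw [H.cen g hgS hgN b (H.BC hb)]; group
    have hww : ∃ c : Ω, ∃ hc : c ∈ W, conjAut E hgN ⟨w, H.WE hw⟩ = ⟨c, H.WE hc⟩ := by
      refine ⟨g * w * g⁻¹, ?_, Subtype.ext rfl⟩
      have h2 := (H.com w (H.WE hw) g hgS hgN).1
      have h3 : g * w * g⁻¹ = (g * w * g⁻¹ * w⁻¹) * w := by group
      rw [h3]
      exact W.mul_mem h2 hw
    obtain ⟨c, hc, hcw⟩ := hww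
    rw [h1, MulAut.mul_apply, MulAut.mul_apply, map_mul, map_mul, map_mul, map_mul, hbb, hτB b hb, hbb,
      hτW w hw, map_inv, hcw, hτW c hc]
  obtain ⟨γ₀, hγ₀, hγx⟩ := extend_aut hrec H.mem (fun β hβ => by rw [hcomm β hβ]; exact hβ)
  have hEN : ∀ e ∈ E, e ∈ normalizerIn S E := fun e he => le_normalizerIn hES he
  have hγE : ∀ e : E, γ₀ ⟨e, hEN e e.2⟩ = ⟨τ e, hEN _ (τ e).2⟩ := fun e => Subtype.ext (hγx e)
  -- the square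
  have hsq : ∀ x : normalizerIn S E, ∃ f ∈ E, ((γ₀ (γ₀ x) : normalizerIn S E) : Ω) = x * f := by
    intro x
    refine ⟨(x : Ω)⁻¹ * ((γ₀ (γ₀ x) : normalizerIn S E) : Ω), ?_, by group⟩
    have hcen : centralizerIn S E ≤ E := centralizerIn_le_of_essential D.ess
    apply hcen
    refine mem_centralizerIn.2 ⟨S.mul_mem (S.inv_mem (normalizerIn_le S E x.2)) (normalizerIn_le S E (γ₀ (γ₀ x)).2), ?_⟩
    intro e he
    have hxN : (x : Ω) ∈ Subgroup.normalizer (E : Set Ω) := (mem_normalizerIn.1 x.2).2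
    have hxe : (x : Ω) * e * (x : Ω)⁻¹ ∈ E := (Subgroup.mem_normalizer_iff.1 hxN e).1 he
    have h1 : γ₀ (γ₀ ⟨(x : Ω) * e * (x : Ω)⁻¹, hEN _ hxe⟩) = ⟨(x : Ω) * e * (x : Ω)⁻¹, hEN _ hxe⟩ := by
      rw [hγE ⟨_, hxe⟩, hγE (τ ⟨_, hxe⟩)]
      apply Subtype.ext
      show ((τ (τ ⟨_, hxe⟩) : E) : Ω) = _
      rw [hτ2]
    have h2 : γ₀ (γ₀ ⟨e, hEN _ he⟩) = ⟨e, hEN _ he⟩ := by
      rw [hγE ⟨_, he⟩, hγE (τ ⟨_, he⟩)]
      apply Subtype.ext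
      show ((τ (τ ⟨_, he⟩) : E) : Ω) = _
      rw [hτ2]
    have h3 : (⟨(x : Ω) * e * (x : Ω)⁻¹, hEN _ hxe⟩ : normalizerIn S E) = x * ⟨e, hEN _ he⟩ * x⁻¹ := rfl
    rw [h3, map_mul, map_mul, map_mul, map_mul, h2, map_inv, map_inv] at h1
    have h4 := congrArg Subtype.val h1
    have h5 : ((γ₀ (γ₀ x) : normalizerIn S E) : Ω) * e * (((γ₀ (γ₀ x) : normalizerIn S E) : Ω))⁻¹ = (x : Ω) * e * (x : Ω)⁻¹ := h4
    calc e * ((x : Ω)⁻¹ * ((γ₀ (γ₀ x) : normalizerIn S E) : Ω))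
        = (x : Ω)⁻¹ * ((x : Ω) * e * (x : Ω)⁻¹) * ((γ₀ (γ₀ x) : normalizerIn S E) : Ω) := by group
      _ = (x : Ω)⁻¹ * (((γ₀ (γ₀ x) : normalizerIn S E) : Ω) * e * (((γ₀ (γ₀ x) : normalizerIn S E) : Ω))⁻¹) * ((γ₀ (γ₀ x) : normalizerIn S E) : Ω) := by rw [h5]
      _ = (x : Ω)⁻¹ * ((γ₀ (γ₀ x) : normalizerIn S E) : Ω) * e := by group
  -- powers of the square
  have hE2 : ∀ f ∈ E, ∀ hf : f ∈ normalizerIn S E, γ₀ (γ₀ ⟨f, hf⟩) = ⟨f, hf⟩ := by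
    intro f hfE hf
    rw [hγE ⟨_, hfE⟩, hγE (τ ⟨_, hfE⟩)]
    apply Subtype.ext
    show ((τ (τ ⟨_, hfE⟩) : E) : Ω) = _
    rw [hτ2]
  have hpow : ∀ (x : normalizerIn S E) (k : ℕ), ∃ f ∈ E, ∀ j ≤ k, (((γ₀ ^ 2) ^ j) x : Ω) = x * f ^ j := by
    intro x k
    obtain ⟨f, hf, hfx⟩ := hsq x
    refine ⟨f, hf, fun j _ => ?_⟩
    induction j with
    | zero => simp
    | succ j ih =>
      have ih' := ih (by omega)
      have h1 : ((γ₀ ^ 2) ^ j) x = x * ⟨f ^ j, hEN _ (E.pow_mem hf j)⟩ := Subtype.ext ih'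
      rw [pow_succ', MulAut.mul_apply, h1, pow_two, MulAut.mul_apply, map_mul, map_mul, hE2 _ (E.pow_mem hf j)]
      show ((γ₀ (γ₀ x) : normalizerIn S E) : Ω) * f ^ j = _
      rw [hfx, mul_assoc, pow_succ']
  have hγp : γ₀ ^ p * γ₀ ^ p = 1 := by
    rw [← pow_add, ← two_mul, pow_mul]
    ext x
    obtain ⟨f, hf, hj⟩ := hpow x p
    rw [hj p le_rfl, D.pow f hf, mul_one]; rfl
  refine ⟨γ₀ ^ p, Subgroup.pow_mem _ hγ₀ p, hγp, ?_⟩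
  intro x hx
  have hk : ∀ (k : ℕ) (x : E), (γ₀ ^ k) ⟨x, hEN x x.2⟩ = ⟨(τ ^ k) x, hEN _ ((τ ^ k) x).2⟩ := by
    intro k
    induction k with
    | zero => intro x; rfl
    | succ k ih =>
      intro x
      rw [pow_succ', MulAut.mul_apply, ih x, hγE ((τ ^ k) x)]
      apply Subtype.ext
      show ((τ ((τ ^ k) x) : E) : Ω) = (((τ ^ (k + 1)) x : E) : Ω)
      rw [pow_succ', MulAut.mul_apply]
  have h1 := congrArg Subtype.val (hk p x)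
  have h2 : τ ^ p = τ := by
    obtain ⟨m, hm⟩ : Odd p := hp.out.odd_of_ne_two (by have := D.hp; omega)
    rw [hm, pow_succ, pow_mul, pow_two, hττ, one_pow, one_mul]
  rw [h2] at h1
  exact h1

end H84.MXX
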