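import Cfsg.Agent.Lib.H84.Wat5

/-!
# Watanabe's theorem for abelian defect groups
-/

set_option autoImplicit false

namespace H84.Wat

open Cfsg H20.Loc H20.GA H80.GA H80.GB H80.GD H80.GE H80.GF H80.GG H80.GH H80.GJ H80.FS H84.RG H18.CharBasic H18.CharOrtho H84.TrR
open H20.Blk H20.Orth H20.Ind H20.Height H20.Defect H80.BR1 H80.BR2 H80.BR7 H80.FS4
open H84.Star
open scoped ComplexConjugate commutatorElement

universe u

attribute [local instance 2000] Fintype.ofFinite

variable {M : Ideal AlgInt} [M.IsMaximal] {G : Type u} [Group G] [Finite G] {p : ℕ}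
variable [Fact p.Prime] [CharP (ResF M) p] [Algebra (ZMod p) (ResF M)] [Algebra.IsAlgebraic (ZMod p) (ResF M)]
variable {H P : Subgroup G} {b e : MonoidAlgebra (ResF M) G}

theorem max_CH (hmax : IsMax p H b P e) (hab : ∀ x ∈ P, ∀ y ∈ P, x * y = y * x) {y : G} (hy : y ∈ P) :
    IsMax p (CH H (Subgroup.zpowers y)) (bk p (CH H (Subgroup.zpowers y)) P e) P e := by
  obtain ⟨f, hf, -⟩ := exists_unique_sle hmax.of.pair (Q := Subgroup.zpowers y)
    (by rw [Subgroup.zpowers_le]; exact hy)
  have h1 := ab_max hmax hab hf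
  rw [bk_eq h1.of]
  exact h1

theorem mem_CH_iff {L : Subgroup G} {w c : G} : c ∈ CH L (Subgroup.zpowers w) ↔ c * w = w * c ∧ c ∈ L := by
  unfold CH
  rw [Subgroup.mem_inf, Subgroup.mem_centralizer_iff]
  apply and_congr_left'
  constructor
  · intro h; exact (h w (Subgroup.mem_zpowers w)).symm
  · intro h v hv
    obtain ⟨n, rfl⟩ := Subgroup.mem_zpowers_iff.1 hv
    exact ((Commute.zpow_right (show Commute c w from h) n)).symm

theorem CH_one : CH H (Subgroup.zpowers (1 : G)) = H := by
  ext c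
  rw [mem_CH_iff]
  simp

theorem ob_fixed {z : G} (hz : ∀ t ∈ ST H P e, t * z * t⁻¹ = z) : ob H P e z = {z} := by
  ext x
  rw [Set.mem_singleton_iff]
  constructor
  · rintro ⟨t, ht, rfl⟩
    exact hz t ht
  · rintro rfl
    exact ⟨1, one_mem _, by simp⟩

theorem ob_shift {u : G} (hu : ∀ t ∈ ST H P e, t * u * t⁻¹ = u) (y : G) :
    Nat.card (ob H P e (u * y)) = Nat.card (ob H P e y) := by
  have h : ob H P e (u * y) = (fun x => u * x) '' ob H P e y := by
    ext x
    constructor
    · rintro ⟨t, ht, rfl⟩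
      refine ⟨t * y * t⁻¹, ⟨t, ht, rfl⟩, ?_⟩
      change u * (t * y * t⁻¹) = _
      conv_lhs => rw [← hu t ht]
      group
    · rintro ⟨_, ⟨t, ht, rfl⟩, rfl⟩
      refine ⟨t, ht, ?_⟩
      change u * (t * y * t⁻¹) = _
      conv_lhs => rw [← hu t ht]
      group
  rw [h, Nat.card_image_of_injective (mul_right_injective u)]

theorem ST_CH {u : G} (hu : ∀ t ∈ ST H P e, t * u * t⁻¹ = u) :
    ST (CH H (Subgroup.zpowers u)) P e = ST H P e := by
  ext t
  constructor
  · rintro ⟨h1, h2, h3⟩
    exact ⟨(mem_CH_iff.1 h1).2, h2, h3⟩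
  · rintro ht
    refine ⟨mem_CH_iff.2 ⟨?_, ht.1⟩, ht.2.1, ht.2.2⟩
    have := hu t ht
    calc t * u = t * u * t⁻¹ * t := by group
      _ = _ := by rw [this]

theorem ob_CH {u : G} (hu : ∀ t ∈ ST H P e, t * u * t⁻¹ = u) (y : G) :
    ob (CH H (Subgroup.zpowers u)) P e y = ob H P e y := by
  unfold ob
  rw [ST_CH hu]

theorem foc_CH {u : G} (hu : ∀ t ∈ ST H P e, t * u * t⁻¹ = u) :
    foc (CH H (Subgroup.zpowers u)) P e = foc H P e := by
  unfold foc
  rw [ST_CH hu]

open Classical in
/-- Watanabe's theorem -/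
theorem wat [IsAlgClosed (ResF M)] (hM : IsPModular p M) : ∀ (n : ℕ) {H P : Subgroup G}
    {b e : MonoidAlgebra (ResF M) G}, Nat.card H = n →
    IsMax p H b P e → (∀ x ∈ P, ∀ y ∈ P, x * y = y * x) → ∀ {u : G}, u ∈ P → (∀ t ∈ ST H P e, t * u * t⁻¹ = u) →
    rk p H b = rk p (CH H (Subgroup.zpowers u)) (bk p (CH H (Subgroup.zpowers u)) P e) ∧
    kk H b = kk (CH H (Subgroup.zpowers u)) (bk p (CH H (Subgroup.zpowers u)) P e) := by
  intro n
  induction n using Nat.strong_induction_on with
  | _ n ih =>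
    intro H P b e hn hmax hab u hu hfix
    have hPH := hmax.of.pair.le
    set F := foc H P e with hF
    have hFP : F ≤ P := foc_le
    -- the induction hypothesis
    have hlt : ∀ w ∈ P, ¬ (∀ t ∈ ST H P e, t * w * t⁻¹ = w) → Nat.card (CH H (Subgroup.zpowers w)) < n := by
      intro w _ hw
      rw [← hn]
      apply lt_of_le_of_ne (Subgroup.card_le_of_le inf_le_right)
      intro heq
      have h1 : CH H (Subgroup.zpowers w) = H := Subgroup.eq_of_le_of_card_ge inf_le_right heq.ge
      apply hw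
      intro t ht
      have h2 : t ∈ CH H (Subgroup.zpowers w) := by rw [h1]; exact ht.1
      have h3 := (mem_CH_iff.1 h2).1
      rw [h3]; group
    have hIH : ∀ w ∈ P, ¬ (∀ t ∈ ST H P e, t * w * t⁻¹ = w) →
        rk p (CH H (Subgroup.zpowers w)) (bk p (CH H (Subgroup.zpowers w)) P e) =
        rk p (CH (CH H (Subgroup.zpowers w)) (Subgroup.zpowers u))
          (bk p (CH (CH H (Subgroup.zpowers w)) (Subgroup.zpowers u)) P e) := by
      intro w hwP hw
      exact (ih _ (hlt w hwP hw) rfl (max_CH hmax hab hwP) hab hu (by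
        intro t ht
        exact hfix t ⟨(mem_CH_iff.1 ht.1).2, ht.2.1, ht.2.2⟩)).1
    have hnf : ∀ y ∈ F, y ≠ 1 → ¬ (∀ t ∈ ST H P e, t * y * t⁻¹ = y) := by
      intro y hy hy1 h
      exact hy1 (ab_trivial hmax hab hy h)
    have hnf' : ∀ y ∈ F, y ≠ 1 → ¬ (∀ t ∈ ST H P e, t * (u * y) * t⁻¹ = u * y) := by
      intro y hy hy1 h
      apply hnf y hy hy1
      intro t ht
      have h1 := h t ht
      have h2 : t * (u * y) * t⁻¹ = (t * u * t⁻¹) * (t * y * t⁻¹) := by group
      rw [h2, hfix t ht] at h1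
      exact mul_left_cancel h1
    have hwt : ∀ y ∈ F, y ≠ 1 → wt p H P e y = wt p H P e (u * y) := by
      intro y hy hy1
      unfold wt
      rw [ob_shift hfix, hIH y (hFP hy) (hnf y hy hy1), hIH (u * y) (mul_mem hu (hFP hy)) (hnf' y hy hy1),
        CH_CH' hu (hFP hy) hab]
    have hN : ((foc H P e).relIndex P : ℂ) ≠ 0 := by
      have : (foc H P e).relIndex P ≠ 0 := Subgroup.index_ne_zero_of_finite
      exact_mod_cast this
    have h1 := rel_coset hM hmax hab (one_mem P)
    have h2 := rel_coset hM hmax hab hu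
    have h3 : ∑ y : G, (if y ∈ F then wt p H P e y else 0) = ∑ y : G, (if y ∈ F then wt p H P e (u * y) else 0) := by
      apply mul_left_cancel₀ hN
      rw [sum_shift hFP (one_mem P)] at h1
      rw [sum_shift hFP hu] at h2
      rw [h2, ← h1]
      simp only [one_mul]
    rw [← Finset.add_sum_erase _ _ (Finset.mem_univ (1 : G)), ← Finset.add_sum_erase _ _ (Finset.mem_univ (1 : G)),
      if_pos (one_mem F), if_pos (one_mem F)] at h3
    have h4 : ∑ y ∈ Finset.univ.erase (1 : G), (if y ∈ F then wt p H P e y else 0) =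
        ∑ y ∈ Finset.univ.erase (1 : G), (if y ∈ F then wt p H P e (u * y) else 0) := by
      apply Finset.sum_congr rfl
      intro y hy
      have hy1 := Finset.ne_of_mem_erase hy
      by_cases hyF : y ∈ F
      · rw [if_pos hyF, if_pos hyF, hwt y hyF hy1]
      · rw [if_neg hyF, if_neg hyF]
    rw [h4] at h3
    have h5 := add_right_cancel h3
    have hfix1 : ∀ t ∈ ST H P e, t * (1 : G) * t⁻¹ = 1 := by intro t _; simp
    have hw1 : wt p H P e 1 = (rk p H b : ℂ) := by
      unfold wt
      rw [ob_fixed hfix1, CH_one, bk_eq hmax.of, Nat.card_unique, Nat.cast_one, div_one]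
    have hwu : wt p H P e u = (rk p (CH H (Subgroup.zpowers u)) (bk p (CH H (Subgroup.zpowers u)) P e) : ℂ) := by
      unfold wt
      rw [ob_fixed hfix, Nat.card_unique, Nat.cast_one, div_one]
    have hfirst : rk p H b = rk p (CH H (Subgroup.zpowers u)) (bk p (CH H (Subgroup.zpowers u)) P e) := by
      rw [mul_one, hw1, hwu] at h5
      exact_mod_cast h5
    refine ⟨hfirst, ?_⟩
    -- the number of characters
    have hmaxu := max_CH hmax hab hu
    have h6 := rel_coset hM hmaxu hab (one_mem P)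
    rw [foc_CH hfix] at h6
    rw [sum_shift hFP (one_mem P)] at h1 h6
    have h7 : (kk H b : ℂ) = (kk (CH H (Subgroup.zpowers u)) (bk p (CH H (Subgroup.zpowers u)) P e) : ℂ) := by
      rw [← h1, ← h6]
      congr 1
      apply Finset.sum_congr rfl
      intro y _
      by_cases hyF : y ∈ F
      · rw [if_pos hyF, if_pos hyF, one_mul]
        unfold wt
        rw [ob_CH hfix]
        congr 2
        by_cases hy1 : y = 1
        · rw [hy1, CH_one, CH_one, bk_eq hmax.of]
          exact hfirst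
        · rw [hIH y (hFP hyF) (hnf y hyF hy1), CH_comm]
      · rw [if_neg hyF, if_neg hyF]
    exact_mod_cast h7

end H84.Wat
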