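import Cfsg.Agent.Lib.H84.KR1

/-!
# Characters of subgroups in blocks inducing a given block
-/

set_option autoImplicit false

namespace H84.KR

open Cfsg H20.Loc H20.GA H20.Blk H20.Orth H20.Ind H18.CharBasic H18.CharOrtho
open H19.Second H19.Second3 H81.Section H81.Contrib H84.Star H80.BR2 H84.Wat
open scoped ComplexConjugate

universe u

attribute [local instance 2000] Fintype.ofFinite

variable {M : Ideal AlgInt} {G : Type u} [Group G] [Finite G] {p : ℕ}

/-- characters of `K` in blocks inducing `b` -/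
def Y (M : Ideal AlgInt) (b : Set (IrrCharacter G)) (K : Subgroup G) : Set (IrrCharacter K) :=
  {ψ | ∃ β : Set (IrrCharacter K), ψ ∈ β ∧ IsInducedBlock M K β b}

theorem mem_Y_iff [M.IsPrime] {b : Set (IrrCharacter G)} (hb : IsPBlock M b) {χ0 : IrrCharacter G} (h0 : χ0 ∈ b)
    {K : Subgroup G} (ψ : IrrCharacter K) :
    ψ ∈ Y M b K ↔ ∀ z ∈ zr M G, MemLocalIdeal M (omega ψ (resZ K z) - omega χ0 z) := by
  constructor
  · rintro ⟨β, h1, h2⟩ z hz
    exact isInducedBlock_omega h2 h1 h0 hz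
  · intro h
    refine ⟨blockOf M (ψ : K → ℂ), mem_blockOf_self ψ, ?_⟩
    rw [isInducedBlock_iff]
    refine ⟨isPBlock_blockOf ψ, hb, ?_⟩
    intro ξ hξ χ hχ z hz
    rw [mem_blockOf] at hξ
    have h1 := (sameBlock_iff.1 hξ) (resZ K z) (resZ_mem K hz)
    have h2 := (sameBlock_iff.1 ((isPBlock_mem_iff hb h0 χ).1 hχ)) z hz
    exact locI_trans (locI_trans (locI_sub_comm.1 h1) (h z hz)) h2

theorem isUnion_Y [M.IsPrime] (b : Set (IrrCharacter G)) (K : Subgroup G) : IsUnion M (Y M b K) := by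
  rintro ψ ⟨β, h1, h2⟩ ψ' h3
  exact ⟨β, (isPBlock_mem_iff h2.1 h1 ψ').2 h3, h2⟩

/-- transport of central characters -/
theorem omega_trI {N : Subgroup G} (L : Subgroup N) (ξ : IrrCharacter L) (z : ZG G) :
    omega (trI (L.equivMapOfInjective N.subtype N.subtype_injective) ξ) (resZ (L.map N.subtype) z) =
      omega ξ (resZ L (resZ N z)) := by
  rw [omega_eq_sum, omega_eq_sum, ← Equiv.sum_comp (L.equivMapOfInjective N.subtype N.subtype_injective).toEquiv]
  congr 1
  · apply Finset.sum_congr rfl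
    intro x _
    rw [zc_resZ, zc_resZ, zc_resZ]
    congr 1
    rw [trI_apply]
    congr 1
    exact congrArg (ξ : L → ℂ) (MulEquiv.symm_apply_apply (L.equivMapOfInjective N.subtype N.subtype_injective) x)
  · rw [trI_apply, map_one]

theorem Xu_Y [M.IsPrime] (hM : IsPModular p M) {b : Set (IrrCharacter G)} (hb : IsPBlock M b) {N : Subgroup G}
    {u : N} (hu : ∃ k : ℕ, orderOf u = p ^ k) :
    trI ((C u).equivMapOfInjective N.subtype N.subtype_injective) '' (Xu M (Y M b N) u) =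
      Y M b ((C u).map N.subtype) := by
  obtain ⟨χ0, h0⟩ := isPBlock_nonempty hb
  have key : ∀ ξ : IrrCharacter (C u), ξ ∈ Xu M (Y M b N) u ↔
      trI ((C u).equivMapOfInjective N.subtype N.subtype_injective) ξ ∈ Y M b ((C u).map N.subtype) := by
    intro ξ
    obtain ⟨γ, hγ⟩ := H19.BrMap2.induced_centralizer hM u hu (isPBlock_blockOf (M := M) ξ)
    obtain ⟨χ, hχ⟩ := isPBlock_nonempty hγ.2.1
    have h1 : ∀ z ∈ zr M G, MemLocalIdeal M (omega ξ (resZ (C u) (resZ N z)) - omega χ (resZ N z)) :=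
      fun z hz => isInducedBlock_omega hγ (mem_blockOf_self ξ) hχ (resZ_mem N hz)
    have h2 : trI ((C u).equivMapOfInjective N.subtype N.subtype_injective) ξ ∈ Y M b ((C u).map N.subtype) ↔
        χ ∈ Y M b N := by
      rw [mem_Y_iff hb h0, mem_Y_iff hb h0]
      constructor
      · intro h z hz
        have h3 := h z hz
        rw [omega_trI] at h3
        exact locI_trans (locI_sub_comm.1 (h1 z hz)) h3
      · intro h z hz
        rw [omega_trI]
        exact locI_trans (h1 z hz) (h z hz)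
    rw [h2]
    constructor
    · rintro ⟨γ', h3, h4⟩
      rw [isInducedBlock_unique h4 hγ] at h3
      exact h3 hχ
    · intro h
      refine ⟨γ, ?_, hγ⟩
      intro χ' hχ'
      exact isUnion_Y b N χ h χ' ((isPBlock_mem_iff hγ.2.1 hχ χ').1 hχ')
  ext ψ
  constructor
  · rintro ⟨ξ, hξ, rfl⟩
    exact (key ξ).1 hξ
  · intro hψ
    refine ⟨trI ((C u).equivMapOfInjective N.subtype N.subtype_injective).symm ψ, ?_, trI_trI_symm _ _⟩
    rw [key, trI_trI_symm]
    exact hψ

/-- the weight of a subgroup -/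
noncomputable def gw (p : ℕ) (M : Ideal AlgInt) (b : Set (IrrCharacter G)) (K : Subgroup G) : ℤ :=
  (Nat.card K : ℤ) * (blockRank p (Y M b K) : ℤ)

theorem map_C {N : Subgroup G} (u : N) : (C u).map N.subtype = N ⊓ Subgroup.centralizer ({(u : G)} : Set G) := by
  ext x
  rw [Subgroup.mem_inf, Subgroup.mem_centralizer_singleton_iff]
  constructor
  · rintro ⟨y, hy, rfl⟩
    exact ⟨y.2, congrArg Subtype.val (Subgroup.mem_centralizer_singleton_iff.1 hy)⟩
  · rintro ⟨h1, h2⟩
    exact ⟨⟨x, h1⟩, Subgroup.mem_centralizer_singleton_iff.2 (Subtype.ext h2), rfl⟩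

theorem gw_eq [M.IsPrime] (hM : IsPModular p M) {b : Set (IrrCharacter G)} (hb : IsPBlock M b) {N : Subgroup G}
    {u : N} (hu : ∃ k : ℕ, orderOf u = p ^ k) :
    gw p M b (N ⊓ Subgroup.centralizer ({(u : G)} : Set G)) =
      (Nat.card (C u) : ℤ) * (blockRank p (Xu M (Y M b N) u) : ℤ) := by
  rw [← map_C, gw, ← Xu_Y hM hb hu, blockRank_trI]
  congr 2
  exact (Nat.card_congr ((C u).equivMapOfInjective N.subtype N.subtype_injective).toEquiv).symm

open Classical in
/-- counting in a subgroup -/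
theorem count_sub (hM : IsPModular p M) {b : Set (IrrCharacter G)} (hb : IsPBlock M b) (N : Subgroup G) :
    (Nat.card N : ℤ) * (Nat.card (Y M b N) : ℤ) = ∑ u : G,
      if u ∈ N ∧ ∃ k : ℕ, orderOf u = p ^ k then gw p M b (N ⊓ Subgroup.centralizer ({u} : Set G)) else 0 := by
  have := hM.2.1
  have hpr := pm_isPrime hM
  have h1 := count_union hM (isUnion_Y (M := M) b N)
  have h2 : ((Nat.card N : ℤ) * (Nat.card (Y M b N) : ℤ)) = ∑ x : {x : N // ∃ k : ℕ, orderOf x = p ^ k},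
      (Nat.card (C x.1) : ℤ) * (blockRank p (Xu M (Y M b N) x.1) : ℤ) := by
    exact_mod_cast h1
  rw [h2, ← Finset.sum_filter]
  apply Finset.sum_bij (fun (x : {x : N // ∃ k : ℕ, orderOf x = p ^ k}) _ => ((x.1 : N) : G))
  · intro x _
    rw [Finset.mem_filter]
    refine ⟨Finset.mem_univ _, x.1.2, ?_⟩
    rw [Subgroup.orderOf_coe]
    exact x.2
  · intro x _ y _ h
    exact Subtype.ext (Subtype.ext h)
  · intro u hu
    obtain ⟨-, h3, h4⟩ := Finset.mem_filter.1 hu
    exact ⟨⟨⟨u, h3⟩, by rwa [← Subgroup.orderOf_coe]⟩, Finset.mem_univ _, rfl⟩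
  · intro x _
    exact (gw_eq hM hb x.2).symm

open Classical in
theorem count_diff (hM : IsPModular p M) {b : Set (IrrCharacter G)} (hb : IsPBlock M b) (N : Subgroup G) :
    (Nat.card N : ℤ) * ((Nat.card (Y M b N) : ℤ) - (blockRank p (Y M b N) : ℤ)) = ∑ u : G,
      if u ≠ 1 ∧ (∃ k : ℕ, orderOf u = p ^ k) ∧ u ∈ N then gw p M b (N ⊓ Subgroup.centralizer ({u} : Set G)) else 0 := by
  rw [mul_sub, count_sub hM hb, ← Finset.add_sum_erase _ _ (Finset.mem_univ (1 : G))]
  have h1 : N ⊓ Subgroup.centralizer ({(1 : G)} : Set G) = N := by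
    apply inf_eq_left.2
    intro x _
    rw [Subgroup.mem_centralizer_singleton_iff]
    simp
  rw [if_pos ⟨one_mem N, 0, by simp⟩, h1]
  have h2 : gw p M b N = (Nat.card N : ℤ) * (blockRank p (Y M b N) : ℤ) := rfl
  rw [h2, add_sub_cancel_left]
  rw [← Finset.add_sum_erase Finset.univ (fun u : G => if u ≠ 1 ∧ (∃ k : ℕ, orderOf u = p ^ k) ∧ u ∈ N then
    gw p M b (N ⊓ Subgroup.centralizer ({u} : Set G)) else 0) (Finset.mem_univ (1 : G)), if_neg (fun h => h.1 rfl), zero_add]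
  apply Finset.sum_congr rfl
  intro u hu
  have hu1 := Finset.ne_of_mem_erase hu
  have h3 : (u ∈ N ∧ ∃ k : ℕ, orderOf u = p ^ k) ↔ (u ≠ 1 ∧ (∃ k : ℕ, orderOf u = p ^ k) ∧ u ∈ N) :=
    ⟨fun h => ⟨hu1, h.2, h.1⟩, fun h => ⟨h.2.2, h.2.1⟩⟩
  simp only [h3]

/-- the whole group -/
theorem Y_top [M.IsPrime] {b : Set (IrrCharacter G)} (hb : IsPBlock M b) :
    trI (Subgroup.topEquiv (G := G)).symm '' b = Y M b ⊤ := by
  obtain ⟨χ0, h0⟩ := isPBlock_nonempty hb
  have hom : ∀ (χ : IrrCharacter G) (z : ZG G), omega (trI (Subgroup.topEquiv (G := G)).symm χ) (resZ ⊤ z) =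
      omega χ z := by
    intro χ z
    rw [omega_eq_sum, omega_eq_sum, ← Equiv.sum_comp (Subgroup.topEquiv (G := G)).symm.toEquiv]
    rfl
  have key : ∀ χ : IrrCharacter G, χ ∈ b ↔ trI (Subgroup.topEquiv (G := G)).symm χ ∈ Y M b ⊤ := by
    intro χ
    rw [mem_Y_iff hb h0, isPBlock_mem_iff hb h0 χ, sameBlock_iff]
    constructor
    · intro h z hz
      rw [hom]
      exact locI_sub_comm.1 (h z hz)
    · intro h z hz
      have := h z hz
      rw [hom] at this
      exact locI_sub_comm.1 this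
  ext ψ
  constructor
  · rintro ⟨χ, hχ, rfl⟩
    exact (key χ).1 hχ
  · intro hψ
    refine ⟨trI (Subgroup.topEquiv (G := G)).symm.symm ψ, ?_, trI_trI_symm _ _⟩
    rw [key, trI_trI_symm]
    exact hψ

end H84.KR
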