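import Cfsg.Agent.Lib.H84.FL11
import Cfsg.Agent.Lib.H80.ML22

/-!
# Cyclic defect groups: the number of Brauer characters is the inertial index
-/

set_option autoImplicit false
set_option linter.unusedSectionVars false
set_option linter.unusedVariables false

namespace H84.FL

open Cfsg H20.Loc H20.GA H80.GA H80.GB H80.GC H80.GD H80.GE H80.GF H80.GG H80.GH H80.GJ H80.FS H84.RG H18.CharBasic H18.CharOrtho H84.TrR
open H20.Blk H20.Orth H20.Ind H20.Height H20.Defect H80.BR1 H80.BR2 H19.Second H19.Second3 H81.Section H81.Contrib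
open H84.Star H84.Wat H80.BR7 H84.FR
open scoped ComplexConjugate

universe u v u'

attribute [local instance 2000] Fintype.ofFinite

variable {M : Ideal AlgInt} [M.IsMaximal] {G : Type u} [Group G] [Finite G] {p : ℕ}
variable [Fact p.Prime] [CharP (ResF M) p] [Algebra (ZMod p) (ResF M)] [Algebra.IsAlgebraic (ZMod p) (ResF M)]
variable {B : Set (IrrCharacter G)} {P : Subgroup G} {e : MonoidAlgebra (ResF M) G}

theorem cent_le_ST {b : MonoidAlgebra (ResF M) G} (hmax : IsMax p ⊤ b P e) :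
    Subgroup.centralizer (P : Set G) ≤ ST ⊤ P e := by
  have h1 := CH_le_ST (k := ResF M) (H := (⊤ : Subgroup G)) (Q := P) hmax.of.pair.blk.mem.1
  have h2 : CH (⊤ : Subgroup G) P = Subgroup.centralizer (P : Set G) := by
    unfold CH
    simp
  rwa [h2] at h1

theorem cop_WT {b : MonoidAlgebra (ResF M) G} [IsAlgClosed (ResF M)] (hmax : IsMax p ⊤ b P e)
    (hab : ∀ x ∈ P, ∀ y ∈ P, x * y = y * x) : ¬ p ∣ Nat.card (WT P e) := by
  have h1 := H80.GX.index_ST hmax
  rw [CH_top, sup_eq_right.2 (H80.BR11.le_cent_of_ab hab)] at h1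
  rwa [card_WT (cent_le_ST hmax)]

theorem ST_le_N {b : MonoidAlgebra (ResF M) G} : ST ⊤ P e ≤ Subgroup.normalizer (P : Set G) := fun _ hg => hg.2.1

/-- freeness for cyclic defect groups -/
theorem free_cyclic {b : MonoidAlgebra (ResF M) G} [IsAlgClosed (ResF M)] (hmax : IsMax p ⊤ b P e) (hcyc : IsCyclic P) :
    ∀ g ∈ ST ⊤ P e, ∀ x ∈ P, x ≠ 1 → g * x * g⁻¹ = x → g ∈ Subgroup.centralizer (P : Set G) := by
  have h1 := cop_WT hmax (H80.BR11.ab_of_cyclic hcyc)
  rw [card_WT (cent_le_ST hmax)] at h1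
  exact H80.CY.cyc_free hcyc hmax.of.pair.pgr (fun _ hg => hg.2.1) (cent_le_ST hmax) h1

/-- nilpotency in terms of the inertial quotient -/
theorem nilp_iff_card {b : MonoidAlgebra (ResF M) G} [IsAlgClosed (ResF M)] (hmax : IsMax p ⊤ b P e)
    (hab : ∀ x ∈ P, ∀ y ∈ P, x * y = y * x) : H80.FS3.Nilp p ⊤ b ↔ Nat.card (WT P e) = 1 := by
  rw [H80.GV.nilp_abelian hmax hab, card_WT (cent_le_ST hmax), Subgroup.relIndex_eq_one]
  rfl

theorem rank_eq_max_cyclic [IsAlgClosed (ResF M)] (hM : IsPModular p M) (hmax : IsMax p ⊤ (ebar M B) P e)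
    (hB : IsPBlock M B) (hcyc : IsCyclic P) (hP1 : P ≠ ⊥) : blockRank p B = Nat.card (WT P e) := by
  have hfree := free_cyclic hmax hcyc
  have hcop := cop_WT hmax (H80.BR11.ab_of_cyclic hcyc)
  refine le_antisymm (rank_le_max_cyclic hM hmax hB hcyc hP1 hfree hcop) ?_
  rw [card_WT (cent_le_ST hmax)]
  exact H80.ML22.lower hM hB hmax hcyc hP1 hfree

end H84.FL
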