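import Cfsg.Agent.Lib.H84.GL6
import Cfsg.Agent.Lib.H84.FL12
import Cfsg.Agent.Lib.H84.Star15
import Cfsg.Agent.Lib.H5.TDf

/-!
# Blocks with Klein four defect groups: signs and relations
-/

set_option autoImplicit false
set_option linter.unusedSectionVars false
set_option linter.unusedVariables false

namespace H84.KL

open Cfsg H20.Loc H20.GA H80.GA H80.GB H80.GC H80.GD H80.GE H80.GF H80.GG H80.GH H80.GJ H80.FS H84.RG H18.CharBasic H18.CharOrtho H84.TrR
open H20.Blk H20.Orth H20.Ind H20.Height H20.Defect H80.BR1 H80.BR2 H19.Second H19.Second3 H81.Section H81.Contrib H84.Star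
open H78.BlkCount H5.TCa H5.TDf H84.FL
open scoped ComplexConjugate

universe u

attribute [local instance 2000] Fintype.ofFinite

variable {M : Ideal AlgInt} [M.IsMaximal] {G : Type u} [Group G] [Finite G]

/-- numerical part -/
theorem num {s a b c : ℤ} (ha : a ≠ 0) (hb : b ≠ 0) (hc : c ≠ 0) (h : s ^ 2 + a ^ 2 + b ^ 2 + c ^ 2 = 4 * s) :
    (s = 1 ∨ s = 3) ∧ (a = 1 ∨ a = -1) ∧ (b = 1 ∨ b = -1) ∧ (c = 1 ∨ c = -1) := by
  have sq : ∀ x : ℤ, x ≠ 0 → 1 ≤ x ^ 2 := by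
    intro x hx
    have : 0 < x ^ 2 := by positivity
    omega
  have h1 := sq a ha
  have h2 := sq b hb
  have h3 := sq c hc
  have h4 : (s - 2) ^ 2 + a ^ 2 + b ^ 2 + c ^ 2 = 4 := by linear_combination h
  have h5 : 0 ≤ (s - 2) ^ 2 := sq_nonneg _
  have one : ∀ x : ℤ, 1 ≤ x ^ 2 → x ^ 2 ≤ 2 → x = 1 ∨ x = -1 := by
    intro x hx hx2
    have h6 : x < 2 := by nlinarith
    have h7 : -2 < x := by nlinarith
    have h8 : x ≠ 0 := by rintro rfl; norm_num at hx
    omega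
  have ea := one a h1 (by linarith)
  have eb := one b h2 (by linarith)
  have ec := one c h3 (by linarith)
  have qa : a ^ 2 = 1 := by rcases ea with rfl | rfl <;> norm_num
  have qb : b ^ 2 = 1 := by rcases eb with rfl | rfl <;> norm_num
  have qc : c ^ 2 = 1 := by rcases ec with rfl | rfl <;> norm_num
  refine ⟨?_, ea, eb, ec⟩
  have h6 : (s - 1) * (s - 3) = 0 := by linear_combination h4 - qa - qb - qc
  rcases mul_eq_zero.1 h6 with h7 | h7
  · left; linarith
  · right; linarith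

section gen

/-- the enumeration of a block with four characters beginning with a given one -/
theorem exists_enum {B : Set (IrrCharacter G)} (h4 : Nat.card B = 4) {χ : IrrCharacter G} (hχ : χ ∈ B) :
    ∃ Y : Fin 4 → IrrCharacter G, Function.Injective Y ∧ (∀ θ, θ ∈ B ↔ ∃ i, θ = Y i) ∧ Y 0 = χ := by
  classical
  have e0 : B ≃ Fin 4 := Finite.equivFinOfCardEq h4
  set e : Fin 4 ≃ B := (Equiv.swap (0 : Fin 4) (e0 ⟨χ, hχ⟩)).trans e0.symm with he
  refine ⟨fun i => (e i : IrrCharacter G), ?_, ?_, ?_⟩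
  · intro i j hij
    exact e.injective (Subtype.ext hij)
  · intro θ
    constructor
    · intro hθ
      exact ⟨e.symm ⟨θ, hθ⟩, by simp⟩
    · rintro ⟨i, rfl⟩
      exact (e i).2
  · simp [he]

variable {B : Set (IrrCharacter G)} {Y : Fin 4 → IrrCharacter G}

theorem sum_four (hY : Function.Injective Y) (hB4 : ∀ θ, θ ∈ B ↔ ∃ i, θ = Y i) {a : IrrCharacter G → ℤ}
    (ha : ∀ θ, θ ∉ B → a θ = 0) : ∑ θ : IrrCharacter G, (a θ) ^ 2 = (a (Y 0)) ^ 2 + (a (Y 1)) ^ 2 + (a (Y 2)) ^ 2 + (a (Y 3)) ^ 2 := by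
  classical
  have h1 : ∑ θ : IrrCharacter G, (a θ) ^ 2 = ∑ θ ∈ Finset.univ.image Y, (a θ) ^ 2 := by
    symm
    apply Finset.sum_subset (Finset.subset_univ _)
    intro θ _ hθ
    rw [ha θ, zero_pow two_ne_zero]
    intro hB
    obtain ⟨i, rfl⟩ := (hB4 θ).1 hB
    exact hθ (Finset.mem_image_of_mem _ (Finset.mem_univ _))
  rw [h1, Finset.sum_image (fun i _ j _ hij => hY hij), Fin.sum_univ_four]

/-- the row of a character of height zero -/
theorem row (hM : IsPModular 2 M) (hB : IsPBlock M B) (hd : blockDefect 2 B = 2) (hY : Function.Injective Y)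
    (hB4 : ∀ θ, θ ∈ B ↔ ∃ i, θ = Y i) (h0 : blockHeight 2 B (Y 0 : G → ℂ) = 0) :
    ∃ a : IrrCharacter G → ℤ, (∀ θ : IrrCharacter G, 4 * classInner (reg 2 (Y 0 : G → ℂ)) (θ : G → ℂ) = a θ) ∧
      (∀ θ, θ ∉ B → a θ = 0) ∧ (a (Y 0) = 1 ∨ a (Y 0) = 3) ∧ (∀ i, i ≠ 0 → a (Y i) = 1 ∨ a (Y i) = -1) ∧
      ∀ i, blockHeight 2 B (Y i : G → ℂ) = 0 := by
  have hm : ∀ i, Y i ∈ B := fun i => (hB4 _).2 ⟨i, rfl⟩
  obtain ⟨a, h1, h2, -, -, -, h6, h7⟩ := H81.RegMat.exists_row hM hB (hm 0)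
  rw [sum_four hY hB4 h2, hd] at h7
  rw [hd] at h1
  have hne : ∀ i, a (Y i) ≠ 0 := by
    intro i hi
    have := (h6 _ (hm i) h0).2
    rw [hi] at this
    exact this (dvd_zero _)
  have h7' : a (Y 0) ^ 2 + a (Y 1) ^ 2 + a (Y 2) ^ 2 + a (Y 3) ^ 2 = 4 * a (Y 0) := by
    rw [h7]; norm_num
  have h8 := num (hne 1) (hne 2) (hne 3) h7'
  obtain ⟨k0, k1, k2, k3⟩ := h8
  have hsgn : ∀ i, i ≠ 0 → a (Y i) = 1 ∨ a (Y i) = -1 := by
    intro i hi
    match i, hi with
    | 0, hi => exact absurd rfl hi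
    | 1, _ => exact k1
    | 2, _ => exact k2
    | 3, _ => exact k3
  have hodd : ∀ i, ¬ (2 : ℤ) ∣ a (Y i) := by
    intro i
    by_cases hi : i = 0
    · subst hi
      rcases k0 with h | h <;> rw [h] <;> norm_num
    · rcases hsgn i hi with h | h <;> rw [h] <;> norm_num
  refine ⟨a, fun θ => ?_, h2, k0, hsgn, fun i => ?_⟩
  · rw [← h1 θ]; norm_num
  · by_contra hne0
    apply hodd i
    have h9 := (h6 _ (hm i) h0).1
    refine dvd_trans ?_ h9
    push_cast
    exact dvd_pow_self 2 hne0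

open Classical in
theorem ind (χ θ : IrrCharacter G) : classInner (χ : G → ℂ) (θ : G → ℂ) = if χ = θ then 1 else 0 := by
  split_ifs with h
  · rw [h]; exact inner_irr_self θ.2
  · exact inner_irr_ne χ.2 θ.2 (fun hc => h (Subtype.ext hc))

theorem reg_class (χ : IrrCharacter G) : IsClassFunction G (reg 2 (χ : G → ℂ)) := by
  intro g x
  have h1 : orderOf (x * g * x⁻¹) = orderOf g := H20.Orth.orderOf_conj _ _
  by_cases h : 2 ∣ orderOf g
  · rw [reg_not h, reg_not (by rw [h1]; exact h)]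
  · rw [reg_of h, reg_of (by rw [h1]; exact h)]
    exact isClassFunction_of_isIrr χ.2 g x

theorem kernel_fun (hM : IsPModular 2 M) (hB : IsPBlock M B) (χ : IrrCharacter G) (hχ : χ ∈ B) :
    ((χ : G → ℂ) - reg 2 (χ : G → ℂ)) ∈ spn B ∧ reg 2 ((χ : G → ℂ) - reg 2 (χ : G → ℂ)) = 0 := by
  have h1 : (χ : G → ℂ) ∈ spn B := Submodule.subset_span ⟨χ, hχ, rfl⟩
  refine ⟨Submodule.sub_mem _ h1 (reg_mem_spn hM hB h1), ?_⟩
  rw [sub_eq_add_neg, ← neg_one_smul ℂ (reg 2 (χ : G → ℂ)), H81.Contrib.reg_add, H81.Contrib.reg_smul,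
    H81.Contrib.reg_reg, neg_one_smul, add_neg_cancel]

theorem sym {χ θ : IrrCharacter G} {a : ℤ} (h : 4 * classInner (reg 2 (χ : G → ℂ)) (θ : G → ℂ) = a) :
    4 * classInner (reg 2 (θ : G → ℂ)) (χ : G → ℂ) = a := by
  rw [H81.Contrib.inner_reg_comm, ← H18.CharOrtho.inner_conj_symm]
  have h2 : conj (4 * classInner (reg 2 (χ : G → ℂ)) (θ : G → ℂ)) = a := by rw [h, map_intCast]
  rw [map_mul, Complex.conj_ofNat] at h2
  exact h2

/-- rank one -/
theorem rank_one (hM : IsPModular 2 M) (hB : IsPBlock M B) (hd : blockDefect 2 B = 2) (hY : Function.Injective Y)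
    (hB4 : ∀ θ, θ ∈ B ↔ ∃ i, θ = Y i) (h0 : blockHeight 2 B (Y 0 : G → ℂ) = 0) (hl : blockRank 2 B = 1) :
    ∃ δ : Fin 4 → ℤ, (∀ i, δ i = 1 ∨ δ i = -1) ∧
      ∀ i j, reg 2 ((δ i : ℂ) • (Y i : G → ℂ)) = reg 2 ((δ j : ℂ) • (Y j : G → ℂ)) := by
  have hm : ∀ i, Y i ∈ B := fun i => (hB4 _).2 ⟨i, rfl⟩
  obtain ⟨a, h1, h2, k0, k, -⟩ := row hM hB hd hY hB4 h0
  have hmr : ∀ i, reg 2 (Y i : G → ℂ) ∈ rspn 2 B := by
    intro i
    apply Submodule.subset_span
    exact ⟨Y i, hm i, H81.Contrib.pRegularPart_eq 2 _⟩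
  have hv : (⟨reg 2 (Y 0 : G → ℂ), hmr 0⟩ : rspn 2 B) ≠ 0 := by
    intro h
    have h3 : reg 2 (Y 0 : G → ℂ) = 0 := congrArg Subtype.val h
    have h4 := h1 (Y 0)
    rw [h3, H18.CharOrtho.inner_zero_left, mul_zero] at h4
    have h5 : a (Y 0) = 0 := by exact_mod_cast h4.symm
    rcases k0 with h | h <;> omega
  have hl' : Module.finrank ℂ (rspn 2 B) = 1 := hl
  have h3 := (finrank_eq_one_iff_of_nonzero' _ hv).1 hl'
  have h4 : ∀ i, ∃ c : ℂ, reg 2 (Y i : G → ℂ) = c • reg 2 (Y 0 : G → ℂ) := by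
    intro i
    obtain ⟨c, hc⟩ := h3 ⟨reg 2 (Y i : G → ℂ), hmr i⟩
    exact ⟨c, (congrArg Subtype.val hc).symm⟩
  choose c hc using h4
  have h5 : ∀ i, c i * (a (Y 0) : ℂ) = a (Y i) := by
    intro i
    have h6 := sym (h1 (Y i))
    rw [hc i, H18.CharOrtho.inner_smul_left] at h6
    rw [← h1 (Y 0)]
    linear_combination h6
  -- the diagonal entry is one
  have h6 : a (Y 0) = 1 := by
    rcases k0 with h | h
    · exact h
    exfalso
    obtain ⟨b, hb, -⟩ := H81.RegMat.exists_row hM hB (hm 1)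
    rw [hd] at hb
    have h7 := hb (Y 1)
    rw [hc 1, H18.CharOrtho.inner_smul_left] at h7
    have h8 := h5 1
    rw [h] at h8
    have h9 := h1 (Y 1)
    have h10 : (a (Y 1) : ℂ) * (a (Y 1) : ℂ) = 3 * (b (Y 1) : ℂ) := by
      rw [← h7]
      push_cast at h8 ⊢
      rw [← h9]
      linear_combination (4 * classInner (reg 2 (Y 0 : G → ℂ)) (Y 1 : G → ℂ)) * (h9 - h8)
    have h11 : a (Y 1) * a (Y 1) = 3 * b (Y 1) := by exact_mod_cast h10
    rcases k 1 (by decide) with h12 | h12 <;> rw [h12] at h11 <;> omega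
  refine ⟨fun i => a (Y i), fun i => ?_, ?_⟩
  · by_cases hi : i = 0
    · subst hi; exact Or.inl h6
    · exact k i hi
  have h7 : ∀ i, reg 2 ((a (Y i) : ℂ) • (Y i : G → ℂ)) = reg 2 (Y 0 : G → ℂ) := by
    intro i
    rw [H81.Contrib.reg_smul, hc i, smul_smul]
    have h8 := h5 i
    rw [h6, Int.cast_one, mul_one] at h8
    rw [h8]
    have h9 : (a (Y i) : ℂ) * (a (Y i) : ℂ) = 1 := by
      have : a (Y i) = 1 ∨ a (Y i) = -1 := by
        by_cases hi : i = 0
        · subst hi; exact Or.inl h6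
        · exact k i hi
      rcases this with h | h <;> rw [h] <;> norm_num
    rw [h9, one_smul]
  intro i j
  rw [h7 i, h7 j]

/-- rank three -/
theorem rank_three (hM : IsPModular 2 M) (hB : IsPBlock M B) (hd : blockDefect 2 B = 2) (hY : Function.Injective Y)
    (hB4 : ∀ θ, θ ∈ B ↔ ∃ i, θ = Y i) (h4 : Nat.card B = 4) (h0 : blockHeight 2 B (Y 0 : G → ℂ) = 0)
    (hl : blockRank 2 B = 3) :
    ∃ δ : Fin 4 → ℤ, (∀ i, δ i = 1 ∨ δ i = -1) ∧ reg 2 (∑ i, (δ i : ℂ) • (Y i : G → ℂ)) = 0 := by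
  classical
  have hm : ∀ i, Y i ∈ B := fun i => (hB4 _).2 ⟨i, rfl⟩
  obtain ⟨a, h1, h2, k0, k, hh⟩ := row hM hB hd hY hB4 h0
  -- the diagonal entry is three
  have h6 : a (Y 0) = 3 := by
    rcases k0 with h | h
    swap
    · exact h
    exfalso
    obtain ⟨b, hb, -, -, -, -, -, -⟩ := H81.RegMat.exists_row hM hB (hm 1)
    rw [hd] at hb
    have hb' : ∀ θ : IrrCharacter G, 4 * classInner (reg 2 (Y 1 : G → ℂ)) (θ : G → ℂ) = b θ := by
      intro θ; rw [← hb θ]; norm_num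
    have hb0 : b (Y 0) = a (Y 1) := by
      have h7 := sym (h1 (Y 1))
      rw [hb'] at h7
      exact_mod_cast h7
    obtain ⟨f0, r0⟩ := kernel_fun hM hB (Y 0) (hm 0)
    obtain ⟨f1, r1⟩ := kernel_fun hM hB (Y 1) (hm 1)
    have hlin : LinearIndependent ℂ ![(Y 0 : G → ℂ) - reg 2 (Y 0 : G → ℂ), (Y 1 : G → ℂ) - reg 2 (Y 1 : G → ℂ)] := by
      rw [LinearIndependent.pair_iff]
      intro s t hst
      have e0 := congrArg (fun f => 4 * classInner f (Y 0 : G → ℂ)) hst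
      have e1 := congrArg (fun f => 4 * classInner f (Y 1 : G → ℂ)) hst
      have n01 : Y 0 ≠ Y 1 := fun hc => absurd (hY hc) (by decide)
      simp only [H18.CharOrtho.inner_add_left, H18.CharOrtho.inner_smul_left, H18.CharOrtho.inner_sub_left,
        H18.CharOrtho.inner_zero_left, ind, if_pos, if_neg n01, if_neg n01.symm, mul_zero] at e0 e1
      have a00 := h1 (Y 0)
      have a01 := h1 (Y 1)
      have b10 := hb' (Y 0)
      have b11 := hb' (Y 1)
      rw [h] at a00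
      rw [hb0] at b10
      have E0 : 3 * s - (a (Y 1) : ℂ) * t = 0 := by
        push_cast at a00
        linear_combination e0 + s * a00 + t * b10
      have E1 : -(a (Y 1) : ℂ) * s + (4 - (b (Y 1) : ℂ)) * t = 0 := by
        linear_combination e1 + s * a01 + t * b11
      have sg : (a (Y 1) : ℂ) * (a (Y 1) : ℂ) = 1 := by
        rcases k 1 (by decide) with h7 | h7 <;> rw [h7] <;> norm_num
      have ht : ((3 * (4 - b (Y 1)) - 1 : ℤ) : ℂ) * t = 0 := by
        push_cast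
        linear_combination 3 * E1 + (a (Y 1) : ℂ) * E0 + t * sg
      have ht0 : t = 0 := by
        rcases mul_eq_zero.1 ht with h7 | h7
        · exfalso
          have h8 : 3 * (4 - b (Y 1)) - 1 = 0 := by exact_mod_cast h7
          omega
        · exact h7
      refine ⟨?_, ht0⟩
      rw [ht0, mul_zero, sub_zero] at E0
      rcases mul_eq_zero.1 E0 with h7 | h7
      · exact absurd h7 three_ne_zero
      · exact h7
    have h7 := rank_add_le (p := 2) (B := B) hlin (by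
      intro i
      match i with
      | 0 => exact f0
      | 1 => exact f1) (by
      intro i
      match i with
      | 0 => exact r0
      | 1 => exact r1)
    rw [hl, h4, Nat.card_fin] at h7
    omega
  refine ⟨fun i => if i = 0 then 1 else -a (Y i), fun i => ?_, ?_⟩
  · show (if i = 0 then (1 : ℤ) else -a (Y i)) = 1 ∨ (if i = 0 then (1 : ℤ) else -a (Y i)) = -1
    by_cases hi : i = 0
    · left; rw [if_pos hi]
    · rw [if_neg hi]
      rcases k i hi with h | h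
      · right; rw [h]
      · left; rw [h]; norm_num
  have h7 : (∑ i : Fin 4, (((if i = 0 then 1 else -a (Y i) : ℤ)) : ℂ) • (Y i : G → ℂ)) =
      (4 : ℂ) • ((Y 0 : G → ℂ) - reg 2 (Y 0 : G → ℂ)) := by
    obtain ⟨f0, r0⟩ := kernel_fun hM hB (Y 0) (hm 0)
    apply eq_of_coef
    · apply class_of_mem_spn (S := B)
      exact Submodule.sum_mem _ fun i _ => Submodule.smul_mem _ _ (Submodule.subset_span ⟨Y i, hm i, rfl⟩)
    · exact class_of_mem_spn (Submodule.smul_mem _ _ f0)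
    intro χ
    rw [H18.CharOrtho.inner_sum_left, H18.CharOrtho.inner_smul_left, H18.CharOrtho.inner_sub_left, mul_sub, h1 χ]
    by_cases hχ : χ ∈ B
    · obtain ⟨j, rfl⟩ := (hB4 χ).1 hχ
      rw [Finset.sum_eq_single j]
      · rw [H18.CharOrtho.inner_smul_left, ind, ind, if_pos rfl]
        by_cases hj : j = 0
        · subst hj
          rw [if_pos rfl, if_pos rfl, h6]; norm_num
        · rw [if_neg hj, if_neg (fun hc => hj (hY hc).symm)]
          push_cast; ring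
      · intro i _ hij
        rw [H18.CharOrtho.inner_smul_left, ind, if_neg (fun hc => hij (hY hc)), mul_zero]
      · intro h; exact absurd (Finset.mem_univ _) h
    · rw [h2 χ hχ, ind, if_neg (fun hc : Y 0 = χ => hχ (hc ▸ hm 0))]
      rw [Finset.sum_eq_zero]
      · norm_num
      · intro i _
        rw [H18.CharOrtho.inner_smul_left, ind, if_neg (fun hc : Y i = χ => hχ (hc ▸ hm i)), mul_zero]
  rw [h7, H81.Contrib.reg_smul, (kernel_fun hM hB (Y 0) (hm 0)).2, smul_zero]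

end gen

variable [CharP (ResF M) 2] [Algebra (ZMod 2) (ResF M)] [Algebra.IsAlgebraic (ZMod 2) (ResF M)]
  [IsAlgClosed (ResF M)]

theorem card_rank (hM : IsPModular 2 M) {B : Set (IrrCharacter G)} (hB : IsPBlock M B) {D : Subgroup G}
    (hD : IsDefectGroup 2 M B D) (hc : Nat.card D = 4) (hsq : ∀ d ∈ D, d * d = 1) :
    Nat.card B = 4 ∧ (blockRank 2 B = 1 ∨ blockRank 2 B = 3) := by
  haveI : Fact (Nat.Prime 2) := ⟨Nat.prime_two⟩
  have hab : ∀ x ∈ D, ∀ y ∈ D, x * y = y * x := by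
    intro x hx y hy
    have h1 : ∀ z ∈ D, z⁻¹ = z := fun z hz => inv_eq_of_mul_eq_one_right (hsq z hz)
    rw [← h1 (x * y) (D.mul_mem hx hy), mul_inv_rev, h1 x hx, h1 y hy]
  have hV : IsKleinFour D := by
    constructor
    · exact hc
    · apply Nat.dvd_antisymm
      · exact Monoid.exponent_dvd_of_forall_pow_eq_one fun d => Subtype.ext (by rw [pow_two]; exact hsq d d.2)
      · have hne : Monoid.exponent D ≠ 1 := by
          intro h
          have h1 : Subsingleton D := Monoid.exp_eq_one_iff.1 h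
          rw [Nat.card_of_subsingleton (1 : D)] at hc
          omega
        have h2 : Monoid.exponent D ∣ 2 :=
          Monoid.exponent_dvd_of_forall_pow_eq_one fun d => Subtype.ext (by rw [pow_two]; exact hsq d d.2)
        rcases (Nat.dvd_prime Nat.prime_two).1 h2 with h3 | h3
        · exact absurd h3 hne
        · rw [h3]
  have hD1 : D ≠ ⊥ := by
    rintro rfl
    rw [Subgroup.card_bot] at hc
    omega
  obtain ⟨e, hmax⟩ := exists_isMax_of_isDefectGroup hM hB hD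
  have hcop := cop_WT hmax hab
  have hfree := H84.GL.free_klein (e := e) hV hcop
  obtain ⟨n, rep, hrep⟩ := H84.FR.exists_reps (H84.FL.sub_comm hab) (WT D e)
  have hn := hrep.card (H84.FL.sub_comm hab) (WT_free hfree)
  have hk := H84.FL.card_eq hM hmax hB hab hfree hn
  rw [hc] at hn
  have hne : n * Nat.card (WT D e) = 3 := by omega
  have he3 : Nat.card (WT D e) ∣ 3 := ⟨n, by rw [mul_comm]; exact hne.symm⟩
  have he13 : Nat.card (WT D e) = 1 ∨ Nat.card (WT D e) = 3 := (Nat.dvd_prime Nat.prime_three).1 he3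
  have h4 := H84.GL.rank_eq_free hM hmax hB hab hD1 hfree (by omega)
  rcases he13 with h | h <;> rw [h] at h4 hne <;> omega

theorem klein_data (hM : IsPModular 2 M) {B : Set (IrrCharacter G)} (hB : IsPBlock M B) {D : Subgroup G}
    (hD : IsDefectGroup 2 M B D) (hc : Nat.card D = 4) (hsq : ∀ d ∈ D, d * d = 1) :
    blockDefect 2 B = 2 ∧ ∃ (Y : Fin 4 → IrrCharacter G) (δ : Fin 4 → ℤ), Function.Injective Y ∧ (∀ χ, χ ∈ B ↔ ∃ i, χ = Y i) ∧
      (∀ i, δ i = 1 ∨ δ i = -1) ∧ (∀ i, blockHeight 2 B (Y i : G → ℂ) = 0) ∧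
      ((blockRank 2 B = 1 ∧ ∀ i j, reg 2 ((δ i : ℂ) • (Y i : G → ℂ)) = reg 2 ((δ j : ℂ) • (Y j : G → ℂ))) ∨
        (blockRank 2 B = 3 ∧ reg 2 (∑ i, (δ i : ℂ) • (Y i : G → ℂ)) = 0)) := by
  have hd : blockDefect 2 B = 2 := by
    have h1 := card_defectGroup hM hB hD
    rw [hc] at h1
    have h2 : (2 : ℕ) ^ 2 = 2 ^ blockDefect 2 B := by rw [← h1]; norm_num
    exact (Nat.pow_right_injective le_rfl h2).symm
  obtain ⟨h4, hl⟩ := card_rank hM hB hD hc hsq
  obtain ⟨χ, hχ, h0⟩ := exists_height_zero hM hB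
  obtain ⟨Y, hY, hB4, hY0⟩ := exists_enum h4 hχ
  have h0' : blockHeight 2 B (Y 0 : G → ℂ) = 0 := by rw [hY0]; exact h0
  obtain ⟨a, -, -, -, -, hh⟩ := row hM hB hd hY hB4 h0'
  refine ⟨hd, Y, ?_⟩
  rcases hl with hl | hl
  · obtain ⟨δ, h1, h2⟩ := rank_one hM hB hd hY hB4 h0' hl
    exact ⟨δ, hY, hB4, h1, hh, Or.inl ⟨hl, h2⟩⟩
  · obtain ⟨δ, h1, h2⟩ := rank_three hM hB hd hY hB4 h4 h0' hl
    exact ⟨δ, hY, hB4, h1, hh, Or.inr ⟨hl, h2⟩⟩

end H84.KL
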