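import Cfsg.Agent.Lib.H78.Galois

/-!
# Subfields of ℂ generated by algebraic numbers are determined by the automorphisms of ℂ fixing them
-/

set_option autoImplicit false

namespace H84.FixField

open IntermediateField

/-- An algebraic number outside `F` is moved by an automorphism of `ℂ` fixing `F`. -/
theorem exists_auto (F : IntermediateField ℚ ℂ) [Countable F] {x : ℂ} (hx : IsIntegral F x)
    (hxF : x ∉ F) : ∃ σ : ℂ ≃+* ℂ, (∀ y ∈ F, σ y = y) ∧ σ x ≠ x := by
  classical
  have h2 : 2 ≤ (minpoly F x).natDegree := by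
    rw [minpoly.two_le_natDegree_iff hx]
    rintro ⟨y, hy⟩
    apply hxF
    rw [← hy]; exact y.2
  have hirr := minpoly.irreducible hx
  have hsep : (minpoly F x).Separable := hirr.separable
  have hcard : ((minpoly F x).rootSet ℂ).ncard = (minpoly F x).natDegree := by
    have h4 := Polynomial.card_rootSet_eq_natDegree (K := ℂ) hsep
      (IsAlgClosed.splits ((minpoly F x).map (algebraMap F ℂ)))
    rw [← h4, Set.ncard_eq_toFinset_card', Set.toFinset_card]
  have hex : ∃ y ∈ (minpoly F x).rootSet ℂ, y ≠ x := by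
    have h3 : 1 < ((minpoly F x).rootSet ℂ).ncard := by omega
    exact Set.exists_ne_of_one_lt_ncard h3 x
  obtain ⟨y, hy, hyx⟩ := hex
  let pb := IntermediateField.adjoin.powerBasis hx
  have hgen : pb.gen = IntermediateField.AdjoinSimple.gen F x :=
    IntermediateField.adjoin.powerBasis_gen hx
  have hmin : Polynomial.aeval y (minpoly F pb.gen) = 0 := by
    have h0 : minpoly F (IntermediateField.AdjoinSimple.gen F x) = minpoly F x :=
      minpoly.algebraMap_eq (B := IntermediateField.adjoin F {x}) (B' := ℂ)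
        (algebraMap (IntermediateField.adjoin F {x}) ℂ).injective _ |>.symm
    rw [hgen, h0]
    exact (Polynomial.mem_rootSet.1 hy).2
  let f := pb.lift y hmin
  have hf : f (IntermediateField.AdjoinSimple.gen F x) = y := by
    rw [← hgen]; exact pb.lift_gen _ _
  have hcount : Countable (IntermediateField.adjoin F {x}) := by
    have := pb.finite
    have hfin : Module.Finite F (IntermediateField.adjoin F {x}) := pb.finite
    have hb := Module.finBasis F (IntermediateField.adjoin F {x})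
    exact Countable.of_equiv _ hb.equivFun.toEquiv.symm
  obtain ⟨σ, hσ⟩ := H78.Galois.exists_ringEquiv_of_embeddings
    (IntermediateField.adjoin F {x}).val.toRingHom f.toRingHom
  refine ⟨σ, fun z hz => ?_, ?_⟩
  · have h4 := hσ (algebraMap F _ ⟨z, hz⟩)
    have h5 : f.toRingHom (algebraMap F _ ⟨z, hz⟩) = z := f.commutes ⟨z, hz⟩
    rw [h5] at h4
    exact h4
  · have h4 := hσ (IntermediateField.AdjoinSimple.gen F x)
    have h5 : f.toRingHom (IntermediateField.AdjoinSimple.gen F x) = y := hf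
    rw [h5] at h4
    have h6 : σ x = y := h4
    rw [h6]; exact hyx

theorem countable_adjoin {S : Set ℂ} (hS : ∀ z ∈ S, IsIntegral ℚ z) : Countable (adjoin ℚ S) := by
  have h1 : Algebra.IsAlgebraic ℚ (adjoin ℚ S) := IntermediateField.isAlgebraic_adjoin hS
  have h2 := Algebra.IsAlgebraic.cardinalMk_le_max ℚ (adjoin ℚ S)
  rw [← Cardinal.mk_le_aleph0_iff]
  refine h2.trans (max_le ?_ le_rfl)
  exact Cardinal.mk_le_aleph0

/-- If every automorphism of `ℂ` fixing `S` fixes `T` then `ℚ(T) ≤ ℚ(S)`. -/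
theorem adjoin_le {S T : Set ℂ} (hS : ∀ z ∈ S, IsIntegral ℚ z) (hT : ∀ z ∈ T, IsIntegral ℚ z)
    (h : ∀ σ : ℂ ≃+* ℂ, (∀ z ∈ S, σ z = z) → ∀ z ∈ T, σ z = z) : adjoin ℚ T ≤ adjoin ℚ S := by
  rw [adjoin_le_iff]
  intro t ht
  by_contra hcon
  have := countable_adjoin hS
  have hint : IsIntegral (adjoin ℚ S) t := (hT t ht).tower_top
  obtain ⟨σ, h1, h2⟩ := exists_auto (adjoin ℚ S) hint hcon
  exact h2 (h σ (fun z hz => h1 z (subset_adjoin ℚ S hz)) t ht)

/-- The elements fixed by an automorphism form a field. -/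
theorem fix_adjoin {S : Set ℂ} (σ : ℂ ≃+* ℂ) (h : ∀ z ∈ S, σ z = z) : ∀ z ∈ adjoin ℚ S, σ z = z := by
  intro z hz
  induction hz using IntermediateField.adjoin_induction with
  | mem x hx => exact h x hx
  | algebraMap x => exact map_ratCast σ x
  | add x y _ _ hx hy => rw [map_add, hx, hy]
  | inv x _ hx => rw [map_inv₀, hx]
  | mul x y _ _ hx hy => rw [map_mul, hx, hy]

theorem fix_of_adjoin_le {S T : Set ℂ} (hle : adjoin ℚ T ≤ adjoin ℚ S) (σ : ℂ ≃+* ℂ)
    (h : ∀ z ∈ S, σ z = z) : ∀ z ∈ T, σ z = z :=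
  fun z hz => fix_adjoin σ h z (hle (subset_adjoin ℚ T hz))

theorem adjoin_eq_iff {S T : Set ℂ} (hS : ∀ z ∈ S, IsIntegral ℚ z) (hT : ∀ z ∈ T, IsIntegral ℚ z) :
    adjoin ℚ S = adjoin ℚ T ↔ ∀ σ : ℂ ≃+* ℂ, (∀ z ∈ S, σ z = z) ↔ (∀ z ∈ T, σ z = z) := by
  constructor
  · intro h σ
    exact ⟨fix_of_adjoin_le h.ge σ, fix_of_adjoin_le h.le σ⟩
  · intro h
    exact le_antisymm (adjoin_le hT hS fun σ hh => (h σ).2 hh) (adjoin_le hS hT fun σ hh => (h σ).1 hh)

/-- An automorphism of `ℂ` acts on the `n`-th roots of unity as a power map. -/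
theorem exists_pow {n : ℕ} (hn : n ≠ 0) (σ : ℂ ≃+* ℂ) :
    ∃ k : ℕ, k.Coprime n ∧ ∀ z : ℂ, z ^ n = 1 → σ z = z ^ k := by
  have hζ := Complex.isPrimitiveRoot_exp n hn
  set ζ := Complex.exp (2 * Real.pi * Complex.I / n) with hζdef
  have h1 : IsPrimitiveRoot (σ ζ) n := hζ.map_of_injective σ.injective
  have : NeZero n := ⟨hn⟩
  obtain ⟨k, hk, hkc, hke⟩ := (hζ.isPrimitiveRoot_iff).1 h1
  refine ⟨k, hkc, fun z hz => ?_⟩
  obtain ⟨i, _, rfl⟩ := hζ.eq_pow_of_pow_eq_one hz
  rw [map_pow, ← hke, ← pow_mul, ← pow_mul, mul_comm]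

end H84.FixField
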