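import Cfsg.Agent.Lib.H18.CharInd

/-!
Averages of characters over the cosets of a normal subgroup.
-/

set_option autoImplicit false

namespace H84.AvgN

open Cfsg H18.CharBasic H18.CharOrtho Representation
open scoped ComplexConjugate

universe u

variable {G : Type u} [Group G]

/-- Class functions act on irreducible characters as scalars. -/
theorem conv_irr [Fintype G] {f : G → ℂ} (hf : IsClassFunction G f) {χ : G → ℂ}
    (hχ : IsIrrCharacter G χ) : ∃ c : ℂ, ∀ g : G, ∑ x : G, f x * χ (x⁻¹ * g) = c * χ g := by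
  obtain ⟨n, ρ, hρ, rfl⟩ := hχ
  let T : IntertwiningMap ρ ρ := ⟨avgOp f ρ, fun g => LinearMap.ext fun v => avgOp_comm hf ρ g v⟩
  obtain ⟨c, hc⟩ := (IsIrreducible.algebraMap_intertwiningMap_bijective_of_isAlgClosed
    (ρ := ρ)).2 T
  have hT : avgOp f ρ = c • LinearMap.id := by
    have := congrArg IntertwiningMap.toLinearMap hc
    apply LinearMap.ext
    intro v
    have h3 := congrArg (fun L : (Fin n → ℂ) →ₗ[ℂ] (Fin n → ℂ) => L v) this
    exact h3.symm
  refine ⟨c, fun g => ?_⟩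
  have h1 : LinearMap.trace ℂ _ (avgOp f ρ * ρ g) = c * ρ.character g := by
    rw [hT]
    have : (c • LinearMap.id : (Fin n → ℂ) →ₗ[ℂ] (Fin n → ℂ)) * ρ g = c • ρ g := by
      ext v; rfl
    rw [this, map_smul]; rfl
  rw [← h1, avgOp, Finset.sum_mul, map_sum]
  refine Finset.sum_congr rfl fun x _ => ?_
  rw [smul_mul_assoc, map_smul, smul_eq_mul, ← map_mul]
  rfl

/-- The sum over the cosets of a normal subgroup of an irreducible character. -/
theorem avg_irr [Finite G] (N : Subgroup G) [hN : N.Normal] [Fintype N] {χ : G → ℂ}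
    (hχ : IsIrrCharacter G χ) :
    (∀ g : G, ∑ n : N, χ ((n : G) * g) = (Nat.card N : ℂ) * χ g) ∨
      (∀ g : G, ∑ n : N, χ ((n : G) * g) = 0) := by
  classical
  have := Fintype.ofFinite G
  let f : G → ℂ := fun x => if x ∈ N then 1 else 0
  have hf : IsClassFunction G f := by
    intro g h
    simp only [f]
    have : h * g * h⁻¹ ∈ N ↔ g ∈ N := (hN.mem_comm_iff).trans (by simp)
    simp [this]
  obtain ⟨c, hc⟩ := conv_irr hf hχ
  have h1 : ∀ F : G → ℂ, ∑ x : G, f x * F x = ∑ n : N, F n := by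
    intro F
    rw [← Finset.sum_filter_add_sum_filter_not Finset.univ (fun x => x ∈ N)]
    have e1 : ∑ x ∈ Finset.univ.filter (fun x => ¬ x ∈ N), f x * F x = 0 :=
      Finset.sum_eq_zero fun x hx => by
        simp only [f, if_neg (Finset.mem_filter.1 hx).2, zero_mul]
    rw [e1, add_zero]
    symm
    refine Finset.sum_bij (fun (n : N) _ => (n : G)) (by simp) (fun a _ b _ h => Subtype.ext h)
      (fun b hb => ⟨⟨b, (Finset.mem_filter.1 hb).2⟩, Finset.mem_univ _, rfl⟩) ?_
    intro n _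
    simp [f, n.2]
  have h2 : ∀ g, ∑ n : N, χ ((n : G) * g) = c * χ g := by
    intro g
    rw [← hc g, h1 (fun x => χ (x⁻¹ * g))]
    refine Fintype.sum_equiv (Equiv.inv N) _ _ fun n => ?_
    simp
  have h3 : ∀ g, c * (c * χ g) = (Nat.card N : ℂ) * (c * χ g) := by
    intro g
    rw [← h2 g]
    have e1 : ∀ m : N, ∑ n : N, χ ((n : G) * ((m : G) * g)) = c * χ ((m : G) * g) := fun m => h2 _
    have e2 : ∀ m : N, ∑ n : N, χ ((n : G) * ((m : G) * g)) = ∑ n : N, χ ((n : G) * g) := by
      intro m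
      refine Fintype.sum_equiv (Equiv.mulRight m) _ _ fun n => ?_
      simp [mul_assoc]
    rw [Finset.mul_sum]
    have e3 : ∀ m : N, c * χ ((m : G) * g) = ∑ n : N, χ ((n : G) * g) := fun m => by
      rw [← e1, e2]
    simp only [e3, Finset.sum_const, Finset.card_univ, nsmul_eq_mul, Nat.card_eq_fintype_card]
  by_cases hc0 : c = 0
  · right
    intro g
    rw [h2, hc0, zero_mul]
  · left
    have h4 := h3 1
    have hχ1 := irr_one_ne_zero hχ
    have h5 : c = Nat.card N := by
      have : c * χ 1 ≠ 0 := mul_ne_zero hc0 hχ1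
      exact mul_right_cancel₀ this h4
    intro g
    rw [h2, h5]

/-- The average over the cosets of a normal subgroup of a character is a character. -/
theorem isCharacter_avg [Finite G] (N : Subgroup G) [N.Normal] [Fintype N] {ψ : G → ℂ}
    (hψ : IsCharacter G ψ) :
    IsCharacter G (fun g => (Nat.card N : ℂ)⁻¹ * ∑ n : N, ψ ((n : G) * g)) := by
  have hN : (Nat.card N : ℂ) ≠ 0 := by exact_mod_cast (Nat.card_pos (α := N)).ne'
  refine isCharacter_induction (P := fun ψ => IsCharacter G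
    (fun g => (Nat.card N : ℂ)⁻¹ * ∑ n : N, ψ ((n : G) * g))) ?_ ?_ hψ
  · have : (fun g => (Nat.card N : ℂ)⁻¹ * ∑ n : N, (0 : G → ℂ) ((n : G) * g)) = 0 := by
      funext g; simp
    rw [this]; exact isCharacter_zero
  · intro χ₁ χ₂ _ h2 h3
    have h4 : IsCharacter G (fun g => (Nat.card N : ℂ)⁻¹ * ∑ n : N, χ₂ ((n : G) * g)) := by
      rcases avg_irr N h2 with h | h
      · have : (fun g => (Nat.card N : ℂ)⁻¹ * ∑ n : N, χ₂ ((n : G) * g)) = χ₂ := by
          funext g; rw [h g]; field_simp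
        rw [this]; exact isCharacter_of_isIrr h2
      · have : (fun g => (Nat.card N : ℂ)⁻¹ * ∑ n : N, χ₂ ((n : G) * g)) = 0 := by
          funext g; rw [h g]; simp
        rw [this]; exact isCharacter_zero
    have h5 := isCharacter_add h3 h4
    have h6 : (fun g => (Nat.card N : ℂ)⁻¹ * ∑ n : N, (χ₁ + χ₂) ((n : G) * g)) =
        (fun g => (Nat.card N : ℂ)⁻¹ * ∑ n : N, χ₁ ((n : G) * g)) +
        (fun g => (Nat.card N : ℂ)⁻¹ * ∑ n : N, χ₂ ((n : G) * g)) := by
      funext g
      simp only [Pi.add_apply, Finset.sum_add_distrib, mul_add]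
    rw [h6]
    exact h5

/-- The average of `|χ|²` over cosets is a character. -/
theorem isCharacter_avg_normSq [Finite G] (N : Subgroup G) [N.Normal] [Fintype N] {χ : G → ℂ}
    (hχ : IsCharacter G χ) :
    IsCharacter G (fun g => (Nat.card N : ℂ)⁻¹ * ∑ n : N, ((‖χ ((n : G) * g)‖ ^ 2 : ℝ) : ℂ)) := by
  have h := isCharacter_avg N (isCharacter_mul hχ (isCharacter_conj hχ))
  have h2 : (fun g => (Nat.card N : ℂ)⁻¹ * ∑ n : N, ((‖χ ((n : G) * g)‖ ^ 2 : ℝ) : ℂ)) =
      (fun g => (Nat.card N : ℂ)⁻¹ * ∑ n : N, (χ * fun g => conj (χ g)) ((n : G) * g)) := by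
    funext g
    congr 1
    refine Finset.sum_congr rfl fun n _ => ?_
    simp only [Pi.mul_apply, Complex.mul_conj, Complex.normSq_eq_norm_sq]
  rw [h2]; exact h

end H84.AvgN
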