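import Cfsg.Agent.Lib.H84.Star15
import Cfsg.Agent.Lib.H5.PBb

/-!
# Nilpotent blocks: the transform of a class function
-/

set_option autoImplicit false
set_option linter.unusedSectionVars false
set_option linter.unusedVariables false

namespace H84.FL

open Cfsg H20.Loc H20.GA H80.GA H80.GB H80.GC H80.GD H80.GE H80.GF H80.GJ H80.FS H84.RG H18.CharBasic H18.CharOrtho H84.TrR
open H20.Blk H20.Orth H20.Ind H20.Height H20.Defect H80.BR1 H80.BR2 H19.Second H19.Second3 H81.Section H81.Contrib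
open H84.Star
open scoped ComplexConjugate

universe u

attribute [local instance 2000] Fintype.ofFinite

section lin
variable {G : Type u} [Group G] [Finite G] {p : ℕ}

theorem comp_smul (x : G) (S : Set (IrrCharacter (C x))) (c : ℂ) (χ : G → ℂ) :
    comp p x S (c • χ) = c • comp p x S χ := by
  have h1 : tw x (c • χ) = c • tw x χ := rfl
  rw [comp, comp, h1, proj_smul, reg_smul]

theorem comp_add (x : G) (S : Set (IrrCharacter (C x))) (χ ψ : G → ℂ) :
    comp p x S (χ + ψ) = comp p x S χ + comp p x S ψ := by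
  have h1 : tw x (χ + ψ) = tw x χ + tw x ψ := rfl
  rw [comp, comp, comp, h1, proj_add', reg_add]

theorem comp_zero' (x : G) (S : Set (IrrCharacter (C x))) :
    comp p x S (0 : G → ℂ) = 0 := by
  have h := comp_smul (p := p) x S 0 (0 : G → ℂ)
  rwa [zero_smul, zero_smul] at h

theorem comp_sum (x : G) (S : Set (IrrCharacter (C x))) {ι : Type*} (s : Finset ι) (c : ι → ℂ) (f : ι → G → ℂ) :
    comp p x S (∑ i ∈ s, c i • f i) = ∑ i ∈ s, c i • comp p x S (f i) := by
  classical
  induction s using Finset.induction_on with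
  | empty => rw [Finset.sum_empty, Finset.sum_empty, comp_zero']
  | insert a s ha ih => rw [Finset.sum_insert ha, Finset.sum_insert ha, comp_add, comp_smul, ih]

end lin

variable {M : Ideal AlgInt} [M.IsMaximal] {G : Type u} [Group G] [Finite G] {p : ℕ}
variable [Fact p.Prime] [CharP (ResF M) p] [Algebra (ZMod p) (ResF M)] [Algebra.IsAlgebraic (ZMod p) (ResF M)]
variable {B : Set (IrrCharacter G)} {P : Subgroup G} {e : MonoidAlgebra (ResF M) G}

/-- the transform with respect to a nilpotent block -/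
noncomputable def tf [IsAlgClosed (ResF M)] (hM : IsPModular p M) (hmax : IsMax p ⊤ (ebar M B) P e)
    (hB : IsPBlock M B) (hnil : H80.FS3.Nilp p ⊤ (ebar M B)) {χ : IrrCharacter G} (hχ : χ ∈ B)
    (h0 : blockHeight p B (χ : G → ℂ) = 0) (θ : G → ℂ) : P → ℂ :=
  ∑ ζ : IrrCharacter P, classInner θ ((nilEquiv hM hmax hB hnil hχ h0 ζ : IrrCharacter G) : G → ℂ) • (ζ : P → ℂ)

theorem tf_gen [IsAlgClosed (ResF M)] (hM : IsPModular p M) (hmax : IsMax p ⊤ (ebar M B) P e)
    (hB : IsPBlock M B) (hnil : H80.FS3.Nilp p ⊤ (ebar M B)) {χ : IrrCharacter G} (hχ : χ ∈ B)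
    (h0 : blockHeight p B (χ : G → ℂ) = 0) {θ : G → ℂ} (hθ : IsGeneralizedCharacter G θ) :
    IsGeneralizedCharacter P (tf hM hmax hB hnil hχ h0 θ) := by
  classical
  rw [isGen_iff]
  refine ⟨?_, ?_⟩
  · intro g h
    rw [tf, Finset.sum_apply, Finset.sum_apply]
    refine Finset.sum_congr rfl fun ζ _ => ?_
    rw [Pi.smul_apply, Pi.smul_apply, (isClassFunction_of_isIrr ζ.2) g h]
  · have key : ∀ ζ : IrrCharacter P, ∃ n : ℤ, classInner (tf hM hmax hB hnil hχ h0 θ) (ζ : P → ℂ) = n := by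
      intro ζ
      have h1 : classInner (tf hM hmax hB hnil hχ h0 θ) (ζ : P → ℂ) =
          classInner θ ((nilEquiv hM hmax hB hnil hχ h0 ζ : IrrCharacter G) : G → ℂ) := by
        rw [tf, inner_sum_left]
        simp_rw [H18.CharOrtho.inner_smul_left]
        rw [Finset.sum_eq_single ζ]
        · rw [inner_irr_self ζ.2, mul_one]
        · intro ψ _ hne
          rw [inner_irr_ne ψ.2 ζ.2 (fun h => hne (Subtype.ext h)), mul_zero]
        · intro h; exact absurd (Finset.mem_univ _) h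
      rw [h1]
      exact inner_gen_intCast hθ (isGen_of_isIrr (nilEquiv hM hmax hB hnil hχ h0 ζ).1.2)
    first
      | exact key
      | exact fun ζ hζ => key ⟨ζ, hζ⟩

/-- components outside the block vanish -/
theorem comp_other (hM : IsPModular p M) (hmax : IsMax p ⊤ (ebar M B) P e)
    (hB : IsPBlock M B) {ψ : IrrCharacter G} (hψ : ψ ∉ B) (u : P) (S : BlkS M (u : G))
    (hS : SLE p ⊤ (Subgroup.zpowers (u : G)) (bl M (C (u : G)) S.1) P e) :
    comp p (u : G) S.1 (ψ : G → ℂ) = 0 := by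
  have hu := order_of_mem hmax.of.pair.pgr u
  have hpr := (inferInstance : M.IsMaximal).isPrime
  have hpo := (pairOf_of_sle hmax.of.pair hS).1 hmax.of
  have hind := (ind_iff hM hu S.2 hB).2 hpo
  apply comp_eq_zero hM S.2 hu
  intro h
  apply hψ
  have h2 : blockOf M (ψ : G → ℂ) = B := by
    have hB' := isPBlock_blockOf (M := M) ψ
    have hpo' := (ind_iff hM hu S.2 hB').1 h
    have h3 := pairOf_unique hpo' hpo
    exact ebar_inj hB' hB h3
  rw [← h2]
  exact mem_blockOf_self ψ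

theorem tf_apply [IsAlgClosed (ResF M)] (hM : IsPModular p M) (hmax : IsMax p ⊤ (ebar M B) P e)
    (hB : IsPBlock M B) (hnil : H80.FS3.Nilp p ⊤ (ebar M B)) {χ : IrrCharacter G} (hχ : χ ∈ B)
    (h0 : blockHeight p B (χ : G → ℂ) = 0) {θ : G → ℂ} (hθ : IsClassFunction G θ)
    (u : P) (S : BlkS M (u : G)) (hS : SLE p ⊤ (Subgroup.zpowers (u : G)) (bl M (C (u : G)) S.1) P e) :
    comp p (u : G) S.1 θ = tf hM hmax hB hnil hχ h0 θ u • comp p (u : G) S.1 (χ : G → ℂ) := by
  classical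
  have hu := order_of_mem hmax.of.pair.pgr u
  have hinn := inn_of_nilp hmax hnil
  conv_lhs => rw [mem_classFun_expand hθ]
  rw [comp_sum]
  have h1 : ∀ ζ : IrrCharacter P, comp p (u : G) S.1 ((nilEquiv hM hmax hB hnil hχ h0 ζ : IrrCharacter G) : G → ℂ) =
      (ζ : P → ℂ) u • comp p (u : G) S.1 (χ : G → ℂ) := by
    intro ζ
    have hst := FSt_of_inn hinn (isClassFunction_of_isIrr ζ.2)
    rw [nilEquiv_coe, comp_star hM (Lam_conj hst) (isClassFunction_of_isIrr χ.2) hu S,
      Lam_eq hst (y := u) (g := 1) (by simp) (by rw [cj_one]; exact hS)]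
  have h2 : ∑ ψ : IrrCharacter G, classInner θ (ψ : G → ℂ) • comp p (u : G) S.1 (ψ : G → ℂ) =
      ∑ ψ : B, classInner θ (ψ.1 : G → ℂ) • comp p (u : G) S.1 (ψ.1 : G → ℂ) := by
    have e1 : ∑ ψ : IrrCharacter G, classInner θ (ψ : G → ℂ) • comp p (u : G) S.1 (ψ : G → ℂ) =
        ∑ ψ ∈ Finset.univ.filter (fun ψ : IrrCharacter G => ψ ∈ B),
          classInner θ (ψ : G → ℂ) • comp p (u : G) S.1 (ψ : G → ℂ) := by
      rw [Finset.sum_filter]
      refine Finset.sum_congr rfl fun ψ _ => ?_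
      split_ifs with h
      · rfl
      · rw [comp_other hM hmax hB h u S hS, smul_zero]
    rw [e1]
    exact Finset.sum_subtype _ (fun ψ => by simp) _
  rw [h2, ← Equiv.sum_comp (nilEquiv hM hmax hB hnil hχ h0)]
  rw [tf, Finset.sum_apply, Finset.sum_smul]
  refine Finset.sum_congr rfl fun ζ _ => ?_
  rw [h1 ζ, Pi.smul_apply, smul_eq_mul, smul_smul]

theorem inner_base [IsAlgClosed (ResF M)] (hM : IsPModular p M) (hmax : IsMax p ⊤ (ebar M B) P e)
    (hab : ∀ x ∈ P, ∀ y ∈ P, x * y = y * x)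
    (hB : IsPBlock M B) (hnil : H80.FS3.Nilp p ⊤ (ebar M B)) {χ : IrrCharacter G} (hχ : χ ∈ B)
    (h0 : blockHeight p B (χ : G → ℂ) = 0)
    (u : P) (S : BlkS M (u : G)) (hS : SLE p ⊤ (Subgroup.zpowers (u : G)) (bl M (C (u : G)) S.1) P e) :
    classInner (comp p (u : G) S.1 (χ : G → ℂ)) (comp p (u : G) S.1 (χ : G → ℂ)) = (Nat.card P : ℂ)⁻¹ := by
  have hχc := isClassFunction_of_isIrr χ.2
  have h1 := th_one hM hmax hB hnil (inn_of_nilp hmax hnil) hχ h0 u
  obtain ⟨S', hS', h2⟩ := th_eq hmax.of.pair hχc hχc u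
  have h3 : S' = S := by
    have h4 := SLE.unique hmax.of.pair (fy_spec hmax.of.pair u) hS
    have h5 : blEquiv M (u : G) S' = blEquiv M (u : G) S := Subtype.ext (hS'.trans h4)
    exact (blEquiv M (u : G)).injective h5
  rw [h3] at h2
  rw [h2] at h1
  have h6 : Subgroup.centralizer ({u} : Set P) = ⊤ := by
    rw [eq_top_iff]
    intro x _
    rw [Subgroup.mem_centralizer_singleton_iff]
    exact Subtype.ext (hab _ x.2 _ u.2)
  rw [h6, Nat.card_congr (Subgroup.topEquiv (G := P)).toEquiv] at h1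
  exact eq_inv_of_mul_eq_one_right h1

end H84.FL
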