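import Cfsg.Agent.Lib.H84.FL9

/-!
# Cyclic defect groups: the number of Brauer characters is at most the inertial index
-/

set_option autoImplicit false
set_option linter.unusedSectionVars false
set_option linter.unusedVariables false

namespace H84.FL

open Cfsg H20.Loc H20.GA H80.GA H80.GB H80.GC H80.GD H80.GE H80.GF H80.GG H80.GH H80.GJ H80.FS H84.RG H18.CharBasic H18.CharOrtho H84.TrR
open H20.Blk H20.Orth H20.Ind H20.Height H20.Defect H80.BR1 H80.BR2 H19.Second H19.Second3 H81.Section H81.Contrib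
open H84.Star H84.Wat H80.BR7
open scoped ComplexConjugate

universe u v

attribute [local instance 2000] Fintype.ofFinite

variable {M : Ideal AlgInt} [M.IsMaximal] {G : Type u} [Group G] [Finite G] {p : ℕ}
variable [Fact p.Prime] [CharP (ResF M) p] [Algebra (ZMod p) (ResF M)] [Algebra.IsAlgebraic (ZMod p) (ResF M)]
variable {B : Set (IrrCharacter G)} {P : Subgroup G} {e : MonoidAlgebra (ResF M) G}

theorem sub_comm (hab : ∀ x ∈ P, ∀ y ∈ P, x * y = y * x) : ∀ a b : P, a * b = b * a :=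
  fun a b => Subtype.ext (hab a a.2 b b.2)

theorem exists_ne_one (hP1 : P ≠ ⊥) : ∃ x : P, x ≠ 1 := by
  by_contra h
  push Not at h
  apply hP1
  rw [eq_bot_iff]
  intro x hx
  rw [Subgroup.mem_bot]
  exact congrArg Subtype.val (h ⟨x, hx⟩)

/-- the upper bound for the rank, given a local system -/
theorem rank_le_loc [IsAlgClosed (ResF M)] (hM : IsPModular p M) (hmax : IsMax p ⊤ (ebar M B) P e)
    (hB : IsPBlock M B) (hab : ∀ x ∈ P, ∀ y ∈ P, x * y = y * x) (hP1 : P ≠ ⊥)
    (hfree : ∀ g ∈ ST ⊤ P e, ∀ x ∈ P, x ≠ 1 → g * x * g⁻¹ = x → g ∈ Subgroup.centralizer (P : Set G))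
    {S : ∀ x : P, BlkS M (x : G)} {φ : ∀ x : P, C (x : G) → ℂ} {R : IrrCharacter G → P → ℂ}
    (hL : Loc (p := p) B P e S φ R) : blockRank p B ≤ Nat.card (WT P e) := by
  have hBne : B.Nonempty := isPBlock_nonempty hB
  have hD := hL.dat hM hmax hB hab hfree hBne (exists_ne_one hP1)
  obtain ⟨n, rep, hrep⟩ := H84.FR.exists_reps (sub_comm hab) (WT P e)
  have hfp := WT_free hfree
  have hcard := card_eq hM hmax hB hab hfree (hrep.card (sub_comm hab) hfp)
  exact H84.FR.rank_le hD Fact.out (sub_comm hab) hfp hrep (exists_ne_one hP1) hcard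

/-- everything about cyclic defect groups we need, in terms of a maximal pair -/
theorem rank_le_max_cyclic [IsAlgClosed (ResF M)] (hM : IsPModular p M) (hmax : IsMax p ⊤ (ebar M B) P e)
    (hB : IsPBlock M B) (hcyc : IsCyclic P) (hP1 : P ≠ ⊥)
    (hfree : ∀ g ∈ ST ⊤ P e, ∀ x ∈ P, x ≠ 1 → g * x * g⁻¹ = x → g ∈ Subgroup.centralizer (P : Set G))
    (hcop : ¬ p ∣ Nat.card (WT P e)) : blockRank p B ≤ Nat.card (WT P e) := by
  obtain ⟨S, φ, R, hL⟩ := exists_loc_cyclic hM hmax hB hcyc hP1 hfree hcop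
  exact rank_le_loc hM hmax hB (H80.BR11.ab_of_cyclic hcyc) hP1 hfree hL

/-- `ST` data for cyclic defect groups from the inertial group -/
theorem cyc_data (hM : IsPModular p M) (hB : IsPBlock M B)
    (hPD : IsDefectGroup p M B P) (hcyc : IsCyclic P)
    {c : Set (IrrCharacter (Subgroup.centralizer (P : Set G)))}
    (hc : IsInducedBlock M (Subgroup.centralizer (P : Set G)) c B) {T : Subgroup G}
    (hT : ∀ g : G, g ∈ T ↔ (g ∈ Subgroup.normalizer (P : Set G) ∧
      StabilizesBlock (Subgroup.centralizer (P : Set G)) c g)) :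
    IsMax p ⊤ (ebar M B) P (bl M _ c) ∧
    (∀ g ∈ ST ⊤ P (bl M _ c), ∀ x ∈ P, x ≠ 1 → g * x * g⁻¹ = x → g ∈ Subgroup.centralizer (P : Set G)) ∧
    Nat.card (WT P (bl M _ c)) = (Subgroup.centralizer (P : Set G)).relIndex T ∧
    ¬ p ∣ Nat.card (WT P (bl M _ c)) := by
  have : IsAlgClosed (H20.Loc.ResF M) := H20.Loc.isAlgClosed_resF
  obtain ⟨hmax, hTe, hTN, hCT, hidx⟩ := H80.BR11.setup hM hB hPD (H80.BR11.ab_of_cyclic hcyc) hc hT
  have h1 := H80.CY.cyc_free hcyc hmax.of.pair.pgr hTN hCT hidx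
  subst hTe
  refine ⟨hmax, h1, ?_, ?_⟩
  · rw [card_WT hCT]
  · rw [card_WT hCT]; exact hidx

end H84.FL

namespace H84.FL

open Cfsg H20.Loc H20.GA H80.GA H80.GB H80.GC H80.GD H80.GE H80.GF H80.GG H80.GH H80.GJ H80.FS H84.RG H18.CharBasic H18.CharOrtho H84.TrR
open H20.Blk H20.Orth H20.Ind H20.Height H20.Defect H80.BR1 H80.BR2 H19.Second H19.Second3 H81.Section H81.Contrib

universe u'

/-- **the number of irreducible Brauer characters of a block with cyclic defect group is at most the inertial index** -/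
theorem rank_le_cyclic {M : Ideal AlgInt} {G : Type u'} [Group G] [Finite G] {p : ℕ} [Fact p.Prime]
    {B : Set (IrrCharacter G)} {P : Subgroup G} (hM : IsPModular p M) (hB : IsPBlock M B)
    (hPD : IsDefectGroup p M B P) (hcyc : IsCyclic P) (hP1 : P ≠ ⊥)
    {c : Set (IrrCharacter (Subgroup.centralizer (P : Set G)))}
    (hc : IsInducedBlock M (Subgroup.centralizer (P : Set G)) c B) {T : Subgroup G}
    (hT : ∀ g : G, g ∈ T ↔ (g ∈ Subgroup.normalizer (P : Set G) ∧
      StabilizesBlock (Subgroup.centralizer (P : Set G)) c g)) :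
    blockRank p B ≤ (Subgroup.centralizer (P : Set G)).relIndex T := by
  have : M.IsMaximal := hM.2.1
  have : CharP (H20.Loc.ResF M) p := H20.Loc.charP_resF hM
  let _ : Algebra (ZMod p) (H20.Loc.ResF M) := ZMod.algebra (H20.Loc.ResF M) p
  have : Algebra.IsAlgebraic (ZMod p) (H20.Loc.ResF M) := H80.BR1.isAlgebraic_resF hM
  have : IsAlgClosed (H20.Loc.ResF M) := H20.Loc.isAlgClosed_resF
  obtain ⟨hmax, hfree, hcard, hcop⟩ := cyc_data hM hB hPD hcyc hc hT
  rw [← hcard]
  exact rank_le_max_cyclic hM hmax hB hcyc hP1 hfree hcop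

end H84.FL
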