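import Mathlib
import Cfsg.Agent.Lib.H5.PBb

/-!
# Linear characters of an abelian group with a free group of automorphisms
-/

set_option autoImplicit false
set_option linter.unusedSectionVars false
set_option linter.unusedVariables false
set_option linter.style.haveILetI false

universe v

namespace H84.FR

open Cfsg H5.PBb H18.CharOrtho
open scoped ComplexConjugate
attribute [local instance 2000] Fintype.ofFinite

variable {A : Type v} [Group A] [Finite A] {W : Subgroup (MulAut A)}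

/-- composite with an automorphism -/
def tw (w : MulAut A) (ψ : A →* ℂˣ) : A →* ℂˣ := ψ.comp (w : A ≃* A).toMonoidHom

theorem tw_apply (w : MulAut A) (ψ : A →* ℂˣ) (x : A) : tw w ψ x = ψ (w x) := rfl

theorem tw_one (w : MulAut A) : tw w (1 : A →* ℂˣ) = 1 := rfl

theorem tw_id (ψ : A →* ℂˣ) : tw (1 : MulAut A) ψ = ψ := rfl

theorem tw_mul (w v : MulAut A) (ψ : A →* ℂˣ) : tw (w * v) ψ = tw v (tw w ψ) := rfl

theorem tw_eq_one {w : MulAut A} {ψ : A →* ℂˣ} (h : tw w ψ = 1) : ψ = 1 := by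
  have h1 : tw w⁻¹ (tw w ψ) = ψ := by rw [← tw_mul, mul_inv_cancel, tw_id]
  rw [← h1, h, tw_one]

/-- the sum over `W` of the twists of `ψ` -/
noncomputable def Th (W : Subgroup (MulAut A)) (ψ : A →* ℂˣ) : A → ℂ :=
  fun x => ∑ w : W, (ψ ((w : MulAut A) x) : ℂ)

theorem Th_eq (ψ : A →* ℂˣ) : Th W ψ = ∑ w : W, lf (tw (w : MulAut A) ψ) := by
  funext x
  rw [Finset.sum_apply]
  rfl

theorem Th_apply (ψ : A →* ℂˣ) (x : A) : Th W ψ x = ∑ w : W, (ψ ((w : MulAut A) x) : ℂ) := rfl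

theorem Th_inv (ψ : A →* ℂˣ) {v : MulAut A} (hv : v ∈ W) (x : A) : Th W ψ (v x) = Th W ψ x := by
  rw [Th_apply, Th_apply]
  exact Fintype.sum_equiv (Equiv.mulRight (⟨v, hv⟩ : W)) _ _ (fun w => rfl)

theorem Th_one_val (ψ : A →* ℂˣ) : Th W ψ 1 = Nat.card W := by
  rw [Th_apply, Nat.card_eq_fintype_card]
  simp

theorem Th_one (x : A) : Th W (1 : A →* ℂˣ) x = Nat.card W := by
  rw [Th_apply, Nat.card_eq_fintype_card]
  simp

theorem Th_tw {v : MulAut A} (hv : v ∈ W) (ψ : A →* ℂˣ) : Th W (tw v ψ) = Th W ψ := by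
  funext x
  rw [Th_apply, Th_apply]
  exact Fintype.sum_equiv (Equiv.mulLeft (⟨v, hv⟩ : W)) _ _ (fun w => rfl)

theorem inner_tw {w : MulAut A} (ψ : A →* ℂˣ) {f : A → ℂ} (hf : ∀ x, f (w x) = f x) :
    classInner (lf (tw w ψ)) f = classInner (lf ψ) f := by
  rw [classInner, classInner]
  congr 1
  refine Fintype.sum_equiv (w : A ≃* A).toEquiv _ _ (fun x => ?_)
  show (ψ (w x) : ℂ) * conj (f x) = (ψ (w x) : ℂ) * conj (f (w x))
  rw [hf]

/-- the number of `w ∈ W` with `φ ∘ w = ψ` -/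
noncomputable def st (W : Subgroup (MulAut A)) (ψ φ : A →* ℂˣ) : ℕ := Nat.card {w : W // tw (w : MulAut A) φ = ψ}

theorem inner_lf_Th (ψ φ : A →* ℂˣ) : classInner (lf ψ) (Th W φ) = st W ψ φ := by
  classical
  rw [Th_eq, H18.CharOrtho.inner_sum_right]
  simp_rw [inner_lf]
  rw [Finset.sum_ite, Finset.sum_const_zero, add_zero, Finset.sum_const, nsmul_eq_mul, mul_one, st,
    Nat.card_eq_fintype_card, Fintype.card_subtype]
  congr 2
  ext w
  simp only [Finset.mem_filter, Finset.mem_univ, true_and]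
  exact eq_comm

/-- `W` acts freely on the nontrivial linear characters -/
theorem dual_fpf (hA : ∀ a b : A, a * b = b * a) (hfp : ∀ w ∈ W, w ≠ 1 → ∀ x : A, w x = x → x = 1)
    {ψ : A →* ℂˣ} (hψ : ψ ≠ 1) {w : MulAut A} (hw : w ∈ W) (h : tw w ψ = ψ) : w = 1 := by
  by_contra hne
  have hinj : Function.Injective (fun a : A => w a * a⁻¹) := by
    intro a b hab
    have h1 : w a * a⁻¹ = w b * b⁻¹ := hab
    have h2 : w (b⁻¹ * a) = b⁻¹ * a := by
      rw [map_mul, map_inv]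
      have h3 : (w b)⁻¹ * w a = (w b)⁻¹ * (w a * a⁻¹) * a := by group
      rw [h3, h1]
      group
    have h4 := hfp w hw hne _ h2
    exact (inv_mul_eq_one.1 h4).symm
  have hsurj := Finite.surjective_of_injective hinj
  apply hψ
  ext b
  obtain ⟨a, rfl⟩ := hsurj b
  have h1 : ψ (w a) = ψ a := by rw [← tw_apply, h]
  show ((ψ (w a * a⁻¹) : ℂˣ) : ℂ) = ((1 : A →* ℂˣ) _ : ℂˣ)
  rw [map_mul, map_inv, h1, mul_inv_cancel]
  rfl

theorem card_hom (hA : ∀ a b : A, a * b = b * a) : Nat.card (A →* ℂˣ) = Nat.card A := by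
  letI : CommGroup A := { (inferInstance : Group A) with mul_comm := hA }
  haveI : NeZero ((Monoid.exponent A : ℕ) : ℂ) :=
    ⟨by exact_mod_cast (Monoid.exponent_ne_zero_of_finite (G := A))⟩
  exact CommGroup.card_monoidHom_of_hasEnoughRootsOfUnity A ℂ

theorem finite_hom (hA : ∀ a b : A, a * b = b * a) : Finite (A →* ℂˣ) :=
  Nat.finite_of_card_ne_zero (by rw [card_hom hA]; exact Nat.card_pos.ne')

/-- a system of representatives of the orbits of `W` on nontrivial linear characters -/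
structure Reps (W : Subgroup (MulAut A)) (n : ℕ) (rep : Fin n → (A →* ℂˣ)) : Prop where
  ne : ∀ i, rep i ≠ 1
  ex : ∀ ψ : A →* ℂˣ, ψ ≠ 1 → ∃ i, ∃ w ∈ W, tw w (rep i) = ψ
  uniq : ∀ i j, ∀ w ∈ W, tw w (rep i) = rep j → i = j

/-- orbit relation -/
def orbS (W : Subgroup (MulAut A)) : Setoid {ψ : A →* ℂˣ // ψ ≠ 1} where
  r ψ φ := ∃ w ∈ W, tw w (ψ : A →* ℂˣ) = φ
  iseqv := by
    refine ⟨fun ψ => ⟨1, W.one_mem, rfl⟩, ?_, ?_⟩
    · rintro ψ φ ⟨w, hw, h⟩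
      refine ⟨w⁻¹, W.inv_mem hw, ?_⟩
      rw [← h, ← tw_mul, mul_inv_cancel, tw_id]
    · rintro ψ φ θ ⟨w, hw, h⟩ ⟨v, hv, h'⟩
      refine ⟨w * v, W.mul_mem hw hv, ?_⟩
      rw [tw_mul, h, h']

theorem exists_reps (hA : ∀ a b : A, a * b = b * a) (W : Subgroup (MulAut A)) :
    ∃ (n : ℕ) (rep : Fin n → (A →* ℂˣ)), Reps W n rep := by
  classical
  haveI := finite_hom hA
  letI := orbS W
  obtain ⟨n, ⟨e⟩⟩ := Finite.exists_equiv_fin (Quotient (orbS W))
  refine ⟨n, fun i => ((e.symm i).out : A →* ℂˣ), ?_, ?_, ?_⟩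
  · intro i
    exact (e.symm i).out.2
  · intro ψ hψ
    refine ⟨e (Quotient.mk _ ⟨ψ, hψ⟩), ?_⟩
    have h1 : (e.symm (e (Quotient.mk (orbS W) ⟨ψ, hψ⟩))).out ≈ (⟨ψ, hψ⟩ : {ψ : A →* ℂˣ // ψ ≠ 1}) := by
      rw [Equiv.symm_apply_apply]
      exact Quotient.mk_out _
    exact h1
  · intro i j w hw h
    have h1 : (e.symm i).out ≈ (e.symm j).out := ⟨w, hw, h⟩
    have h2 := Quotient.sound h1
    rw [Quotient.out_eq, Quotient.out_eq] at h2
    exact e.symm.injective h2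

theorem card_ne_one (hA : ∀ a b : A, a * b = b * a) :
    Nat.card {ψ : A →* ℂˣ // ψ ≠ 1} + 1 = Nat.card A := by
  classical
  haveI := finite_hom hA
  rw [← card_hom hA]
  letI := Fintype.ofFinite (A →* ℂˣ)
  rw [Nat.card_eq_fintype_card, Nat.card_eq_fintype_card, Fintype.card_subtype_compl,
    Fintype.card_subtype_eq]
  have : 0 < Fintype.card (A →* ℂˣ) := Fintype.card_pos_iff.2 ⟨1⟩
  omega

/-- the nontrivial characters as pairs -/
noncomputable def Reps.equiv (hA : ∀ a b : A, a * b = b * a) (hfp : ∀ w ∈ W, w ≠ 1 → ∀ x : A, w x = x → x = 1)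
    {n : ℕ} {rep : Fin n → (A →* ℂˣ)} (h : Reps W n rep) : Fin n × W ≃ {ψ : A →* ℂˣ // ψ ≠ 1} :=
  Equiv.ofBijective
    (fun x => ⟨tw (x.2 : MulAut A) (rep x.1), fun h' => h.ne x.1 (tw_eq_one h')⟩) (by
    constructor
    · rintro ⟨i, w⟩ ⟨j, v⟩ hij
      have h2 : tw (w : MulAut A) (rep i) = tw (v : MulAut A) (rep j) := congrArg Subtype.val hij
      have h3 : tw ((w : MulAut A) * (v : MulAut A)⁻¹) (rep i) = rep j := by
        rw [tw_mul, h2, ← tw_mul, mul_inv_cancel, tw_id]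
      have h4 := h.uniq i j _ (W.mul_mem w.2 (W.inv_mem v.2)) h3
      subst h4
      have h5 := dual_fpf hA hfp (h.ne i) (W.mul_mem w.2 (W.inv_mem v.2)) h3
      rw [mul_inv_eq_one] at h5
      rw [Subtype.ext h5]
    · rintro ⟨ψ, hψ⟩
      obtain ⟨i, w, hw, h2⟩ := h.ex ψ hψ
      exact ⟨(i, ⟨w, hw⟩), Subtype.ext h2⟩)

theorem Reps.card (hA : ∀ a b : A, a * b = b * a) (hfp : ∀ w ∈ W, w ≠ 1 → ∀ x : A, w x = x → x = 1)
    {n : ℕ} {rep : Fin n → (A →* ℂˣ)} (h : Reps W n rep) : n * Nat.card W + 1 = Nat.card A := by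
  rw [← card_ne_one hA, ← Nat.card_congr (h.equiv hA hfp), Nat.card_prod,
    Nat.card_eq_fintype_card (α := Fin n), Fintype.card_fin]

/-- sum of all `Th (rep i)` -/
theorem Reps.sum_Th (hA : ∀ a b : A, a * b = b * a) (hfp : ∀ w ∈ W, w ≠ 1 → ∀ x : A, w x = x → x = 1)
    {n : ℕ} {rep : Fin n → (A →* ℂˣ)} (h : Reps W n rep) {x : A} (hx : x ≠ 1) :
    ∑ i, Th W (rep i) x = -1 := by
  classical
  haveI := finite_hom hA
  have h0 : ∑ ψ : A →* ℂˣ, (ψ x : ℂ) = 0 := by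
    have h1 : (∑ ψ : A →* ℂˣ, lf ψ) x = 0 := by
      apply vanish_of_const hA 1 _ hx
      intro φ
      rw [H18.CharOrtho.inner_sum_left]
      simp_rw [inner_lf]
      simp
    rw [Finset.sum_apply] at h1
    exact h1
  have e1 : (Finset.univ : Finset (Fin n × W)) = Finset.univ ×ˢ Finset.univ := by ext; simp
  have h1 : ∑ i, Th W (rep i) x = ∑ z : Fin n × W, (((h.equiv hA hfp z).1 x : ℂˣ) : ℂ) := by
    rw [e1, Finset.sum_product]
    refine Finset.sum_congr (by ext; simp) fun i _ => ?_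
    rfl
  rw [h1, Equiv.sum_comp (h.equiv hA hfp) (fun ψ : {ψ : A →* ℂˣ // ψ ≠ 1} => ((ψ.1 x : ℂˣ) : ℂ))]
  have h2 : ∑ ψ ∈ Finset.univ.erase (1 : A →* ℂˣ), ((ψ x : ℂˣ) : ℂ) =
      ∑ ψ : {ψ : A →* ℂˣ // ψ ≠ 1}, ((ψ.1 x : ℂˣ) : ℂ) := by
    refine Finset.sum_subtype _ (fun ψ => ?_) _
    simp
  rw [← h2]
  have h3 := Finset.add_sum_erase Finset.univ (fun ψ : A →* ℂˣ => ((ψ x : ℂˣ) : ℂ)) (Finset.mem_univ 1)
  rw [h0] at h3
  have h4 : (((1 : A →* ℂˣ) x : ℂˣ) : ℂ) = 1 := by simp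
  simp only [h4] at h3
  linear_combination h3

theorem st_one_one : st W (1 : A →* ℂˣ) 1 = Nat.card W := by
  rw [st]
  exact Nat.card_congr (Equiv.subtypeUnivEquiv fun w => tw_one _)

theorem st_eq_zero {ψ φ : A →* ℂˣ} (h : ∀ w ∈ W, tw w φ ≠ ψ) : st W ψ φ = 0 := by
  rw [st]
  haveI : IsEmpty {w : W // tw (w : MulAut A) φ = ψ} := ⟨fun w => h w.1 w.1.2 w.2⟩
  exact Nat.card_of_isEmpty

theorem st_one_left {φ : A →* ℂˣ} (h : φ ≠ 1) : st W 1 φ = 0 := st_eq_zero fun w _ h' => h (tw_eq_one h')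

theorem st_one_right {ψ : A →* ℂˣ} (h : ψ ≠ 1) : st W ψ 1 = 0 :=
  st_eq_zero fun w _ h' => h (by rw [← h', tw_one])

theorem st_self (hA : ∀ a b : A, a * b = b * a) (hfp : ∀ w ∈ W, w ≠ 1 → ∀ x : A, w x = x → x = 1)
    {ψ : A →* ℂˣ} (h : ψ ≠ 1) : st W ψ ψ = 1 := by
  rw [st, Nat.card_eq_one_iff_unique]
  refine ⟨⟨fun a b => ?_⟩, ⟨⟨1, tw_id ψ⟩⟩⟩
  apply Subtype.ext
  apply Subtype.ext
  rw [dual_fpf hA hfp h a.1.2 a.2, dual_fpf hA hfp h b.1.2 b.2]

theorem st_tw {v : MulAut A} (hv : v ∈ W) (ψ φ : A →* ℂˣ) : st W (tw v ψ) φ = st W ψ φ := by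
  rw [st, st]
  refine Nat.card_congr ⟨fun w => ⟨w.1 * (⟨v, hv⟩ : W)⁻¹, ?_⟩, fun w => ⟨w.1 * ⟨v, hv⟩, ?_⟩, ?_, ?_⟩
  · have h := w.2
    show tw ((w.1 : MulAut A) * v⁻¹) φ = ψ
    rw [tw_mul, h, ← tw_mul, mul_inv_cancel, tw_id]
  · have h := w.2
    show tw ((w.1 : MulAut A) * v) φ = tw v ψ
    rw [tw_mul, h]
  · intro w
    apply Subtype.ext
    exact inv_mul_cancel_right _ _
  · intro w
    apply Subtype.ext
    exact mul_inv_cancel_right _ _

theorem Reps.st {n : ℕ} {rep : Fin n → (A →* ℂˣ)} (h : Reps W n rep)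
    (hA : ∀ a b : A, a * b = b * a) (hfp : ∀ w ∈ W, w ≠ 1 → ∀ x : A, w x = x → x = 1)
    (i j : Fin n) : st W (rep i) (rep j) = if i = j then 1 else 0 := by
  split_ifs with hij
  · rw [hij, st_self hA hfp (h.ne j)]
  · exact st_eq_zero fun w hw h' => hij (h.uniq j i w hw h').symm

/-- two functions on `A` agreeing on the identity of multiplicities up to a constant agree off `1` -/
theorem eq_of_inner (hA : ∀ a b : A, a * b = b * a) {f g : A → ℂ}
    (h : ∀ ψ : A →* ℂˣ, ψ ≠ 1 → classInner (lf ψ) f - classInner (lf 1) f =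
      classInner (lf ψ) g - classInner (lf 1) g) {x : A} (hx : x ≠ 1) : f x = g x := by
  have h1 : (f - g) x = 0 := by
    refine vanish_of_eq_one hA (fun ψ hψ => ?_) hx
    have h3 : classInner (lf ψ) (f - g) = classInner (lf 1) (f - g) := by
      rw [H18.CharOrtho.inner_sub_right, H18.CharOrtho.inner_sub_right]
      linear_combination h ψ hψ
    rw [← H18.CharOrtho.inner_conj_symm, h3, H18.CharOrtho.inner_conj_symm]
  exact sub_eq_zero.1 h1

end H84.FR
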