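import Mathlib
import Cfsg.Agent.Lib.H84.FR1
import Cfsg.Agent.Lib.H5.CharSmallNorm

/-!
# Blocks with local data of Frobenius type: the lattice argument
-/

set_option autoImplicit false
set_option linter.unusedSectionVars false
set_option linter.unusedVariables false
set_option linter.style.haveILetI false

universe u v

namespace H84.FR

open Cfsg H5.PBb H18.CharOrtho H18.CharBasic
open scoped ComplexConjugate
attribute [local instance 2000] Fintype.ofFinite

variable {G : Type u} [Group G] [Finite G] {p : ℕ} {M : Ideal AlgInt}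
variable {A : Type v} [Group A] [Finite A] {W : Subgroup (MulAut A)}
variable {B : Set (IrrCharacter G)} {R : IrrCharacter G → A → ℂ}

open Classical in
/-- local data of a block -/
structure Dat (p : ℕ) (M : Ideal AlgInt) (B : Set (IrrCharacter G)) (W : Subgroup (MulAut A))
    (R : IrrCharacter G → A → ℂ) : Prop where
  gen : ∀ χ ∈ B, IsGeneralizedCharacter A (R χ)
  inv : ∀ χ ∈ B, ∀ w ∈ W, ∀ x : A, x ≠ 1 → R χ (w x) = R χ x
  orth : ∀ x y : A, x ≠ 1 → y ≠ 1 → ∑ χ : IrrCharacter G, (if χ ∈ B then conj (R χ x) * R χ y else 0) =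
    (Nat.card A : ℂ) * (Nat.card {w : W // (w : MulAut A) x = y} : ℂ)
  reg : ∀ x : A, x ≠ 1 → ∀ g : G, ¬ p ∣ orderOf g →
    ∑ χ : IrrCharacter G, (if χ ∈ B then conj (R χ x) * (χ : G → ℂ) g else 0) = 0
  ne : ∀ χ ∈ B, ∀ x : A, x ≠ 1 → R χ x ≠ 0
  dec : ∀ g : G, p ∣ orderOf g → ∃ d : A → ℂ, d 1 = 0 ∧ (∀ x, MemLocalRing M (d x)) ∧
    (∀ x, MemLocalRing M ((Nat.card A : ℂ) * d x / (Nat.card (Subgroup.centralizer ({g} : Set G)) : ℂ))) ∧
    ∀ χ ∈ B, (χ : G → ℂ) g = ∑ x : A, d x * R χ x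

/-- multiplicities -/
noncomputable def cf (R : IrrCharacter G → A → ℂ) (ψ φ : A →* ℂˣ) (χ : IrrCharacter G) : ℂ :=
  classInner (lf ψ) (R χ) - classInner (lf φ) (R χ)

theorem cf_eq (ψ φ : A →* ℂˣ) (χ : IrrCharacter G) :
    cf R ψ φ χ = (Nat.card A : ℂ)⁻¹ * ∑ x : A, (lf ψ x - lf φ x) * conj (R χ x) := by
  rw [cf, classInner, classInner, ← mul_sub, ← Finset.sum_sub_distrib]
  congr 1
  exact Finset.sum_congr rfl fun x _ => by ring

theorem cf_int (hD : Dat p M B W R) (ψ φ : A →* ℂˣ) {χ : IrrCharacter G} (hχ : χ ∈ B) :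
    ∃ n : ℤ, cf R ψ φ χ = n := by
  obtain ⟨a, ha⟩ := inner_gen_intCast (isGen_of_isIrr (lf_irr ψ)) (hD.gen χ hχ)
  obtain ⟨b, hb⟩ := inner_gen_intCast (isGen_of_isIrr (lf_irr φ)) (hD.gen χ hχ)
  exact ⟨a - b, by rw [cf, ha, hb]; push_cast; rfl⟩

open Classical in
/-- the generalized character with multiplicities `cf` -/
noncomputable def D (B : Set (IrrCharacter G)) (R : IrrCharacter G → A → ℂ) (ψ φ : A →* ℂˣ) : G → ℂ :=
  ∑ χ : IrrCharacter G, (if χ ∈ B then cf R ψ φ χ else 0) • (χ : G → ℂ)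

open Classical in
theorem D_apply (ψ φ : A →* ℂˣ) (g : G) :
    D B R ψ φ g = ∑ χ : IrrCharacter G, if χ ∈ B then cf R ψ φ χ * (χ : G → ℂ) g else 0 := by
  rw [D, Finset.sum_apply]
  refine Finset.sum_congr rfl fun χ _ => ?_
  rw [Pi.smul_apply, smul_eq_mul]
  split_ifs
  · rfl
  · rw [zero_mul]

open Classical in
theorem inner_irr_sum (c : IrrCharacter G → ℂ) (χ : IrrCharacter G) :
    classInner (∑ ψ : IrrCharacter G, c ψ • (ψ : G → ℂ)) (χ : G → ℂ) = c χ := by
  rw [inner_sum_left]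
  simp_rw [H18.CharOrtho.inner_smul_left]
  rw [Finset.sum_eq_single χ]
  · rw [inner_irr_self χ.2, mul_one]
  · intro ψ _ hne
    rw [inner_irr_ne ψ.2 χ.2 (fun h => hne (Subtype.ext h)), mul_zero]
  · intro h; exact absurd (Finset.mem_univ _) h

open Classical in
theorem inner_D (ψ φ : A →* ℂˣ) (χ : IrrCharacter G) :
    classInner (D B R ψ φ) (χ : G → ℂ) = if χ ∈ B then cf R ψ φ χ else 0 :=
  inner_irr_sum _ χ

open Classical in
theorem D_class (ψ φ : A →* ℂˣ) : IsClassFunction G (D B R ψ φ) := by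
  intro g h
  rw [D_apply, D_apply]
  exact Finset.sum_congr rfl fun χ _ => by
    rw [show (χ : G → ℂ) (h * g * h⁻¹) = (χ : G → ℂ) g from
      (H18.CharBasic.isClassFunction_of_isIrr χ.2) g h]

theorem D_gen (hD : Dat p M B W R) (ψ φ : A →* ℂˣ) : IsGeneralizedCharacter G (D B R ψ φ) := by
  classical
  rw [H18.CharOrtho.isGen_iff]
  refine ⟨D_class _ _, ?_⟩
  have key : ∀ χ : IrrCharacter G, ∃ n : ℤ, classInner (D B R ψ φ) (χ : G → ℂ) = n := by
    intro χ
    rw [inner_D]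
    split_ifs with h
    · exact cf_int hD ψ φ h
    · exact ⟨0, by simp⟩
  first
    | exact key
    | exact fun χ hχ => key ⟨χ, hχ⟩

theorem D_self (ψ : A →* ℂˣ) : D B R ψ ψ = 0 := by
  classical
  funext g
  rw [D_apply, Pi.zero_apply]
  refine Finset.sum_eq_zero fun χ _ => ?_
  split_ifs
  · rw [cf, sub_self, zero_mul]
  · rfl

theorem D_add (ψ φ θ : A →* ℂˣ) : D B R ψ φ + D B R φ θ = D B R ψ θ := by
  classical
  funext g
  rw [Pi.add_apply, D_apply, D_apply, D_apply, ← Finset.sum_add_distrib]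
  refine Finset.sum_congr rfl fun χ _ => ?_
  split_ifs
  · rw [cf, cf, cf]; ring
  · rw [add_zero]

theorem D_neg (ψ φ : A →* ℂˣ) : D B R φ ψ = - D B R ψ φ := by
  have h := D_add (B := B) (R := R) ψ φ ψ
  rw [D_self] at h
  exact eq_neg_of_add_eq_zero_right h

theorem D_reg (hD : Dat p M B W R) (ψ φ : A →* ℂˣ) {g : G} (hg : ¬ p ∣ orderOf g) : D B R ψ φ g = 0 := by
  classical
  rw [D_apply]
  have h1 : ∀ χ : IrrCharacter G, (if χ ∈ B then cf R ψ φ χ * (χ : G → ℂ) g else 0) =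
      (Nat.card A : ℂ)⁻¹ * ∑ x : A, (lf ψ x - lf φ x) *
        (if χ ∈ B then conj (R χ x) * (χ : G → ℂ) g else 0) := by
    intro χ
    split_ifs
    · rw [cf_eq, mul_assoc, Finset.sum_mul]
      congr 1
      exact Finset.sum_congr rfl fun x _ => by ring
    · simp
  rw [Finset.sum_congr rfl fun χ _ => h1 χ, ← Finset.mul_sum, Finset.sum_comm]
  rw [Finset.sum_eq_zero, mul_zero]
  intro x _
  rw [← Finset.mul_sum]
  by_cases hx : x = 1
  · rw [hx]; simp [lf]
  · rw [hD.reg x hx g hg, mul_zero]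

theorem D_one (hD : Dat p M B W R) (hp : p.Prime) (ψ φ : A →* ℂˣ) : D B R ψ φ 1 = 0 :=
  D_reg hD ψ φ (by rw [orderOf_one]; exact hp.one_lt.ne' ∘ Nat.dvd_one.1)

theorem cf_real (hD : Dat p M B W R) (ψ φ : A →* ℂˣ) {χ : IrrCharacter G} (hχ : χ ∈ B) :
    conj (cf R ψ φ χ) = cf R ψ φ χ := by
  obtain ⟨n, hn⟩ := cf_int hD ψ φ hχ
  rw [hn, map_intCast]

open Classical in
theorem sum_cf (hD : Dat p M B W R) (ψ φ ψ' φ' : A →* ℂˣ) :
    ∑ χ : IrrCharacter G, (if χ ∈ B then cf R ψ φ χ * cf R ψ' φ' χ else 0) =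
    (st W ψ ψ' : ℂ) - st W ψ φ' - st W φ ψ' + st W φ φ' := by
  have hA0 : (Nat.card A : ℂ) ≠ 0 := by exact_mod_cast (Nat.card_pos (α := A)).ne'
  have h1 : ∀ χ : IrrCharacter G, (if χ ∈ B then cf R ψ φ χ * cf R ψ' φ' χ else 0) =
      (Nat.card A : ℂ)⁻¹ * (Nat.card A : ℂ)⁻¹ * ∑ x : A, ∑ y : A, (lf ψ x - lf φ x) * conj (lf ψ' y - lf φ' y) *
        (if χ ∈ B then conj (R χ x) * R χ y else 0) := by
    intro χ
    split_ifs with h
    · rw [← cf_real hD ψ' φ' h, cf_eq, cf_eq, map_mul, map_inv₀, Complex.conj_natCast, map_sum]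
      rw [mul_mul_mul_comm, Finset.sum_mul_sum]
      congr 1
      refine Finset.sum_congr rfl fun x _ => Finset.sum_congr rfl fun y _ => ?_
      rw [map_mul, Complex.conj_conj]
      ring
    · simp
  rw [Finset.sum_congr rfl fun χ _ => h1 χ, ← Finset.mul_sum, Finset.sum_comm]
  have h2 : ∀ x : A, ∑ χ : IrrCharacter G, ∑ y : A, (lf ψ x - lf φ x) * conj (lf ψ' y - lf φ' y) *
        (if χ ∈ B then conj (R χ x) * R χ y else 0) =
      (Nat.card A : ℂ) * ∑ w : W, (lf ψ x - lf φ x) * conj (lf (tw w ψ') x - lf (tw w φ') x) := by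
    intro x
    rw [Finset.sum_comm]
    by_cases hx : x = 1
    · rw [hx]; simp [lf]
    · have h3 : ∀ y : A, ∑ χ : IrrCharacter G, (lf ψ x - lf φ x) * conj (lf ψ' y - lf φ' y) *
          (if χ ∈ B then conj (R χ x) * R χ y else 0) =
          ∑ w : W, if (w : MulAut A) x = y then (Nat.card A : ℂ) * ((lf ψ x - lf φ x) *
            conj (lf ψ' y - lf φ' y)) else 0 := by
        intro y
        rw [← Finset.mul_sum]
        by_cases hy : y = 1
        · rw [hy]; simp [lf]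
        · rw [hD.orth x y hx hy, Finset.sum_ite, Finset.sum_const_zero, add_zero, Finset.sum_const,
            nsmul_eq_mul, Nat.card_eq_fintype_card (α := {w : W // (w : MulAut A) x = y}),
            Fintype.card_subtype]
          ring
      rw [Finset.sum_congr rfl fun y _ => h3 y, Finset.sum_comm, Finset.mul_sum]
      refine Finset.sum_congr rfl fun w _ => ?_
      rw [Finset.sum_ite_eq]
      simp only [Finset.mem_univ, if_true]
      rfl
  rw [Finset.sum_congr rfl fun x _ => h2 x, ← Finset.mul_sum, Finset.sum_comm]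
  have h4 : (Nat.card A : ℂ)⁻¹ * (Nat.card A : ℂ)⁻¹ * ((Nat.card A : ℂ) * ∑ w : W, ∑ x : A,
      (lf ψ x - lf φ x) * conj (lf (tw w ψ') x - lf (tw w φ') x)) =
      ∑ w : W, classInner (lf ψ - lf φ) (lf (tw (w : MulAut A) ψ') - lf (tw (w : MulAut A) φ')) := by
    rw [mul_assoc, inv_mul_cancel_left₀ hA0, Finset.mul_sum]
    rfl
  rw [h4, ← inner_sum_right, Finset.sum_sub_distrib, ← Th_eq, ← Th_eq, H18.CharOrtho.inner_sub_left,
    H18.CharOrtho.inner_sub_right, H18.CharOrtho.inner_sub_right, inner_lf_Th, inner_lf_Th, inner_lf_Th, inner_lf_Th]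
  ring

theorem inner_DD (hD : Dat p M B W R) (ψ φ ψ' φ' : A →* ℂˣ) : classInner (D B R ψ φ) (D B R ψ' φ') =
    (st W ψ ψ' : ℂ) - st W ψ φ' - st W φ ψ' + st W φ φ' := by
  classical
  rw [← sum_cf hD]
  conv_lhs => rw [D, D]
  rw [inner_sum_right]
  refine Finset.sum_congr rfl fun χ _ => ?_
  rw [H18.CharOrtho.inner_smul_right, inner_irr_sum]
  split_ifs with h
  · rw [cf_real hD _ _ h, mul_comm]
  · simp

theorem cf_add (ψ φ θ : A →* ℂˣ) (χ : IrrCharacter G) : cf R ψ φ χ + cf R φ θ χ = cf R ψ θ χ := by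
  rw [cf, cf, cf]; ring

theorem cf_neg (ψ φ : A →* ℂˣ) (χ : IrrCharacter G) : cf R φ ψ χ = - cf R ψ φ χ := by
  rw [cf, cf]; ring

open Classical in
/-- change the value at the identity so that all twists become invariant -/
theorem cf_tw (hD : Dat p M B W R) {w : MulAut A} (hw : w ∈ W) (ψ φ : A →* ℂˣ) {χ : IrrCharacter G}
    (hχ : χ ∈ B) : cf R (tw w ψ) φ χ = cf R ψ φ χ := by
  have h1 : classInner (lf (tw w ψ)) (R χ) = classInner (lf ψ) (R χ) := by
    apply inner_tw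
    intro x
    by_cases hx : x = 1
    · rw [hx, map_one]
    · exact hD.inv χ hχ w hw x hx
  rw [cf, cf, h1]

end H84.FR
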