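import Mathlib
import Cfsg.Agent.Lib.H84.FR2

/-!
# Blocks with local data of Frobenius type: structure
-/

set_option autoImplicit false
set_option linter.unusedSectionVars false
set_option linter.unusedVariables false
set_option linter.style.haveILetI false

universe u v

namespace H84.FR

open Cfsg H5.PBb H18.CharOrtho H18.CharBasic
open scoped ComplexConjugate
attribute [local instance 2000] Fintype.ofFinite

variable {G : Type u} [Group G] [Finite G] {p : ℕ} {M : Ideal AlgInt}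
variable {A : Type v} [Group A] [Finite A] {W : Subgroup (MulAut A)}
variable {B : Set (IrrCharacter G)} {R : IrrCharacter G → A → ℂ}

open Classical in
theorem inner_mu (χ ψ : IrrCharacter G) :
    classInner (χ : G → ℂ) (ψ : G → ℂ) = if χ = ψ then 1 else 0 := by
  split_ifs with h
  · rw [h, inner_irr_self ψ.2]
  · rw [inner_irr_ne χ.2 ψ.2 (fun h' => h (Subtype.ext h'))]

open Classical in
theorem inner_lf_const (c : ℂ) (ψ : A →* ℂˣ) :
    classInner (lf ψ) (fun _ : A => c) = if ψ = 1 then conj c else 0 := by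
  have h1 : (fun _ : A => c) = c • lf (1 : A →* ℂˣ) := by
    funext x; simp [lf]
  rw [h1, H18.CharOrtho.inner_smul_right, inner_lf]
  split_ifs <;> simp

/-- comparison principle -/
theorem R_eq (hD : Dat p M B W R) (hA : ∀ a b : A, a * b = b * a) {n : ℕ} {rep : Fin n → (A →* ℂˣ)}
    (hrep : Reps W n rep) {χ : IrrCharacter G} (hχ : χ ∈ B) {g : A → ℂ}
    (hg : ∀ w ∈ W, ∀ x, g (w x) = g x)
    (h : ∀ i, cf R (rep i) 1 χ = classInner (lf (rep i)) g - classInner (lf 1) g)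
    {x : A} (hx : x ≠ 1) : R χ x = g x := by
  refine eq_of_inner hA (fun ψ hψ => ?_) hx
  obtain ⟨i, w, hw, rfl⟩ := hrep.ex ψ hψ
  have h1 := cf_tw hD hw (rep i) 1 hχ
  rw [h i] at h1
  rw [cf] at h1
  rw [h1, inner_tw _ (hg w hw)]

/-- the description of the block, at least two orbits -/
structure Out (B : Set (IrrCharacter G)) (R : IrrCharacter G → A → ℂ) (W : Subgroup (MulAut A)) (n : ℕ)
    (rep : Fin n → (A →* ℂˣ)) (i₀ : Fin n)
    (μ : Fin n → IrrCharacter G) (δ d : ℤ) (a : IrrCharacter G → ℤ) : Prop where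
  hδ : δ = 1 ∨ δ = -1
  inj : Function.Injective μ
  mem : ∀ i, μ i ∈ B
  diff : ∀ i j, D B R (rep i) (rep j) = (δ : ℂ) • ((μ i : G → ℂ) - (μ j : G → ℂ))
  coef : ∀ χ ∈ B, cf R 1 (rep i₀) χ = a χ
  aX : ∀ χ ∈ B, (∀ i, μ i ≠ χ) → a χ ≠ 0 ∧ ∀ x : A, x ≠ 1 → R χ x = a χ
  aY : ∀ i, a (μ i) = if i = i₀ then d - δ else d
  valY : ∀ i, ∀ x : A, x ≠ 1 → R (μ i) x = d + δ * Th W (rep i) x

theorem exists_out (hD : Dat p M B W R) (hp : p.Prime) (hA : ∀ a b : A, a * b = b * a)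
    (hfp : ∀ w ∈ W, w ≠ 1 → ∀ x : A, w x = x → x = 1) {n : ℕ} {rep : Fin n → (A →* ℂˣ)}
    (hrep : Reps W n rep) (hn : 2 ≤ n) (i₀ : Fin n) (hA1 : ∃ x : A, x ≠ 1) :
    ∃ (μ : Fin n → IrrCharacter G) (δ d : ℤ) (a : IrrCharacter G → ℤ), Out B R W n rep i₀ μ δ d a := by
  classical
  have hst := hrep.st hA hfp
  obtain ⟨ε, hε, μ', hμirr, hμinj, hμ⟩ := H5.CharSmallNorm.exceptional n i₀
    (fun i => D B R (rep i) (rep i₀)) (D_self _) (fun i => D_gen hD _ _)
    (fun i => D_one hD hp _ _) (by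
      intro i j hi hj
      rw [inner_DD hD, hst, hst, hst, hst, if_neg hi, if_neg (Ne.symm hj), if_pos rfl]
      split_ifs <;> norm_num)
  obtain ⟨δ, hδ, rfl⟩ : ∃ δ : ℤ, (δ = 1 ∨ δ = -1) ∧ ε = (δ : ℂ) := by
    rcases hε with h | h
    · exact ⟨1, Or.inl rfl, by rw [h]; simp⟩
    · exact ⟨-1, Or.inr rfl, by rw [h]; simp⟩
  set μ : Fin n → IrrCharacter G := fun i => ⟨μ' i, hμirr i⟩ with hμdef
  have hinj : Function.Injective μ := fun i j h => hμinj (congrArg Subtype.val h)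
  have hdiff : ∀ i j, D B R (rep i) (rep j) = (δ : ℂ) • ((μ i : G → ℂ) - (μ j : G → ℂ)) := by
    intro i j
    have h1 : D B R (rep i) (rep i₀) = (δ : ℂ) • ((μ i : G → ℂ) - (μ i₀ : G → ℂ)) := hμ i
    have h2 : D B R (rep j) (rep i₀) = (δ : ℂ) • ((μ j : G → ℂ) - (μ i₀ : G → ℂ)) := hμ j
    rw [← D_add (rep i) (rep i₀) (rep j), D_neg (rep j) (rep i₀), h1, h2, ← smul_neg, ← smul_add]
    congr 1
    abel
  have hδ2 : (δ : ℂ) * δ = 1 := by
    rcases hδ with h | h <;> rw [h] <;> norm_num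
  have hδ0 : (δ : ℂ) ≠ 0 := by
    intro h; rw [h, zero_mul] at hδ2; exact zero_ne_one hδ2
  have hmem : ∀ i, μ i ∈ B := by
    intro i
    by_contra hno
    obtain ⟨j, hj⟩ : ∃ j : Fin n, j ≠ i := by
      haveI : Nontrivial (Fin n) := Fin.nontrivial_iff_two_le.2 hn
      exact exists_ne i
    have h1 := inner_D (B := B) (R := R) (rep i) (rep j) (μ i)
    rw [if_neg hno, hdiff i j, H18.CharOrtho.inner_smul_left, H18.CharOrtho.inner_sub_left, inner_mu, inner_mu,
      if_pos rfl, if_neg (fun h => hj (hinj h)), sub_zero, mul_one] at h1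
    exact hδ0 h1
  have hcfd : ∀ χ ∈ B, ∀ i j, cf R (rep i) (rep j) χ = δ * ((if μ i = χ then 1 else 0) - if μ j = χ then 1 else 0) := by
    intro χ hχ i j
    have h1 := inner_D (B := B) (R := R) (rep i) (rep j) χ
    rw [if_pos hχ, hdiff i j, H18.CharOrtho.inner_smul_left, H18.CharOrtho.inner_sub_left, inner_mu, inner_mu] at h1
    exact h1.symm
  have hex : ∀ χ : IrrCharacter G, ∃ k : ℤ, χ ∈ B → cf R 1 (rep i₀) χ = k := fun χ => by
    by_cases h : χ ∈ B
    · obtain ⟨k, hk⟩ := cf_int hD 1 (rep i₀) h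
      exact ⟨k, fun _ => hk⟩
    · exact ⟨0, fun h' => absurd h' h⟩
  choose a ha using hex
  have haμ : ∀ i, a (μ i) = if i = i₀ then (a (μ i₀) + δ) - δ else (a (μ i₀) + δ) := by
    intro i
    split_ifs with hi
    · rw [hi]; ring
    · have h1 := inner_DD hD 1 (rep i₀) (rep i) (rep i₀)
      rw [hdiff i i₀, H18.CharOrtho.inner_smul_right, H18.CharOrtho.inner_sub_right, inner_D, inner_D,
        if_pos (hmem i), if_pos (hmem i₀), ha _ (hmem i), ha _ (hmem i₀), hst, hst,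
        st_one_left (hrep.ne i), st_one_left (hrep.ne i₀), if_neg (Ne.symm hi), if_pos rfl] at h1
      rw [show conj (δ : ℂ) = δ from map_intCast _ δ] at h1
      have h2 : (a (μ i) : ℂ) = a (μ i₀) + δ := by
        have h3 := congrArg (fun z => (δ : ℂ) * z) h1
        rw [← mul_assoc, hδ2, one_mul] at h3
        push_cast at h3
        linear_combination h3
      exact_mod_cast h2
  have hcf1 : ∀ χ ∈ B, ∀ i, cf R (rep i) 1 χ = δ * ((if μ i = χ then 1 else 0) - if μ i₀ = χ then 1 else 0) - a χ := by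
    intro χ hχ i
    rw [← cf_add (rep i) (rep i₀) 1, hcfd χ hχ, cf_neg 1 (rep i₀), ha χ hχ]
    ring
  have hconj : ∀ k : ℤ, conj (k : ℂ) = k := fun k => map_intCast _ k
  have hval : ∀ (χ : IrrCharacter G), χ ∈ B → (∀ i, μ i ≠ χ) →
      ∀ x : A, x ≠ 1 → R χ x = a χ := by
    intro χ hχ hno x hx
    refine R_eq hD hA hrep hχ (g := fun _ => (a χ : ℂ)) (fun _ _ _ => rfl) (fun i => ?_) hx
    rw [hcf1 χ hχ i, if_neg (hno i), if_neg (hno i₀), inner_lf_const, inner_lf_const, if_neg (hrep.ne i),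
      if_pos rfl, hconj]
    ring
  have hvalY : ∀ k, ∀ x : A, x ≠ 1 → R (μ k) x = ((a (μ i₀) + δ : ℤ) : ℂ) + δ * Th W (rep k) x := by
    intro k x hx
    refine R_eq hD hA hrep (hmem k)
      (g := (fun _ => ((a (μ i₀) + δ : ℤ) : ℂ)) + (δ : ℂ) • Th W (rep k)) (fun w hw y => ?_) (fun i => ?_) hx
    · rw [Pi.add_apply, Pi.add_apply, Pi.smul_apply, Pi.smul_apply, Th_inv _ hw]
    · rw [hcf1 _ (hmem k) i,
        H18.CharOrtho.inner_add_right, H18.CharOrtho.inner_add_right, H18.CharOrtho.inner_smul_right,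
        H18.CharOrtho.inner_smul_right, inner_lf_Th, inner_lf_Th, hst, st_one_left (hrep.ne k),
        inner_lf_const, inner_lf_const, if_neg (hrep.ne i), if_pos rfl, hconj, hconj, haμ k]
      by_cases h1 : i = k
      · subst h1
        by_cases h2 : i = i₀
        · subst h2
          simp
        · have h3 : ¬ μ i₀ = μ i := fun h => h2 (hinj h).symm
          rw [if_neg h2, if_neg h3]
          simp
      · have h3 : ¬ μ i = μ k := fun h => h1 (hinj h)
        by_cases h2 : k = i₀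
        · subst h2
          rw [if_neg h1, if_neg h3, if_pos rfl, if_pos rfl]
          push_cast
          ring
        · have h4 : ¬ μ i₀ = μ k := fun h => h2 (hinj h).symm
          rw [if_neg h1, if_neg h3, if_neg h2, if_neg h4]
          push_cast
          ring
  refine ⟨μ, δ, a (μ i₀) + δ, a, hδ, hinj, hmem, hdiff, ha, ?_, haμ, hvalY⟩
  intro χ hχ hno
  refine ⟨?_, hval χ hχ hno⟩
  intro h0
  obtain ⟨x, hx⟩ := hA1
  apply hD.ne χ hχ x hx
  rw [hval χ hχ hno x hx, h0, Int.cast_zero]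

open Classical in
theorem sum_split {R' : Type*} [AddCommMonoid R'] {n : ℕ} {μ : Fin n → IrrCharacter G}
    (f : IrrCharacter G → R') (hinj : Function.Injective μ)
    (hmem : ∀ i, μ i ∈ B) :
    ∑ χ : IrrCharacter G, (if χ ∈ B then f χ else 0) = (∑ χ : IrrCharacter G, if χ ∈ B ∧ ∀ i, μ i ≠ χ then
      f χ else 0) + ∑ i, f (μ i) := by
  have h1 : ∑ i, f (μ i) = ∑ χ : IrrCharacter G, if (∃ i, μ i = χ) then f χ else 0 := by
    rw [← Finset.sum_filter]
    have e : Finset.univ.filter (fun χ : IrrCharacter G => ∃ i, μ i = χ) = Finset.univ.map ⟨μ, hinj⟩ := by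
      ext χ; simp
    rw [e, Finset.sum_map]
    exact Finset.sum_congr (by ext; simp) fun _ _ => rfl
  rw [h1, ← Finset.sum_add_distrib]
  refine Finset.sum_congr rfl fun χ _ => ?_
  by_cases h2 : ∃ i, μ i = χ
  · obtain ⟨i, hi⟩ := h2
    rw [if_pos (by rw [← hi]; exact hmem i), if_neg (fun h => h.2 i hi), if_pos ⟨i, hi⟩, zero_add]
  · rw [if_neg h2, add_zero]
    push Not at h2
    by_cases h3 : χ ∈ B
    · rw [if_pos h3, if_pos ⟨h3, h2⟩]
    · rw [if_neg h3, if_neg (fun h => h3 h.1)]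

section out
variable {n : ℕ} {rep : Fin n → (A →* ℂˣ)} {i₀ : Fin n}
  {μ : Fin n → IrrCharacter G} {δ d : ℤ} {a : IrrCharacter G → ℤ}

theorem Out.sumY {R' : Type*} [CommRing R'] (h : Out B R W n rep i₀ μ δ d a) (f : ℤ → R') :
    ∑ i, f (a (μ i)) = f (d - δ) + (n - 1) * f d := by
  classical
  rw [← Finset.add_sum_erase _ _ (Finset.mem_univ i₀), h.aY i₀, if_pos rfl]
  congr 1
  rw [Finset.sum_congr rfl (g := fun _ => f d) (fun i hi => by
    rw [h.aY i, if_neg (Finset.ne_of_mem_erase hi)])]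
  rw [Finset.sum_const, Finset.card_erase_of_mem (Finset.mem_univ _), Finset.card_univ, Fintype.card_fin,
    nsmul_eq_mul, Nat.cast_sub (Fin.pos i₀), Nat.cast_one]

open Classical in
theorem sum_a_sq (hD : Dat p M B W R) (hA : ∀ a b : A, a * b = b * a)
    (hfp : ∀ w ∈ W, w ≠ 1 → ∀ x : A, w x = x → x = 1) (hrep : Reps W n rep)
    (ha : ∀ χ ∈ B, cf R 1 (rep i₀) χ = a χ) :
    ∑ χ : IrrCharacter G, (if χ ∈ B then a χ ^ 2 else 0) = (Nat.card W + 1 : ℤ) := by
  have h1 := sum_cf hD 1 (rep i₀) 1 (rep i₀)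
  rw [st_one_one, st_one_left (hrep.ne i₀), st_one_right (hrep.ne i₀), hrep.st hA hfp, if_pos rfl] at h1
  have h2 : ∑ χ : IrrCharacter G, (if χ ∈ B then cf R 1 (rep i₀) χ * cf R 1 (rep i₀) χ else 0) =
      ((∑ χ : IrrCharacter G, (if χ ∈ B then a χ ^ 2 else 0) : ℤ) : ℂ) := by
    push_cast
    refine Finset.sum_congr rfl fun χ _ => ?_
    split_ifs with h
    · rw [ha χ h]; ring
    · rfl
  rw [h2] at h1
  have h3 : ((∑ χ : IrrCharacter G, (if χ ∈ B then a χ ^ 2 else 0) : ℤ) : ℂ) = ((Nat.card W + 1 : ℤ) : ℂ) := by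
    rw [h1]; push_cast; ring
  exact_mod_cast h3

open Classical in
theorem Out.norm (hD : Dat p M B W R) (hA : ∀ a b : A, a * b = b * a)
    (hfp : ∀ w ∈ W, w ≠ 1 → ∀ x : A, w x = x → x = 1)
    (hrep : Reps W n rep) (h : Out B R W n rep i₀ μ δ d a) :
    (d - δ) ^ 2 + (n - 1 : ℤ) * d ^ 2 + (∑ χ : IrrCharacter G, if χ ∈ B ∧ ∀ i, μ i ≠ χ then
      a χ ^ 2 else 0) = Nat.card W + 1 := by
  have h4 := sum_a_sq hD hA hfp hrep h.coef
  rw [sum_split (fun χ => a χ ^ 2) h.inj h.mem] at h4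
  have h5 := h.sumY (R' := ℤ) (fun k => k ^ 2)
  rw [h5] at h4
  linear_combination h4

open Classical in
theorem Out.card (h : Out B R W n rep i₀ μ δ d a) : Nat.card B =
    (Finset.univ.filter fun χ : IrrCharacter G => χ ∈ B ∧ ∀ i, μ i ≠ χ).card + n := by
  have h1 := sum_split (fun _ => (1 : ℕ)) h.inj h.mem
  rw [Finset.card_filter]
  have h2 : ∑ i : Fin n, (1 : ℕ) = n := by
    rw [Finset.sum_const, Finset.card_univ]
    have := Nat.card_eq_fintype_card (α := Fin n)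
    rw [← this, Nat.card_eq_fintype_card, Fintype.card_fin]
    simp
  rw [h2] at h1
  rw [← h1, Nat.card_eq_fintype_card, ← Finset.card_filter, Fintype.card_subtype]

open Classical in
theorem Out.card_le_sum (h : Out B R W n rep i₀ μ δ d a) :
    ((Finset.univ.filter fun χ : IrrCharacter G => χ ∈ B ∧ ∀ i, μ i ≠ χ).card : ℤ) ≤
      ∑ χ : IrrCharacter G, if χ ∈ B ∧ ∀ i, μ i ≠ χ then a χ ^ 2 else 0 := by
  rw [Finset.card_filter]
  push_cast
  refine Finset.sum_le_sum fun χ _ => ?_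
  by_cases h1 : χ ∈ B ∧ ∀ i, μ i ≠ χ
  · rw [if_pos h1, if_pos h1]
    have h2 := (h.aX χ h1.1 h1.2).1
    have h3 : 0 < a χ ^ 2 := by positivity
    omega
  · rw [if_neg h1, if_neg h1]

end out

end H84.FR
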