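import Mathlib
import Cfsg.Agent.Lib.H84.FR3

/-!
# Blocks with local data of Frobenius type: the bound and the case of equality
-/

set_option autoImplicit false
set_option linter.unusedSectionVars false
set_option linter.unusedVariables false
set_option linter.style.haveILetI false

universe u v

namespace H84.FR

open Cfsg H5.PBb H18.CharOrtho H18.CharBasic
open scoped ComplexConjugate
attribute [local instance 2000] Fintype.ofFinite

variable {G : Type u} [Group G] [Finite G] {p : ℕ} {M : Ideal AlgInt}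
variable {A : Type v} [Group A] [Finite A] {W : Subgroup (MulAut A)}
variable {B : Set (IrrCharacter G)} {R : IrrCharacter G → A → ℂ}
variable {n : ℕ} {rep : Fin n → (A →* ℂˣ)}

/-- the description of the block in the case of equality -/
structure Str (B : Set (IrrCharacter G)) (R : IrrCharacter G → A → ℂ) (W : Subgroup (MulAut A)) (n : ℕ)
    (rep : Fin n → (A →* ℂˣ))
    (μ : Fin n → IrrCharacter G) (δ : ℤ) (a : IrrCharacter G → ℤ) : Prop where
  hδ : δ = 1 ∨ δ = -1
  inj : Function.Injective μ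
  mem : ∀ i, μ i ∈ B
  aX : ∀ χ ∈ B, (∀ i, μ i ≠ χ) → (a χ = 1 ∨ a χ = -1) ∧ ∀ x : A, x ≠ 1 → R χ x = a χ
  valY : ∀ i, ∀ x : A, x ≠ 1 → R (μ i) x = δ * Th W (rep i) x

theorem bracket_pos {n : ℕ} (hn : 2 ≤ n) {δ d : ℤ} (hδ : δ = 1 ∨ δ = -1) :
    1 ≤ (d - δ) ^ 2 + (n - 1 : ℤ) * d ^ 2 := by
  have h3 : (1 : ℤ) ≤ (n : ℤ) - 1 := by
    have : (2 : ℤ) ≤ n := by exact_mod_cast hn
    linarith
  by_cases hd : d = 0
  · rw [hd]
    rcases hδ with h | h <;> rw [h] <;> norm_num
  · have h4 : 0 < d ^ 2 := by positivity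
    nlinarith [sq_nonneg (d - δ)]

theorem card_fin_n (hA : ∀ a b : A, a * b = b * a)
    (hfp : ∀ w ∈ W, w ≠ 1 → ∀ x : A, w x = x → x = 1) (hrep : Reps W n rep) (hA1 : ∃ x : A, x ≠ 1) : 1 ≤ n := by
  rcases Nat.eq_zero_or_pos n with h | h
  · exfalso
    subst h
    have := hrep.card hA hfp
    rw [zero_mul, zero_add] at this
    obtain ⟨x, hx⟩ := hA1
    have h2 := (Nat.card_eq_one_iff_unique.1 this.symm).1
    exact hx (Subsingleton.elim _ _)
  · exact h

/-- case `n = 1` -/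
theorem one_case (hD : Dat p M B W R) (hA : ∀ a b : A, a * b = b * a)
    (hfp : ∀ w ∈ W, w ≠ 1 → ∀ x : A, w x = x → x = 1) {rep : Fin 1 → (A →* ℂˣ)}
    (hrep : Reps W 1 rep) (hA1 : ∃ x : A, x ≠ 1) :
    ∃ a : IrrCharacter G → ℤ, (∀ χ ∈ B, a χ ≠ 0) ∧ (∀ χ ∈ B, ∀ x : A, x ≠ 1 → R χ x = a χ) ∧
      (∀ χ ∈ B, cf R 1 (rep 0) χ = a χ) := by
  classical
  have hex : ∀ χ : IrrCharacter G, ∃ k : ℤ, χ ∈ B → cf R 1 (rep 0) χ = k := fun χ => by
    by_cases h : χ ∈ B
    · obtain ⟨k, hk⟩ := cf_int hD 1 (rep 0) h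
      exact ⟨k, fun _ => hk⟩
    · exact ⟨0, fun h' => absurd h' h⟩
  choose a ha using hex
  have hval : ∀ χ ∈ B, ∀ x : A, x ≠ 1 → R χ x = a χ := by
    intro χ hχ x hx
    refine R_eq hD hA hrep hχ (g := fun _ => (a χ : ℂ)) (fun _ _ _ => rfl) (fun i => ?_) hx
    obtain rfl : i = 0 := Subsingleton.elim _ _
    rw [cf_neg 1 (rep 0), ha χ hχ, inner_lf_const, inner_lf_const, if_neg (hrep.ne 0), if_pos rfl, map_intCast]
    ring
  refine ⟨a, fun χ hχ h0 => ?_, hval, ha⟩
  obtain ⟨x, hx⟩ := hA1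
  apply hD.ne χ hχ x hx
  rw [hval χ hχ x hx, h0, Int.cast_zero]

open Classical in
theorem card_le_sum_sq {a : IrrCharacter G → ℤ} (h : ∀ χ ∈ B, a χ ≠ 0) :
    (Nat.card B : ℤ) ≤ ∑ χ : IrrCharacter G, if χ ∈ B then a χ ^ 2 else 0 := by
  have h1 : (Nat.card B : ℤ) = ∑ χ : IrrCharacter G, if χ ∈ B then 1 else 0 := by
    rw [Nat.card_eq_fintype_card, ← Finset.sum_filter, Finset.sum_const, ← Fintype.card_subtype]
    simp
  rw [h1]
  refine Finset.sum_le_sum fun χ _ => ?_
  split_ifs with h2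
  · have h3 : 0 < a χ ^ 2 := by have := h χ h2; positivity
    omega
  · exact le_refl _

/-- the bound -/
theorem rank_le (hD : Dat p M B W R) (hp : p.Prime) (hA : ∀ a b : A, a * b = b * a)
    (hfp : ∀ w ∈ W, w ≠ 1 → ∀ x : A, w x = x → x = 1)
    (hrep : Reps W n rep) (hA1 : ∃ x : A, x ≠ 1) {r : ℕ} (hcard : Nat.card B = r + n) :
    r ≤ Nat.card W := by
  classical
  have hn1 := card_fin_n hA hfp hrep hA1
  rcases Nat.lt_or_ge n 2 with hn | hn
  · obtain rfl : n = 1 := by omega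
    obtain ⟨a, ha0, hval, ha⟩ := one_case hD hA hfp hrep hA1
    have h1 := sum_a_sq hD hA hfp hrep ha
    have h2 := card_le_sum_sq ha0
    rw [h1, hcard] at h2
    push_cast at h2
    omega
  · obtain ⟨i₀⟩ : Nonempty (Fin n) := ⟨⟨0, by omega⟩⟩
    obtain ⟨μ, δ, d, a, hO⟩ := exists_out hD hp hA hfp hrep hn i₀ hA1
    have h1 := hO.norm hD hA hfp hrep
    have h2 := hO.card_le_sum
    have h3 := hO.card
    have h4 := bracket_pos hn (d := d) hO.hδ
    rw [hcard] at h3
    have h5 : (r : ℤ) = ((Finset.univ.filter fun χ : IrrCharacter G => χ ∈ B ∧ ∀ i, μ i ≠ χ).card : ℤ) := by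
      have : r = (Finset.univ.filter fun χ : IrrCharacter G => χ ∈ B ∧ ∀ i, μ i ≠ χ).card := by omega
      exact_mod_cast this
    have h6 : (r : ℤ) ≤ Nat.card W := by linarith
    exact_mod_cast h6

theorem sq_eq_one_iff_of_side_cond {z : ℤ} (h : z ^ 2 = 1) : z = 1 ∨ z = -1 := by
  have : (z - 1) * (z + 1) = 0 := by linear_combination h
  rcases mul_eq_zero.1 this with h' | h'
  · left; omega
  · right; omega

open Classical in
/-- equality in a sum of squares -/
theorem sq_eq_one_of_sum {s : Finset (IrrCharacter G)} {a : IrrCharacter G → ℤ} (h : ∀ χ ∈ s, a χ ≠ 0)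
    (hs : ∑ χ ∈ s, a χ ^ 2 ≤ s.card) : ∀ χ ∈ s, a χ = 1 ∨ a χ = -1 := by
  intro χ hχ
  have h1 : ∀ ψ ∈ s, 1 ≤ a ψ ^ 2 := by
    intro ψ hψ
    have h3 : 0 < a ψ ^ 2 := by have := h ψ hψ; positivity
    omega
  have h2 : ((s.erase χ).card : ℤ) ≤ ∑ ψ ∈ s.erase χ, a ψ ^ 2 := by
    have := Finset.sum_le_sum (f := fun _ => (1 : ℤ)) (g := fun ψ => a ψ ^ 2) (s := s.erase χ)
      (fun ψ hψ => h1 ψ (Finset.mem_of_mem_erase hψ))
    simpa using this
  have h3 := Finset.add_sum_erase s (fun ψ => a ψ ^ 2) hχ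
  rw [Finset.card_erase_of_mem hχ] at h2
  have h4 : 0 < s.card := Finset.card_pos.2 ⟨χ, hχ⟩
  have h5 : a χ ^ 2 ≤ 1 := by
    have h6 : ((s.card - 1 : ℕ) : ℤ) = (s.card : ℤ) - 1 := by omega
    rw [h6] at h2
    linarith
  have h6 : a χ ^ 2 = 1 := le_antisymm h5 (h1 χ hχ)
  exact sq_eq_one_iff_of_side_cond h6

/-- the case of equality -/
theorem exists_str (hD : Dat p M B W R) (hp : p.Prime) (hA : ∀ a b : A, a * b = b * a)
    (hfp : ∀ w ∈ W, w ≠ 1 → ∀ x : A, w x = x → x = 1)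
    (hrep : Reps W n rep) (hA1 : ∃ x : A, x ≠ 1) (hcard : Nat.card B = Nat.card W + n) :
    ∃ (μ : Fin n → IrrCharacter G) (δ : ℤ) (a : IrrCharacter G → ℤ), Str B R W n rep μ δ a := by
  classical
  have hn1 := card_fin_n hA hfp hrep hA1
  rcases Nat.lt_or_ge n 2 with hn | hn
  · obtain rfl : n = 1 := by omega
    obtain ⟨a, ha0, hval, ha⟩ := one_case hD hA hfp hrep hA1
    have h1 := sum_a_sq hD hA hfp hrep ha
    have h2 : ∀ χ ∈ Finset.univ.filter (fun χ : IrrCharacter G => χ ∈ B), a χ = 1 ∨ a χ = -1 := by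
      apply sq_eq_one_of_sum
      · intro χ hχ; exact ha0 χ (Finset.mem_filter.1 hχ).2
      · rw [Finset.sum_filter, h1, ← Fintype.card_subtype, ← Nat.card_eq_fintype_card]
        have : Nat.card {χ : IrrCharacter G // χ ∈ B} = Nat.card W + 1 := hcard
        rw [this]
        push_cast
        exact le_refl _
    have h3 : ∀ χ ∈ B, a χ = 1 ∨ a χ = -1 := fun χ hχ => h2 χ (Finset.mem_filter.2 ⟨Finset.mem_univ _, hχ⟩)
    have h4 : Nonempty B := by
      have : 0 < Nat.card B := by rw [hcard]; omega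
      exact (Nat.card_pos_iff.1 this).1
    obtain ⟨χ0, h0⟩ := h4
    refine ⟨fun _ => χ0, - a χ0, a, ?_, fun i j _ => Subsingleton.elim _ _, fun _ => h0, ?_, ?_⟩
    · rcases h3 χ0 h0 with h | h <;> rw [h]
      · exact Or.inr rfl
      · exact Or.inl rfl
    · intro χ hχ _
      exact ⟨h3 χ hχ, hval χ hχ⟩
    · intro i x hx
      have h5 := hrep.sum_Th hA hfp hx
      obtain rfl : i = 0 := Subsingleton.elim _ _
      have h6 : ∀ (inst : Fintype (Fin 1)) (f : Fin 1 → ℂ), (@Finset.univ _ inst).sum f = f 0 := by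
        intro inst f
        rw [Finset.sum_eq_single (0 : Fin 1)]
        · intro b _ hb; exact absurd (Subsingleton.elim _ _) hb
        · intro h; exact absurd (Finset.mem_univ _) h
      rw [h6] at h5
      rw [hval χ0 h0 x hx, h5]
      push_cast
      ring
  · obtain ⟨i₀⟩ : Nonempty (Fin n) := ⟨⟨0, by omega⟩⟩
    obtain ⟨μ, δ, d, a, hO⟩ := exists_out hD hp hA hfp hrep hn i₀ hA1
    have h1 := hO.norm hD hA hfp hrep
    have h2 := hO.card_le_sum
    have h3 := hO.card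
    have h4 := bracket_pos hn (d := d) hO.hδ
    rw [hcard] at h3
    have h5 : (Nat.card W : ℤ) = ((Finset.univ.filter fun χ : IrrCharacter G => χ ∈ B ∧ ∀ i, μ i ≠ χ).card : ℤ) := by
      have : Nat.card W = (Finset.univ.filter fun χ : IrrCharacter G => χ ∈ B ∧ ∀ i, μ i ≠ χ).card := by omega
      exact_mod_cast this
    have hbr : (d - δ) ^ 2 + (n - 1 : ℤ) * d ^ 2 = 1 := by linarith
    have haX : ∀ χ ∈ Finset.univ.filter (fun χ : IrrCharacter G => χ ∈ B ∧ ∀ i, μ i ≠ χ),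
        a χ = 1 ∨ a χ = -1 := by
      apply sq_eq_one_of_sum
      · intro χ hχ
        have := (Finset.mem_filter.1 hχ).2
        exact (hO.aX χ this.1 this.2).1
      · rw [Finset.sum_filter]
        linarith
    have haX' : ∀ χ ∈ B, (∀ i, μ i ≠ χ) → a χ = 1 ∨ a χ = -1 := fun χ hχ hno =>
      haX χ (Finset.mem_filter.2 ⟨Finset.mem_univ _, hχ, hno⟩)
    by_cases hd : d = 0
    · refine ⟨μ, δ, a, hO.hδ, hO.inj, hO.mem, fun χ hχ hno => ⟨haX' χ hχ hno, (hO.aX χ hχ hno).2⟩, ?_⟩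
      intro i x hx
      rw [hO.valY i x hx, hd, Int.cast_zero, zero_add]
    · have h6 : 0 < d ^ 2 := by positivity
      have hn' : (2 : ℤ) ≤ n := by exact_mod_cast hn
      have h7 : (n : ℤ) = 2 := by
        by_contra hne
        have : (3 : ℤ) ≤ n := by omega
        nlinarith [sq_nonneg (d - δ)]
      obtain rfl : n = 2 := by exact_mod_cast h7
      have h8 : (d - δ) ^ 2 + d ^ 2 = 1 := by
        push_cast at hbr
        linarith
      have h9 : d = δ := by
        have h10 : (d - δ) ^ 2 = 0 := by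
          have : 0 ≤ (d - δ) ^ 2 := sq_nonneg _
          omega
        have := pow_eq_zero_iff (two_ne_zero) |>.1 h10
        omega
      refine ⟨μ ∘ Fin.rev, -δ, a, ?_, hO.inj.comp Fin.rev_injective, fun i => hO.mem _, ?_, ?_⟩
      · rcases hO.hδ with h | h <;> rw [h]
        · exact Or.inr rfl
        · exact Or.inl rfl
      · intro χ hχ hno
        have hno' : ∀ i, μ i ≠ χ := fun i => by
          have := hno (Fin.rev i)
          rwa [Function.comp_apply, Fin.rev_rev] at this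
        exact ⟨haX' χ hχ hno', (hO.aX χ hχ hno').2⟩
      · intro i x hx
        have h10 := hrep.sum_Th hA hfp hx
        have h11 : ∑ j : Fin 2, Th W (rep j) x = Th W (rep i) x + Th W (rep (Fin.rev i)) x := by
          have e : (Finset.univ : Finset (Fin 2)) = {i, Fin.rev i} := by
            ext j; fin_cases i <;> fin_cases j <;> simp
          rw [e, Finset.sum_pair]
          fin_cases i <;> decide
        rw [h11] at h10
        rw [Function.comp_apply, hO.valY _ x hx, h9]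
        push_cast
        linear_combination δ * h10

end H84.FR
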