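import Mathlib
import Cfsg.Agent.Lib.H84.FR4
import Cfsg.Agent.Lib.H84.AvgN
import Cfsg.Agent.Lib.H20.Loc

/-!
# Consequences of the structure of the block: decomposition of the values
-/

set_option autoImplicit false
set_option linter.unusedSectionVars false
set_option linter.unusedVariables false
set_option linter.style.haveILetI false

universe u v

namespace H84.FR

open Cfsg H5.PBb H18.CharOrtho H18.CharBasic H20.Loc
open scoped ComplexConjugate
attribute [local instance 2000] Fintype.ofFinite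

variable {G : Type u} [Group G] [Finite G] {p : ℕ} {M : Ideal AlgInt}
variable {A : Type v} [Group A] [Finite A] {W : Subgroup (MulAut A)}
variable {B : Set (IrrCharacter G)} {R : IrrCharacter G → A → ℂ}
variable {n : ℕ} {rep : Fin n → (A →* ℂˣ)} {μ : Fin n → IrrCharacter G} {δ : ℤ} {a : IrrCharacter G → ℤ}

theorem cf_of_eq {χ : IrrCharacter G} {g : A → ℂ} (h : ∀ x : A, x ≠ 1 → R χ x = g x) (ψ φ : A →* ℂˣ) :
    cf R ψ φ χ = classInner (lf ψ) g - classInner (lf φ) g := by
  rw [cf_eq, classInner, classInner, ← mul_sub, ← Finset.sum_sub_distrib]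
  congr 1
  refine Finset.sum_congr rfl fun x _ => ?_
  by_cases hx : x = 1
  · subst hx
    have : lf ψ (1 : A) - lf φ (1 : A) = 0 := by simp [lf]
    rw [this]
    have h2 : lf ψ (1 : A) = lf φ (1 : A) := by linear_combination this
    rw [h2]; ring
  · rw [h x hx]; ring

open Classical in
/-- the decomposition on `p`-regular elements -/
theorem Str.reg (hD : Dat p M B W R) (hA : ∀ a b : A, a * b = b * a)
    (hfp : ∀ w ∈ W, w ≠ 1 → ∀ x : A, w x = x → x = 1)
    (hrep : Reps W n rep) (hS : Str B R W n rep μ δ a) (i : Fin n) {g : G} (hg : ¬ p ∣ orderOf g) :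
    ∑ χ : IrrCharacter G, (if χ ∈ B ∧ ∀ i, μ i ≠ χ then (a χ : ℂ) * (χ : G → ℂ) g else 0) =
      δ * (μ i : G → ℂ) g := by
  have h1 := D_reg hD 1 (rep i) hg
  rw [D_apply, sum_split (fun χ => cf R 1 (rep i) χ * (χ : G → ℂ) g) hS.inj hS.mem] at h1
  have h2 : ∀ k, cf R 1 (rep i) (μ k) = if k = i then -(δ : ℂ) else 0 := by
    intro k
    rw [cf_of_eq (g := (δ : ℂ) • Th W (rep k)) (fun x hx => by rw [hS.valY k x hx]; rfl),
      H18.CharOrtho.inner_smul_right, H18.CharOrtho.inner_smul_right, inner_lf_Th, inner_lf_Th, hrep.st hA hfp,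
      st_one_left (hrep.ne k), map_intCast]
    by_cases h : k = i
    · rw [if_pos h.symm, if_pos h]; push_cast; ring
    · rw [if_neg (fun h' => h h'.symm), if_neg h]; push_cast; ring
  have h3 : ∑ k, cf R 1 (rep i) (μ k) * (μ k : G → ℂ) g = -(δ : ℂ) * (μ i : G → ℂ) g := by
    rw [Finset.sum_eq_single i]
    · rw [h2, if_pos rfl]
    · intro k _ hk; rw [h2, if_neg hk, zero_mul]
    · intro h; exact absurd (Finset.mem_univ _) h
  rw [h3] at h1
  have h4 : ∑ χ : IrrCharacter G, (if χ ∈ B ∧ ∀ i, μ i ≠ χ then cf R 1 (rep i) χ * (χ : G → ℂ) g else 0) =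
      ∑ χ : IrrCharacter G, (if χ ∈ B ∧ ∀ i, μ i ≠ χ then (a χ : ℂ) * (χ : G → ℂ) g else 0) := by
    refine Finset.sum_congr rfl fun χ _ => ?_
    split_ifs with h
    · have h5 : cf R 1 (rep i) χ = a χ := by
        rw [cf_of_eq (g := fun _ => (a χ : ℂ)) (hS.aX χ h.1 h.2).2, inner_lf_const, inner_lf_const,
          if_pos rfl, if_neg (hrep.ne i), map_intCast, sub_zero]
      rw [h5]
    · rfl
  rw [h4] at h1
  linear_combination h1

theorem Str.reg_eq (hD : Dat p M B W R) (hA : ∀ a b : A, a * b = b * a)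
    (hfp : ∀ w ∈ W, w ≠ 1 → ∀ x : A, w x = x → x = 1)
    (hrep : Reps W n rep) (hS : Str B R W n rep μ δ a) (i j : Fin n) {g : G} (hg : ¬ p ∣ orderOf g) :
    (μ i : G → ℂ) g = (μ j : G → ℂ) g := by
  classical
  have h1 := hS.reg hD hA hfp hrep i hg
  rw [hS.reg hD hA hfp hrep j hg] at h1
  have h2 : (δ : ℂ) ≠ 0 := by
    rcases hS.hδ with h | h <;> rw [h] <;> norm_num
  exact (mul_left_cancel₀ h2 h1).symm

/-- the decomposition on `p`-singular elements -/
theorem Str.sing (hD : Dat p M B W R) (hA : ∀ a b : A, a * b = b * a)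
    (hfp : ∀ w ∈ W, w ≠ 1 → ∀ x : A, w x = x → x = 1)
    (hrep : Reps W n rep) (hS : Str B R W n rep μ δ a) {g : G} (hg : p ∣ orderOf g) :
    ∃ s : ℂ, (∀ χ ∈ B, (∀ i, μ i ≠ χ) → (a χ : ℂ) * (χ : G → ℂ) g = s) ∧
      ∑ i, (μ i : G → ℂ) g = -(δ : ℂ) * s := by
  classical
  obtain ⟨d, hd1, -, -, hd⟩ := hD.dec g hg
  refine ⟨∑ x : A, d x, fun χ hχ hno => ?_, ?_⟩
  · obtain ⟨h1, h2⟩ := hS.aX χ hχ hno
    rw [hd χ hχ, Finset.mul_sum]
    refine Finset.sum_congr rfl fun x _ => ?_
    by_cases hx : x = 1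
    · rw [hx, hd1, zero_mul, mul_zero]
    · rw [h2 x hx]
      have h3 : (a χ : ℂ) * a χ = 1 := by
        rcases h1 with h | h <;> rw [h] <;> norm_num
      linear_combination d x * h3
  · rw [Finset.sum_congr rfl fun i _ => hd (μ i) (hS.mem i), Finset.sum_comm, Finset.mul_sum]
    refine Finset.sum_congr rfl fun x _ => ?_
    by_cases hx : x = 1
    · rw [hx, hd1]; simp
    · rw [← Finset.mul_sum, Finset.sum_congr rfl fun i _ => hS.valY i x hx, ← Finset.mul_sum,
        hrep.sum_Th hA hfp hx]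
      ring

/-- a generalized character vanishing on the `p`-singular elements has degree divisible by `|G|_p` -/
theorem dvd_of_vanish (hp : p.Prime) {θ : G → ℂ} (hθ : IsGeneralizedCharacter G θ)
    (hv : ∀ g : G, p ∣ orderOf g → θ g = 0) :
    ∃ k : ℤ, θ 1 = ((p ^ (Nat.card G).factorization p : ℕ) : ℂ) * k := by
  have := Fact.mk hp
  obtain ⟨S⟩ : Nonempty (Sylow p G) := inferInstance
  have h1 := isGen_restrict (S : Subgroup G) hθ
  obtain ⟨k, hk⟩ := inner_gen_intCast h1 (isGen_one (G := (S : Subgroup G)))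
  refine ⟨k, ?_⟩
  rw [← hk, classInner, Finset.sum_eq_single 1]
  · have h2 : (Nat.card (S : Subgroup G) : ℂ) ≠ 0 := H18.CharOrtho.card_ne_zero'
    have h3 : Nat.card (S : Subgroup G) = p ^ (Nat.card G).factorization p := S.card_eq_multiplicity
    rw [← h3]
    field_simp
    simp
  · intro x _ hx
    have h2 : θ (x : G) = 0 := by
      apply hv
      obtain ⟨k, hk⟩ := IsPGroup.iff_orderOf.1 S.2 x
      rw [Subgroup.orderOf_coe, hk]
      rcases Nat.eq_zero_or_pos k with h | h
      · exfalso; apply hx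
        rw [h, pow_zero] at hk
        exact orderOf_eq_one_iff.1 hk
      · exact dvd_pow_self p h.ne'
    show θ (x : G) * _ = 0
    rw [h2, zero_mul]
  · intro h; exact absurd (Finset.mem_univ _) h

end H84.FR
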