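import Mathlib
import Cfsg.Agent.Lib.H84.FR5
import Cfsg.Prelude.Def_BlockLocal
import Cfsg.Agent.Lib.H18.CharInd

/-!
# Perfect isometries from matching local data
-/

set_option autoImplicit false
set_option linter.unusedSectionVars false
set_option linter.unusedVariables false
set_option linter.style.haveILetI false

universe u v u' v'

namespace H84.FR

open Cfsg H5.PBb H18.CharOrtho H18.CharBasic H20.Loc
open scoped ComplexConjugate
attribute [local instance 2000] Fintype.ofFinite

section avg

variable {G : Type u} [Group G] [Finite G] {p : ℕ} {M : Ideal AlgInt}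

/-- averages over a coset of a centralized subgroup are algebraic integers -/
theorem avg_int {χ : G → ℂ} (hχ : IsCharacter G χ) (g : G) (S : Subgroup G) (hS : ∀ s ∈ S, s * g = g * s) :
    IsIntegral ℤ ((Nat.card S : ℂ)⁻¹ * ∑ s : S, χ ((s : G) * g)) := by
  set L := Subgroup.normalizer (S : Set G) with hL
  have hSL : S ≤ L := Subgroup.le_normalizer
  have hgL : g ∈ L := by
    rw [hL, Subgroup.mem_normalizer_iff]
    intro s
    constructor
    · intro hs
      rw [← hS s hs]; simpa using hs
    · intro hs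
      have h1 := hS _ hs
      have h2 : g * s * g⁻¹ = s := by
        have h3 : s = g⁻¹ * (g * s * g⁻¹) * g := by group
        have h4 : g⁻¹ * ((g * s * g⁻¹) * g) = g⁻¹ * (g * (g * s * g⁻¹)) := by rw [h1]
        calc g * s * g⁻¹ = g⁻¹ * (g * (g * s * g⁻¹)) := by group
          _ = g⁻¹ * ((g * s * g⁻¹) * g) := h4.symm
          _ = s := by group
      rwa [h2] at hs
  have hN : (S.subgroupOf L).Normal := Subgroup.normal_in_normalizer
  have h1 := H84.AvgN.isCharacter_avg (S.subgroupOf L) (isCharacter_restrict L hχ)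
  have h2 := char_isIntegral h1 (⟨g, hgL⟩ : L)
  have e : (S.subgroupOf L) ≃ S := (Subgroup.subgroupOfEquivOfLe hSL).toEquiv
  have hc : Nat.card (S.subgroupOf L) = Nat.card S := Nat.card_congr e
  have h3 : ∑ n : S.subgroupOf L, χ (((n : L) : G) * g) = ∑ s : S, χ ((s : G) * g) := by
    refine Fintype.sum_equiv (Subgroup.subgroupOfEquivOfLe hSL).toEquiv _ _ fun n => rfl
  rw [← h3, ← hc]
  exact h2

/-- class functions with local integral coefficients vanishing on `p`-singular elements -/
theorem reg_int [M.IsPrime] (hM : IsPModular p M) (c : IrrCharacter G → ℂ) (hc : ∀ χ, MemLocalRing M (c χ))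
    (hv : ∀ g : G, p ∣ orderOf g → ∑ χ : IrrCharacter G, c χ * (χ : G → ℂ) g = 0) {g : G} (hg : ¬ p ∣ orderOf g) :
    MemLocalRing M ((∑ χ : IrrCharacter G, c χ * (χ : G → ℂ) g) /
      (Nat.card (Subgroup.centralizer ({g} : Set G)) : ℂ)) := by
  classical
  have hp := pm_prime hM
  have := Fact.mk hp
  set C := Subgroup.centralizer ({g} : Set G) with hC
  obtain ⟨S⟩ : Nonempty (Sylow p C) := inferInstance
  set S' : Subgroup G := (S : Subgroup C).map C.subtype with hS'
  have hS'C : S' ≤ C := Subgroup.map_subtype_le _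
  have hcomm : ∀ s ∈ S', s * g = g * s := fun s hs => by
    have := hS'C hs
    rw [hC, Subgroup.mem_centralizer_singleton_iff] at this
    exact this
  have hpg : IsPGroup p S' := S.2.map _
  have hcard : Nat.card S' = p ^ (Nat.card C).factorization p := by
    rw [hS', Subgroup.card_map_of_injective C.subtype_injective]
    exact S.card_eq_multiplicity
  have hf : ∀ s : S', s ≠ 1 → ∑ χ : IrrCharacter G, c χ * (χ : G → ℂ) ((s : G) * g) = 0 := by
    intro s hs
    apply hv
    obtain ⟨k, hk⟩ := IsPGroup.iff_orderOf.1 hpg s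
    have hk' : orderOf (s : G) = p ^ k := by rw [Subgroup.orderOf_coe, hk]
    have hcop : (orderOf (s : G)).Coprime (orderOf g) := by
      rw [hk']
      exact Nat.Coprime.pow_left _ ((Nat.Prime.coprime_iff_not_dvd hp).2 hg)
    have hco : Commute (s : G) g := hcomm s s.2
    rw [hco.orderOf_mul_eq_mul_orderOf_of_coprime hcop, hk']
    rcases Nat.eq_zero_or_pos k with h | h
    · exfalso
      apply hs
      rw [h, pow_zero] at hk
      exact orderOf_eq_one_iff.1 hk
    · exact (dvd_pow_self p h.ne').mul_right _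
  have hsum : ∑ χ : IrrCharacter G, c χ * (χ : G → ℂ) g =
      ∑ s : S', ∑ χ : IrrCharacter G, c χ * (χ : G → ℂ) ((s : G) * g) := by
    rw [Finset.sum_eq_single (1 : S')]
    · simp
    · intro s _ hs; exact hf s hs
    · intro h; exact absurd (Finset.mem_univ _) h
  have hS0 : (Nat.card S' : ℂ) ≠ 0 := H18.CharOrtho.card_ne_zero'
  have e1 := Nat.ordProj_mul_ordCompl_eq_self (Nat.card C) p
  have hm : ¬ p ∣ Nat.card C / p ^ (Nat.card C).factorization p := Nat.not_dvd_ordCompl hp Nat.card_pos.ne'
  set m := Nat.card C / p ^ (Nat.card C).factorization p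
  have hm0 : (m : ℂ) ≠ 0 := by
    intro h
    have : m = 0 := by exact_mod_cast h
    rw [this] at hm; exact hm (dvd_zero _)
  have h5 : (∑ χ : IrrCharacter G, c χ * (χ : G → ℂ) g) / (Nat.card C : ℂ) =
      (∑ χ : IrrCharacter G, c χ * ((Nat.card S' : ℂ)⁻¹ * ∑ s : S', (χ : G → ℂ) ((s : G) * g))) * (m : ℂ)⁻¹ := by
    rw [← e1, ← hcard, hsum, Finset.sum_comm]
    push_cast
    rw [mul_comm (Nat.card S' : ℂ) (m : ℂ), ← div_div, div_eq_mul_inv, div_eq_mul_inv, mul_right_comm, Finset.sum_mul]
    congr 1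
    refine Finset.sum_congr rfl fun χ _ => ?_
    rw [Finset.mul_sum, Finset.mul_sum, Finset.sum_mul]
    exact Finset.sum_congr rfl fun s _ => by ring
  rw [h5]
  refine locR_mul (locR_sum fun χ _ => locR_mul (hc χ) ?_) ?_
  · exact isIntegral_mem (avg_int (isCharacter_of_isIrr χ.2) g S' hcomm)
  · exact locR_natCast_inv hM hm

end avg

section perf

variable {G : Type u} [Group G] [Finite G] {p : ℕ} {M : Ideal AlgInt}
variable {A : Type v} [Group A] [Finite A] {W : Subgroup (MulAut A)}
variable {B : Set (IrrCharacter G)} {R : IrrCharacter G → A → ℂ}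
variable {G' : Type u'} [Group G'] [Finite G'] {A' : Type v'} [Group A'] [Finite A']
variable {B' : Set (IrrCharacter G')} {R' : IrrCharacter G' → A' → ℂ}

open Classical in
/-- the weak form of the data -/
structure Dat0 (p : ℕ) (M : Ideal AlgInt) (B : Set (IrrCharacter G)) (R : IrrCharacter G → A → ℂ) : Prop where
  gen : ∀ χ ∈ B, IsGeneralizedCharacter A (R χ)
  reg : ∀ x : A, x ≠ 1 → ∀ g : G, ¬ p ∣ orderOf g →
    ∑ χ : IrrCharacter G, (if χ ∈ B then conj (R χ x) * (χ : G → ℂ) g else 0) = 0
  dec : ∀ g : G, p ∣ orderOf g → ∃ d : A → ℂ, d 1 = 0 ∧ (∀ x, MemLocalRing M (d x)) ∧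
    (∀ x, MemLocalRing M ((Nat.card A : ℂ) * d x / (Nat.card (Subgroup.centralizer ({g} : Set G)) : ℂ))) ∧
    ∀ χ ∈ B, (χ : G → ℂ) g = ∑ x : A, d x * R χ x

theorem Dat.toDat0 (hD : Dat p M B W R) : Dat0 p M B R := ⟨hD.gen, hD.reg, hD.dec⟩

open Classical in
theorem Dat0.reg' (hD : Dat0 p M B R) {x : A} (hx : x ≠ 1) {g : G} (hg : ¬ p ∣ orderOf g) :
    ∑ χ : IrrCharacter G, (if χ ∈ B then R χ x * (χ : G → ℂ) g else 0) = 0 := by
  refine Eq.trans (Finset.sum_congr rfl fun χ _ => ?_) (hD.reg x⁻¹ (inv_ne_one.2 hx) g hg)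
  split_ifs with h
  · rw [gen_inv (hD.gen χ h), Complex.conj_conj]
  · rfl

open Classical in
theorem sum_bijOn {I : IrrCharacter G' → IrrCharacter G} (hI : Set.BijOn I B' B) (F : IrrCharacter G → ℂ) :
    ∑ χ : IrrCharacter G, (if χ ∈ B then F χ else 0) = ∑ η : IrrCharacter G', if η ∈ B' then F (I η) else 0 := by
  rw [← Finset.sum_filter, ← Finset.sum_filter]
  symm
  refine Finset.sum_nbij I ?_ ?_ ?_ ?_
  · intro η hη
    rw [Finset.mem_filter] at hη ⊢
    exact ⟨Finset.mem_univ _, hI.mapsTo hη.2⟩
  · intro η hη ζ hζ h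
    have h1 := (Finset.mem_filter.1 (Finset.mem_coe.1 hη)).2
    have h2 := (Finset.mem_filter.1 (Finset.mem_coe.1 hζ)).2
    exact hI.injOn h1 h2 h
  · intro χ hχ
    have h1 := (Finset.mem_filter.1 (Finset.mem_coe.1 hχ)).2
    obtain ⟨η, hη, h⟩ := hI.surjOn h1
    exact ⟨η, Finset.mem_coe.2 (Finset.mem_filter.2 ⟨Finset.mem_univ _, hη⟩), h⟩
  · intro η _; rfl

open Classical in
theorem kernel_eq (I : IrrCharacter G' → IrrCharacter G) (ε : IrrCharacter G' → ℤ) (x : G) (y : G') :
    signedBijectionKernel B' I ε x y = ∑ η : IrrCharacter G', if η ∈ B' then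
      (ε η : ℂ) * (I η : G → ℂ) x * (η : G' → ℂ) y else 0 := by
  rw [signedBijectionKernel, finsum_mem_def, finsum_eq_sum_of_fintype]
  exact Finset.sum_congr rfl fun η _ => by rw [Set.indicator_apply]

/-- **perfect isometries from matching local data** -/
theorem perfect [M.IsPrime] (hM : IsPModular p M) (hD : Dat p M B W R) (hD' : Dat0 p M B' R')
    (α : A' ≃* A) {I : IrrCharacter G' → IrrCharacter G} (hI : Set.BijOn I B' B) {ε : IrrCharacter G' → ℤ}
    (hε : ∀ η ∈ B', ε η = 1 ∨ ε η = -1)
    (hR : ∀ η ∈ B', ∀ x : A', x ≠ 1 → R' η x = ε η * R (I η) (α x)) :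
    IsPerfectIsometry p M B' B I ε := by
  classical
  have hεsq : ∀ η ∈ B', (ε η : ℂ) * ε η = 1 := fun η hη => by
    rcases hε η hη with h | h <;> rw [h] <;> norm_num
  have hR2 : ∀ η ∈ B', ∀ x : A', x ≠ 1 → ε η * R' η x = R (I η) (α x) := fun η hη x hx => by
    rw [hR η hη x hx, ← mul_assoc, hεsq η hη, one_mul]
  have hα : ∀ x : A', x ≠ 1 → α x ≠ 1 := fun x hx h => hx (by
    rw [← map_one α] at h; exact α.injective h)
  have hα' : ∀ x : A, x ≠ 1 → α.symm x ≠ 1 := fun x hx h => hx (by
    rw [← map_one α.symm] at h; exact α.symm.injective h)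
  -- vanishing in the mixed cases
  have hmix1 : ∀ x : G, p ∣ orderOf x → ∀ y : G', ¬ p ∣ orderOf y → signedBijectionKernel B' I ε x y = 0 := by
    intro x hx y hy
    rw [kernel_eq]
    obtain ⟨d, hd1, -, -, hd⟩ := hD.dec x hx
    have h1 : ∀ η : IrrCharacter G', (if η ∈ B' then (ε η : ℂ) * (I η : G → ℂ) x * (η : G' → ℂ) y else 0) =
        ∑ u : A, d u * (if η ∈ B' then R' η (α.symm u) * (η : G' → ℂ) y else 0) := by
      intro η
      split_ifs with h
      · rw [hd _ (hI.mapsTo h), Finset.mul_sum, Finset.sum_mul]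
        refine Finset.sum_congr rfl fun u _ => ?_
        by_cases hu : u = 1
        · rw [hu, hd1]; ring
        · rw [hR η h _ (hα' u hu), MulEquiv.apply_symm_apply]; ring
      · simp
    rw [Finset.sum_congr rfl fun η _ => h1 η, Finset.sum_comm]
    refine Finset.sum_eq_zero fun u _ => ?_
    rw [← Finset.mul_sum]
    by_cases hu : u = 1
    · rw [hu, hd1, zero_mul]
    · rw [hD'.reg' (hα' u hu) hy, mul_zero]
  have hmix2 : ∀ x : G, ¬ p ∣ orderOf x → ∀ y : G', p ∣ orderOf y → signedBijectionKernel B' I ε x y = 0 := by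
    intro x hx y hy
    rw [kernel_eq]
    obtain ⟨d, hd1, -, -, hd⟩ := hD'.dec y hy
    have h1 : ∀ η : IrrCharacter G', (if η ∈ B' then (ε η : ℂ) * (I η : G → ℂ) x * (η : G' → ℂ) y else 0) =
        ∑ u : A', d u * (if η ∈ B' then R (I η) (α u) * (I η : G → ℂ) x else 0) := by
      intro η
      split_ifs with h
      · rw [hd _ h, Finset.mul_sum]
        refine Finset.sum_congr rfl fun u _ => ?_
        by_cases hu : u = 1
        · rw [hu, hd1]; ring
        · rw [← hR2 η h u hu]; ring
      · simp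
    rw [Finset.sum_congr rfl fun η _ => h1 η, Finset.sum_comm]
    refine Finset.sum_eq_zero fun u _ => ?_
    rw [← Finset.mul_sum]
    by_cases hu : u = 1
    · rw [hu, hd1, zero_mul]
    · rw [← sum_bijOn hI (fun χ => R χ (α u) * (χ : G → ℂ) x), hD.toDat0.reg' (hα u hu) hx, mul_zero]
  refine ⟨hI, hε, fun x y => ?_⟩
  by_cases hx : p ∣ orderOf x
  · by_cases hy : p ∣ orderOf y
    · -- both singular
      obtain ⟨d, hd1, hdl, hdc, hd⟩ := hD.dec x hx
      obtain ⟨d', hd1', hdl', hdc', hd'⟩ := hD'.dec y hy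
      have h1 : ∀ η : IrrCharacter G', (if η ∈ B' then (ε η : ℂ) * (I η : G → ℂ) x * (η : G' → ℂ) y else 0) =
          ∑ u : A, ∑ v : A', d u * d' v * (if η ∈ B' then R (I η) u * R (I η) (α v) else 0) := by
        intro η
        split_ifs with h
        · rw [hd _ (hI.mapsTo h), hd' _ h, mul_assoc, Finset.sum_mul_sum, Finset.mul_sum]
          refine Finset.sum_congr rfl fun u _ => ?_
          rw [Finset.mul_sum]
          refine Finset.sum_congr rfl fun v _ => ?_
          by_cases hv : v = 1
          · rw [hv, hd1']; ring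
          · rw [← hR2 η h v hv]; ring
        · simp
      have h2 : signedBijectionKernel B' I ε x y = ∑ u : A, ∑ v : A', d u * d' v *
          ((Nat.card A : ℂ) * (if u = 1 ∨ v = 1 then (0 : ℂ) else
            (Nat.card {w : W // (w : MulAut A) u⁻¹ = α v} : ℂ))) := by
        rw [kernel_eq, Finset.sum_congr rfl fun η _ => h1 η, Finset.sum_comm]
        refine Finset.sum_congr rfl fun u _ => ?_
        rw [Finset.sum_comm]
        refine Finset.sum_congr rfl fun v _ => ?_
        rw [← Finset.mul_sum]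
        by_cases hu : u = 1
        · rw [hu, hd1]; ring
        · by_cases hv : v = 1
          · rw [hv, hd1']; ring
          · rw [if_neg (by rintro (h | h) <;> contradiction),
              ← hD.orth u⁻¹ (α v) (inv_ne_one.2 hu) (hα v hv),
              sum_bijOn hI (fun χ => conj (R χ u⁻¹) * R χ (α v))]
            congr 1
            refine Finset.sum_congr rfl fun η _ => ?_
            split_ifs with h
            · rw [gen_inv (hD.gen _ (hI.mapsTo h)), Complex.conj_conj]
            · rfl
      have hnat : ∀ (u : A) (v : A'), MemLocalRing M (if u = 1 ∨ v = 1 then (0 : ℂ) else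
            (Nat.card {w : W // (w : MulAut A) u⁻¹ = α v} : ℂ)) := by
        intro u v
        split_ifs
        · exact locR_zero
        · exact locR_natCast _
      refine ⟨?_, ?_, Or.inl ⟨fun h => absurd hx h, fun h => absurd hy h⟩⟩
      · rw [h2, Finset.sum_div]
        refine locR_sum fun u _ => ?_
        rw [Finset.sum_div]
        refine locR_sum fun v _ => ?_
        have h3 : ∀ (k c : ℂ), d u * d' v * ((Nat.card A : ℂ) * k) / c = ((Nat.card A : ℂ) * d u / c) * (d' v * k) := by
          intro k c; ring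
        rw [h3]
        exact locR_mul (hdc u) (locR_mul (hdl' v) (hnat u v))
      · rw [h2, Finset.sum_div]
        refine locR_sum fun u _ => ?_
        rw [Finset.sum_div]
        refine locR_sum fun v _ => ?_
        have h3 : ∀ (k c : ℂ), d u * d' v * ((Nat.card A : ℂ) * k) / c = ((Nat.card A' : ℂ) * d' v / c) * (d u * k) := by
          intro k c
          rw [Nat.card_congr α.toEquiv]; ring
        rw [h3]
        exact locR_mul (hdc' v) (locR_mul (hdl u) (hnat u v))
    · have h := hmix1 x hx y hy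
      rw [h, zero_div, zero_div]
      exact ⟨locR_zero, locR_zero, Or.inr rfl⟩
  · by_cases hy : p ∣ orderOf y
    · have h := hmix2 x hx y hy
      rw [h, zero_div, zero_div]
      exact ⟨locR_zero, locR_zero, Or.inr rfl⟩
    · refine ⟨?_, ?_, Or.inl ⟨fun _ => hy, fun _ => hx⟩⟩
      · -- as a function of `x`
        obtain ⟨J, hJ⟩ : ∃ J : IrrCharacter G → IrrCharacter G', ∀ η ∈ B', J (I η) = η := by
          have : Nonempty (IrrCharacter G') := ⟨⟨fun _ => 1, isIrrCharacter_one⟩⟩
          exact ⟨Function.invFunOn I B', fun η hη => hI.injOn (Function.invFunOn_mem ⟨η, hη, rfl⟩) hη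
            (Function.invFunOn_eq ⟨η, hη, rfl⟩)⟩
        have h1 : ∀ z : G, signedBijectionKernel B' I ε z y =
            ∑ χ : IrrCharacter G, (if χ ∈ B then (ε (J χ) : ℂ) * (J χ : G' → ℂ) y else 0) * (χ : G → ℂ) z := by
          intro z
          have h2 := sum_bijOn hI (fun χ => (ε (J χ) : ℂ) * (J χ : G' → ℂ) y * (χ : G → ℂ) z)
          have h3 : ∀ χ : IrrCharacter G, (if χ ∈ B then (ε (J χ) : ℂ) * (J χ : G' → ℂ) y else 0) * (χ : G → ℂ) z =
              if χ ∈ B then (ε (J χ) : ℂ) * (J χ : G' → ℂ) y * (χ : G → ℂ) z else 0 := by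
            intro χ; split_ifs <;> simp
          rw [Finset.sum_congr rfl fun χ _ => h3 χ, h2, kernel_eq]
          refine Finset.sum_congr rfl fun η _ => ?_
          split_ifs with h
          · rw [hJ η h]; ring
          · rfl
        rw [h1 x]
        refine reg_int hM _ ?_ ?_ hx
        · intro χ
          split_ifs
          · exact locR_mul (locR_intCast _) (isIntegral_mem (char_isIntegral (isCharacter_of_isIrr (J χ).2) y))
          · exact locR_zero
        · intro z hz
          rw [← h1 z, hmix1 z hz y hy]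
      · have h1 : ∀ z : G', signedBijectionKernel B' I ε x z =
            ∑ η : IrrCharacter G', (if η ∈ B' then (ε η : ℂ) * (I η : G → ℂ) x else 0) * (η : G' → ℂ) z := by
          intro z
          rw [kernel_eq]
          refine Finset.sum_congr rfl fun η _ => ?_
          split_ifs <;> simp
        rw [h1 y]
        refine reg_int hM _ ?_ ?_ hy
        · intro η
          split_ifs
          · exact locR_mul (locR_intCast _) (isIntegral_mem (char_isIntegral (isCharacter_of_isIrr (I η).2) x))
          · exact locR_zero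
        · intro z hz
          rw [← h1 z, hmix2 x hx z hz]

end perf

end H84.FR
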