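import Mathlib
import Cfsg.Agent.Lib.H84.FR6

/-!
# Matching of two blocks with the same local structure
-/

set_option autoImplicit false
set_option linter.unusedSectionVars false
set_option linter.unusedVariables false
set_option linter.style.haveILetI false

universe u v u' v'

namespace H84.FR

open Cfsg H5.PBb H18.CharOrtho H18.CharBasic H20.Loc
open scoped ComplexConjugate
attribute [local instance 2000] Fintype.ofFinite

variable {G : Type u} [Group G] [Finite G] {p : ℕ} {M : Ideal AlgInt}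
variable {A : Type v} [Group A] [Finite A] {W : Subgroup (MulAut A)}
variable {B : Set (IrrCharacter G)} {R : IrrCharacter G → A → ℂ}
variable {G' : Type u'} [Group G'] [Finite G'] {A' : Type v'} [Group A'] [Finite A'] {W' : Subgroup (MulAut A')}
variable {B' : Set (IrrCharacter G')} {R' : IrrCharacter G' → A' → ℂ}
variable {n : ℕ} {rep : Fin n → (A →* ℂˣ)} {μ : Fin n → IrrCharacter G} {δ : ℤ} {a : IrrCharacter G → ℤ}

theorem tw_comp (α : A' ≃* A) (w : MulAut A') (ψ : A →* ℂˣ) :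
    tw w (ψ.comp (α : A' →* A)) = (tw (MulAut.congr α w) ψ).comp (α : A' →* A) := by
  ext x
  show ((ψ (α (w x)) : ℂˣ) : ℂ) = ((ψ ((MulAut.congr α w) (α x)) : ℂˣ) : ℂ)
  congr 2
  simp [MulAut.congr]

theorem comp_inj (α : A' ≃* A) {ψ φ : A →* ℂˣ} (h : ψ.comp (α : A' →* A) = φ.comp (α : A' →* A)) : ψ = φ := by
  ext x
  have := DFunLike.congr_fun h (α.symm x)
  simp only [MonoidHom.comp_apply, MulEquiv.coe_toMonoidHom, MonoidHom.coe_coe, MulEquiv.apply_symm_apply] at this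
  rw [this]

theorem Reps.transport (hrep : Reps W n rep) (α : A' ≃* A)
    (hWW : ∀ w : MulAut A', w ∈ W' ↔ MulAut.congr α w ∈ W) :
    Reps W' n (fun i => (rep i).comp (α : A' →* A)) where
  ne i h := hrep.ne i (comp_inj α (by rw [h]; rfl))
  ex ψ hψ := by
    obtain ⟨i, w, hw, h⟩ := hrep.ex (ψ.comp (α.symm : A →* A')) (fun h => hψ (comp_inj α.symm (by rw [h]; rfl)))
    refine ⟨i, (MulAut.congr α).symm w, (hWW _).2 (by rwa [MulEquiv.apply_symm_apply]), ?_⟩
    rw [tw_comp, MulEquiv.apply_symm_apply, h]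
    ext x
    simp
  uniq i j w hw h := by
    rw [tw_comp] at h
    exact hrep.uniq i j _ ((hWW w).1 hw) (comp_inj α h)

theorem Th_transport (α : A' ≃* A) (hWW : ∀ w : MulAut A', w ∈ W' ↔ MulAut.congr α w ∈ W) (ψ : A →* ℂˣ) (x : A') :
    Th W' (ψ.comp (α : A' →* A)) x = Th W ψ (α x) := by
  rw [Th_apply, Th_apply]
  refine Fintype.sum_equiv ((MulAut.congr α).toEquiv.subtypeEquiv hWW) _ _ fun w => ?_
  show ((ψ (α ((w : MulAut A') x)) : ℂˣ) : ℂ) = ((ψ ((MulAut.congr α (w : MulAut A')) (α x)) : ℂˣ) : ℂ)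
  congr 2
  simp [MulAut.congr]

theorem card_transport (α : A' ≃* A) (hWW : ∀ w : MulAut A', w ∈ W' ↔ MulAut.congr α w ∈ W) :
    Nat.card W' = Nat.card W := Nat.card_congr ((MulAut.congr α).toEquiv.subtypeEquiv hWW)

theorem fp_transport (α : A' ≃* A) (hWW : ∀ w : MulAut A', w ∈ W' ↔ MulAut.congr α w ∈ W)
    (hfp : ∀ w ∈ W, w ≠ 1 → ∀ x : A, w x = x → x = 1) : ∀ w ∈ W', w ≠ 1 → ∀ x : A', w x = x → x = 1 := by
  intro w hw hw1 x hx
  have h1 := hfp _ ((hWW w).1 hw) (fun h => hw1 ((MulAut.congr α).injective (by rw [h, map_one]))) (α x) (by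
    simp [MulAut.congr, hx])
  rw [← map_one α] at h1
  exact α.injective h1

open Classical in
theorem Str.card_X (hS : Str B R W n rep μ δ a) :
    Nat.card {χ : IrrCharacter G // χ ∈ B ∧ ∀ i, μ i ≠ χ} + n = Nat.card B := by
  have h1 := sum_split (fun _ => (1 : ℕ)) hS.inj hS.mem
  have h2 : ∑ i : Fin n, (1 : ℕ) = n := by
    rw [Finset.sum_const, Finset.card_univ]
    have := Nat.card_eq_fintype_card (α := Fin n)
    rw [← this, Nat.card_eq_fintype_card, Fintype.card_fin]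
    simp
  rw [h2, ← Finset.card_filter, ← Finset.card_filter] at h1
  rw [Nat.card_eq_fintype_card, Fintype.card_subtype, Nat.card_eq_fintype_card, Fintype.card_subtype]
  exact h1.symm

/-- matching of the two blocks -/
theorem exists_match {rep' : Fin n → (A' →* ℂˣ)} {μ' : Fin n → IrrCharacter G'} {δ' : ℤ} {a' : IrrCharacter G' → ℤ}
    (α : A' ≃* A) (hS : Str B R W n rep μ δ a) (hS' : Str B' R' W' n rep' μ' δ' a')
    (hTh : ∀ i x, Th W' (rep' i) x = Th W (rep i) (α x)) (hcard : Nat.card B' = Nat.card B) :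
    ∃ (I : IrrCharacter G' → IrrCharacter G) (ε : IrrCharacter G' → ℤ), Set.BijOn I B' B ∧
      (∀ η ∈ B', ε η = 1 ∨ ε η = -1) ∧
      (∀ η ∈ B', ∀ x : A', x ≠ 1 → R' η x = ε η * R (I η) (α x)) ∧ ∀ i, ε (μ' i) = δ * δ' := by
  classical
  have hα : ∀ x : A', x ≠ 1 → α x ≠ 1 := fun x hx h => hx (by
    rw [← map_one α] at h; exact α.injective h)
  have hc : Nat.card {χ : IrrCharacter G' // χ ∈ B' ∧ ∀ i, μ' i ≠ χ} =
      Nat.card {χ : IrrCharacter G // χ ∈ B ∧ ∀ i, μ i ≠ χ} := by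
    have h1 := hS.card_X
    have h2 := hS'.card_X
    omega
  have e := (Finite.card_eq.1 hc).some
  obtain ⟨I, hI1, hI2⟩ : ∃ I : IrrCharacter G' → IrrCharacter G, (∀ i, I (μ' i) = μ i) ∧
      ∀ η : {χ : IrrCharacter G' // χ ∈ B' ∧ ∀ i, μ' i ≠ χ}, I η = e η := by
    refine ⟨fun η => if h : ∃ i, μ' i = η then μ h.choose else if h' : η ∈ B' ∧ ∀ i, μ' i ≠ η then e ⟨η, h'⟩
      else ⟨fun _ => 1, isIrrCharacter_one⟩, fun i => ?_, fun η => ?_⟩
    · have h : ∃ j, μ' j = μ' i := ⟨i, rfl⟩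
      simp only [dif_pos h]
      congr 1
      exact hS'.inj h.choose_spec
    · have h : ¬ ∃ j, μ' j = (η : IrrCharacter G') := by
        rintro ⟨j, hj⟩; exact η.2.2 j hj
      simp only [dif_neg h, dif_pos η.2]
  obtain ⟨ε, hε1, hε2⟩ : ∃ ε : IrrCharacter G' → ℤ, (∀ i, ε (μ' i) = δ * δ') ∧
      ∀ η : {χ : IrrCharacter G' // χ ∈ B' ∧ ∀ i, μ' i ≠ χ}, ε η = a' η * a (e η) := by
    refine ⟨fun η => if h : ∃ i, μ' i = η then δ * δ' else a' η * a (I η), fun i => ?_, fun η => ?_⟩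
    · have h : ∃ j, μ' j = μ' i := ⟨i, rfl⟩
      simp only [dif_pos h]
    · have h : ¬ ∃ j, μ' j = (η : IrrCharacter G') := by
        rintro ⟨j, hj⟩; exact η.2.2 j hj
      simp only [dif_neg h, hI2]
  have hcase : ∀ η ∈ B', (∃ i, μ' i = η) ∨ ∀ i, μ' i ≠ η := fun η _ => by
    by_cases h : ∃ i, μ' i = η
    · exact Or.inl h
    · right; push Not at h; exact h
  refine ⟨I, ε, ⟨?_, ?_, ?_⟩, ?_, ?_, hε1⟩
  · intro η hη
    rcases hcase η hη with ⟨i, rfl⟩ | h
    · rw [hI1]; exact hS.mem i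
    · have := hI2 ⟨η, hη, h⟩
      rw [this]
      exact (e ⟨η, hη, h⟩).2.1
  · intro η hη ζ hζ heq
    rcases hcase η hη with ⟨i, rfl⟩ | h
    · rcases hcase ζ hζ with ⟨j, rfl⟩ | h'
      · rw [hI1, hI1] at heq
        rw [hS.inj heq]
      · exfalso
        have := hI2 ⟨ζ, hζ, h'⟩
        rw [hI1, this] at heq
        exact (e ⟨ζ, hζ, h'⟩).2.2 i heq
    · rcases hcase ζ hζ with ⟨j, rfl⟩ | h'
      · exfalso
        have := hI2 ⟨η, hη, h⟩
        rw [hI1, this] at heq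
        exact (e ⟨η, hη, h⟩).2.2 j heq.symm
      · have h1 := hI2 ⟨η, hη, h⟩
        have h2 := hI2 ⟨ζ, hζ, h'⟩
        rw [h1, h2] at heq
        have := e.injective (Subtype.ext heq)
        exact congrArg Subtype.val this
  · intro χ hχ
    by_cases h : ∃ i, μ i = χ
    · obtain ⟨i, rfl⟩ := h
      exact ⟨μ' i, hS'.mem i, hI1 i⟩
    · push Not at h
      refine ⟨(e.symm ⟨χ, hχ, h⟩ : IrrCharacter G'), (e.symm ⟨χ, hχ, h⟩).2.1, ?_⟩
      rw [hI2, Equiv.apply_symm_apply]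
  · intro η hη
    rcases hcase η hη with ⟨i, rfl⟩ | h
    · rw [hε1]
      rcases hS.hδ with h | h <;> rcases hS'.hδ with h' | h' <;> rw [h, h'] <;> norm_num
    · have h1 := hε2 ⟨η, hη, h⟩
      rw [h1]
      have h2 := (hS'.aX η hη h).1
      have h3 := (hS.aX _ (e ⟨η, hη, h⟩).2.1 (e ⟨η, hη, h⟩).2.2).1
      rcases h2 with h2 | h2 <;> rcases h3 with h3 | h3 <;> simp [h2, h3]
  · intro η hη x hx
    rcases hcase η hη with ⟨i, rfl⟩ | h
    · rw [hε1, hI1, hS'.valY i x hx, hS.valY i _ (hα x hx), hTh]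
      have : (δ : ℂ) * δ = 1 := by
        rcases hS.hδ with h | h <;> rw [h] <;> norm_num
      push_cast
      linear_combination (-(δ' : ℂ) * Th W (rep i) (α x)) * this
    · have h1 := hε2 ⟨η, hη, h⟩
      have h2 := hI2 ⟨η, hη, h⟩
      rw [h1, h2, (hS'.aX η hη h).2 x hx, (hS.aX _ (e ⟨η, hη, h⟩).2.1 (e ⟨η, hη, h⟩).2.2).2 _ (hα x hx)]
      have h3 := (hS.aX _ (e ⟨η, hη, h⟩).2.1 (e ⟨η, hη, h⟩).2.2).1
      have h4 : (a (e ⟨η, hη, h⟩) : ℂ) * a (e ⟨η, hη, h⟩) = 1 := by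
        rcases h3 with h | h <;> rw [h] <;> norm_num
      push_cast
      linear_combination (-(a' η : ℂ)) * h4

end H84.FR
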