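import Mathlib
import Cfsg.Agent.Lib.H84.FR7
import Cfsg.Agent.Lib.H20.Defect

/-!
# Congruences of degrees, heights
-/

set_option autoImplicit false
set_option linter.unusedSectionVars false
set_option linter.unusedVariables false
set_option linter.style.haveILetI false

universe u v u' v'

namespace H84.FR

open Cfsg H5.PBb H18.CharOrtho H18.CharBasic H20.Loc
open scoped ComplexConjugate
attribute [local instance 2000] Fintype.ofFinite

variable {G : Type u} [Group G] [Finite G] {p : ℕ} {M : Ideal AlgInt}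
variable {A : Type v} [Group A] [Finite A] {W : Subgroup (MulAut A)}
variable {B : Set (IrrCharacter G)} {R : IrrCharacter G → A → ℂ}
variable {n : ℕ} {rep : Fin n → (A →* ℂˣ)} {μ : Fin n → IrrCharacter G} {δ : ℤ} {a : IrrCharacter G → ℤ}

theorem deg_eq (χ : IrrCharacter G) : (charDegree (χ : G → ℂ) : ℂ) = (χ : G → ℂ) 1 :=
  H20.Defect.charDegree_cast (isCharacter_of_isIrr χ.2)

/-- congruence between the degrees of the non-exceptional characters -/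
theorem Str.congr_X (hp : p.Prime) (hD : Dat p M B W R) (hA : ∀ a b : A, a * b = b * a)
    (hfp : ∀ w ∈ W, w ≠ 1 → ∀ x : A, w x = x → x = 1)
    (hrep : Reps W n rep) (hS : Str B R W n rep μ δ a) {χ ψ : IrrCharacter G} (hχ : χ ∈ B) (hχ' : ∀ i, μ i ≠ χ)
    (hψ : ψ ∈ B) (hψ' : ∀ i, μ i ≠ ψ) :
    a χ * (charDegree (χ : G → ℂ) : ℤ) ≡ a ψ * (charDegree (ψ : G → ℂ) : ℤ)
      [ZMOD ((p ^ (Nat.card G).factorization p : ℕ) : ℤ)] := by
  have hg : IsGeneralizedCharacter G ((a ψ : ℂ) • (ψ : G → ℂ) - (a χ : ℂ) • (χ : G → ℂ)) :=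
    isGen_sub (isGen_intCast_smul _ (isGen_of_isIrr ψ.2)) (isGen_intCast_smul _ (isGen_of_isIrr χ.2))
  obtain ⟨k, hk⟩ := dvd_of_vanish hp hg (fun g hgp => by
    obtain ⟨s, hs, -⟩ := hS.sing hD hA hfp hrep hgp
    show (a ψ : ℂ) * (ψ : G → ℂ) g - (a χ : ℂ) * (χ : G → ℂ) g = 0
    rw [hs ψ hψ hψ', hs χ hχ hχ', sub_self])
  rw [Int.modEq_iff_dvd]
  refine ⟨k, ?_⟩
  have : (((a ψ * (charDegree (ψ : G → ℂ) : ℤ) - a χ * (charDegree (χ : G → ℂ) : ℤ)) : ℤ) : ℂ) =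
      ((((p ^ (Nat.card G).factorization p : ℕ) : ℤ) * k : ℤ) : ℂ) := by
    push_cast
    rw [deg_eq, deg_eq]
    have h2 : ((a ψ : ℂ) • (ψ : G → ℂ) - (a χ : ℂ) • (χ : G → ℂ)) 1 =
      (a ψ : ℂ) * (ψ : G → ℂ) 1 - (a χ : ℂ) * (χ : G → ℂ) 1 := rfl
    rw [← h2, hk]
    push_cast
    rfl
  exact_mod_cast this

/-- congruence between the degrees of the exceptional and non-exceptional characters -/
theorem Str.congr_Y (hp : p.Prime) (hD : Dat p M B W R) (hA : ∀ a b : A, a * b = b * a)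
    (hfp : ∀ w ∈ W, w ≠ 1 → ∀ x : A, w x = x → x = 1)
    (hrep : Reps W n rep) (hS : Str B R W n rep μ δ a) {χ : IrrCharacter G} (hχ : χ ∈ B) (hχ' : ∀ i, μ i ≠ χ)
    (i : Fin n) :
    (n : ℤ) * (charDegree (μ i : G → ℂ) : ℤ) ≡ -(δ * (a χ * (charDegree (χ : G → ℂ) : ℤ)))
      [ZMOD ((p ^ (Nat.card G).factorization p : ℕ) : ℤ)] := by
  have hg : IsGeneralizedCharacter G ((∑ j, (μ j : G → ℂ)) + (((δ * a χ : ℤ) : ℂ)) • (χ : G → ℂ)) :=
    isGen_add (isGen_sum _ _ fun j _ => isGen_of_isIrr (μ j).2) (isGen_intCast_smul _ (isGen_of_isIrr χ.2))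
  obtain ⟨k, hk⟩ := dvd_of_vanish hp hg (fun g hgp => by
    obtain ⟨s, hs, hs'⟩ := hS.sing hD hA hfp hrep hgp
    show (∑ j, (μ j : G → ℂ)) g + ((δ * a χ : ℤ) : ℂ) * (χ : G → ℂ) g = 0
    rw [Finset.sum_apply, hs']
    push_cast
    linear_combination (δ : ℂ) * hs χ hχ hχ')
  rw [Int.modEq_iff_dvd]
  refine ⟨-k, ?_⟩
  have hone : ¬ p ∣ orderOf (1 : G) := by rw [orderOf_one]; exact hp.one_lt.ne' ∘ Nat.dvd_one.1
  have : (((-(δ * (a χ * (charDegree (χ : G → ℂ) : ℤ))) - (n : ℤ) * (charDegree (μ i : G → ℂ) : ℤ)) : ℤ) : ℂ) =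
      ((((p ^ (Nat.card G).factorization p : ℕ) : ℤ) * (-k) : ℤ) : ℂ) := by
    push_cast
    rw [deg_eq, deg_eq]
    have h2 : ((∑ j, (μ j : G → ℂ)) + (((δ * a χ : ℤ) : ℂ)) • (χ : G → ℂ)) 1 =
      (n : ℂ) * (μ i : G → ℂ) 1 + (δ : ℂ) * a χ * (χ : G → ℂ) 1 := by
      show (∑ j, (μ j : G → ℂ)) 1 + ((δ * a χ : ℤ) : ℂ) * (χ : G → ℂ) 1 = _
      rw [Finset.sum_apply, Finset.sum_congr rfl fun j _ => hS.reg_eq hD hA hfp hrep j i hone, Finset.sum_const,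
        Finset.card_univ]
      have h3 := Nat.card_eq_fintype_card (α := Fin n)
      rw [← h3, Nat.card_eq_fintype_card, Fintype.card_fin, nsmul_eq_mul]
      push_cast
      rfl
    rw [hk] at h2
    push_cast at h2
    linear_combination h2
  exact_mod_cast this

/-- all heights are zero -/
theorem Str.height (hp : p.Prime) (hD : Dat p M B W R) (hA : ∀ a b : A, a * b = b * a)
    (hfp : ∀ w ∈ W, w ≠ 1 → ∀ x : A, w x = x → x = 1)
    (hrep : Reps W n rep) (hS : Str B R W n rep μ δ a) (hn : ¬ p ∣ n) (hX : Nat.card B ≠ n)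
    {χ : IrrCharacter G} (hχ : χ ∈ B) : blockHeight p B (χ : G → ℂ) = 0 := by
  classical
  set N := (Nat.card G).factorization p with hN
  -- a reference character
  have hc := hS.card_X
  have hX0 : 0 < Nat.card {χ : IrrCharacter G // χ ∈ B ∧ ∀ i, μ i ≠ χ} := by
    rcases Nat.eq_zero_or_pos (Nat.card {χ : IrrCharacter G // χ ∈ B ∧ ∀ i, μ i ≠ χ}) with h | h
    · rw [h, zero_add] at hc; exact absurd hc.symm hX
    · exact h
  obtain ⟨⟨χ0, h0, h0'⟩⟩ := (Nat.card_pos_iff.1 hX0).1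
  have hunit : ∀ (s : ℤ), s = 1 ∨ s = -1 → ∀ k d : ℤ, (k ∣ s * d ↔ k ∣ d) := by
    intro s hs k d
    rcases hs with h | h <;> rw [h] <;> simp
  have key : ∀ ψ ∈ B, ∀ j ≤ N, (p ^ j ∣ charDegree (ψ : G → ℂ) ↔ p ^ j ∣ charDegree (χ0 : G → ℂ)) := by
    intro ψ hψ j hj
    have hdvd : ((p ^ j : ℕ) : ℤ) ∣ ((p ^ N : ℕ) : ℤ) := by exact_mod_cast pow_dvd_pow p hj
    have h0u := (hS.aX χ0 h0 h0').1
    rw [← Int.natCast_dvd_natCast, ← Int.natCast_dvd_natCast (n := charDegree (χ0 : G → ℂ))]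
    by_cases h : ∃ i, μ i = ψ
    · obtain ⟨i, rfl⟩ := h
      have h1 := (hS.congr_Y hp hD hA hfp hrep h0 h0' i).of_dvd hdvd
      have hcop : IsCoprime (((p ^ j : ℕ) : ℤ)) (n : ℤ) := by
        rw [Nat.isCoprime_iff_coprime]
        exact Nat.Coprime.pow_left _ ((Nat.Prime.coprime_iff_not_dvd hp).2 hn)
      have h2 : ((p ^ j : ℕ) : ℤ) ∣ (n : ℤ) * (charDegree (μ i : G → ℂ) : ℤ) ↔
          ((p ^ j : ℕ) : ℤ) ∣ -(δ * (a χ0 * (charDegree (χ0 : G → ℂ) : ℤ))) := by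
        rw [Int.dvd_iff_emod_eq_zero, Int.dvd_iff_emod_eq_zero, h1]
      rw [dvd_neg, hunit δ hS.hδ, hunit _ h0u] at h2
      rw [← h2]
      exact ⟨fun h => Dvd.dvd.mul_left h _, fun h => hcop.dvd_of_dvd_mul_left h⟩
    · push Not at h
      have h1 := (hS.congr_X hp hD hA hfp hrep hψ h h0 h0').of_dvd hdvd
      have h2 : ((p ^ j : ℕ) : ℤ) ∣ a ψ * (charDegree (ψ : G → ℂ) : ℤ) ↔
          ((p ^ j : ℕ) : ℤ) ∣ a χ0 * (charDegree (χ0 : G → ℂ) : ℤ) := by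
        rw [Int.dvd_iff_emod_eq_zero, Int.dvd_iff_emod_eq_zero, h1]
      rwa [hunit _ h0u, hunit _ (hS.aX ψ hψ h).1] at h2
  have hle : ∀ ψ ∈ B, ∀ ξ ∈ B, (charDegree (ψ : G → ℂ)).factorization p ≤ (charDegree (ξ : G → ℂ)).factorization p := by
    intro ψ hψ ξ hξ
    have hd : ∀ ζ : IrrCharacter G, charDegree (ζ : G → ℂ) ≠ 0 := by
      intro ζ h
      have h1 := deg_eq ζ
      rw [h, Nat.cast_zero] at h1
      exact irr_one_ne_zero ζ.2 h1.symm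
    have hN1 : (charDegree (ψ : G → ℂ)).factorization p ≤ N :=
      (Nat.factorization_le_iff_dvd (hd ψ) Nat.card_pos.ne').2 (H20.Defect.charDegree_dvd_card ψ) p
    rw [← hp.pow_dvd_iff_le_factorization (hd ξ)]
    rw [key ξ hξ _ hN1, ← key ψ hψ _ hN1]
    exact Nat.ordProj_dvd _ _
  unfold blockHeight
  have hne : ((fun ψ : IrrCharacter G => (charDegree (ψ : G → ℂ)).factorization p) '' B).Nonempty := ⟨_, χ, hχ, rfl⟩
  obtain ⟨ξ, hξ, h⟩ := Nat.sInf_mem hne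
  rw [← h]
  exact Nat.sub_eq_zero_of_le (hle χ hχ ξ hξ)

end H84.FR
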