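import Cfsg.Agent.Lib.H84.FL10
import Cfsg.Agent.Lib.H84.FR8

/-!
# Blocks with a local system attaining the bound: structure and perfect isometries
-/

set_option autoImplicit false
set_option linter.unusedSectionVars false
set_option linter.unusedVariables false

namespace H84.FL

open Cfsg H20.Loc H20.GA H80.GA H80.GB H80.GC H80.GD H80.GE H80.GF H80.GG H80.GH H80.GJ H80.FS H84.RG H18.CharBasic H18.CharOrtho H84.TrR
open H20.Blk H20.Orth H20.Ind H20.Height H20.Defect H80.BR1 H80.BR2 H19.Second H19.Second3 H81.Section H81.Contrib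
open H84.Star H84.Wat H80.BR7 H84.FR
open scoped ComplexConjugate

universe u v u'

attribute [local instance 2000] Fintype.ofFinite

variable {M : Ideal AlgInt} [M.IsMaximal] {G : Type u} [Group G] [Finite G] {p : ℕ}
variable [Fact p.Prime] [CharP (ResF M) p] [Algebra (ZMod p) (ResF M)] [Algebra.IsAlgebraic (ZMod p) (ResF M)]
variable {B : Set (IrrCharacter G)} {P : Subgroup G} {e : MonoidAlgebra (ResF M) G}

/-- the structure of the block from a local system when the bound is attained -/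
theorem str_loc [IsAlgClosed (ResF M)] (hM : IsPModular p M) (hmax : IsMax p ⊤ (ebar M B) P e)
    (hB : IsPBlock M B) (hab : ∀ x ∈ P, ∀ y ∈ P, x * y = y * x) (hP1 : P ≠ ⊥)
    (hfree : ∀ g ∈ ST ⊤ P e, ∀ x ∈ P, x ≠ 1 → g * x * g⁻¹ = x → g ∈ Subgroup.centralizer (P : Set G))
    {S : ∀ x : P, BlkS M (x : G)} {φ : ∀ x : P, C (x : G) → ℂ} {R : IrrCharacter G → P → ℂ}
    (hL : Loc (p := p) B P e S φ R) (hl : blockRank p B = Nat.card (WT P e))
    {n : ℕ} {rep : Fin n → (P →* ℂˣ)} (hrep : Reps (WT P e) n rep) :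
    Dat p M B (WT P e) R ∧ ∃ (μ : Fin n → IrrCharacter G) (δ : ℤ) (a : IrrCharacter G → ℤ),
      Str B R (WT P e) n rep μ δ a := by
  have hBne : B.Nonempty := isPBlock_nonempty hB
  have hD := hL.dat hM hmax hB hab hfree hBne (exists_ne_one hP1)
  have hfp := WT_free hfree
  have hcard := card_eq hM hmax hB hab hfree (hrep.card (sub_comm hab) hfp)
  rw [hl] at hcard
  exact ⟨hD, exists_str hD Fact.out (sub_comm hab) hfp hrep (exists_ne_one hP1) hcard⟩

/-- perfect isometries between two blocks with local systems attaining the bound -/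
theorem isometry_loc {G' : Type u'} [Group G'] [Finite G'] {B' : Set (IrrCharacter G')} {P' : Subgroup G'}
    {e' : MonoidAlgebra (ResF M) G'}
    [IsAlgClosed (ResF M)] (hM : IsPModular p M) (hmax : IsMax p ⊤ (ebar M B) P e)
    (hB : IsPBlock M B) (hab : ∀ x ∈ P, ∀ y ∈ P, x * y = y * x) (hP1 : P ≠ ⊥)
    (hfree : ∀ g ∈ ST ⊤ P e, ∀ x ∈ P, x ≠ 1 → g * x * g⁻¹ = x → g ∈ Subgroup.centralizer (P : Set G))
    {S : ∀ x : P, BlkS M (x : G)} {φ : ∀ x : P, C (x : G) → ℂ} {R : IrrCharacter G → P → ℂ}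
    (hL : Loc (p := p) B P e S φ R) (hl : blockRank p B = Nat.card (WT P e))
    (hmax' : IsMax p ⊤ (ebar M B') P' e')
    (hB' : IsPBlock M B') (hab' : ∀ x ∈ P', ∀ y ∈ P', x * y = y * x) (hP1' : P' ≠ ⊥)
    (hfree' : ∀ g ∈ ST ⊤ P' e', ∀ x ∈ P', x ≠ 1 → g * x * g⁻¹ = x → g ∈ Subgroup.centralizer (P' : Set G'))
    {S' : ∀ x : P', BlkS M (x : G')} {φ' : ∀ x : P', C (x : G') → ℂ} {R' : IrrCharacter G' → P' → ℂ}
    (hL' : Loc (p := p) B' P' e' S' φ' R') (hl' : blockRank p B' = Nat.card (WT P' e'))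
    (α : P' ≃* P) (hWW : ∀ w : MulAut P', w ∈ WT P' e' ↔ MulAut.congr α w ∈ WT P e) :
    Nat.card B' = Nat.card B ∧ blockRank p B' = blockRank p B ∧
      ∃ (I : IrrCharacter G' → IrrCharacter G) (ε : IrrCharacter G' → ℤ), IsPerfectIsometry p M B' B I ε := by
  obtain ⟨n, rep, hrep⟩ := exists_reps (sub_comm hab) (WT P e)
  have hrep' := hrep.transport α hWW
  obtain ⟨hD, μ, δ, a, hS⟩ := str_loc hM hmax hB hab hP1 hfree hL hl hrep
  obtain ⟨hD', μ', δ', a', hS'⟩ := str_loc hM hmax' hB' hab' hP1' hfree' hL' hl' hrep'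
  have h1 := card_eq hM hmax hB hab hfree (hrep.card (sub_comm hab) (WT_free hfree))
  have h2 := card_eq hM hmax' hB' hab' hfree' (hrep'.card (sub_comm hab') (WT_free hfree'))
  have h3 := card_transport α hWW
  have h4 : blockRank p B' = blockRank p B := by rw [hl, hl', h3]
  have h5 : Nat.card B' = Nat.card B := by rw [h1, h2, h4]
  refine ⟨h5, h4, ?_⟩
  obtain ⟨I, ε, hI, hε, hR, -⟩ := exists_match α hS hS' (fun i x => Th_transport α hWW (rep i) x) h5
  exact ⟨I, ε, perfect hM hD hD'.toDat0 α hI hε hR⟩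

end H84.FL
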