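import Cfsg.Agent.Lib.H84.FL12

/-!
# Local subgroups: maximal pairs and inertial quotients
-/

set_option autoImplicit false
set_option linter.unusedSectionVars false
set_option linter.unusedVariables false

namespace H84.FL

open Cfsg H20.Loc H20.GA H80.GA H80.GB H80.GC H80.GD H80.GE H80.GF H80.GG H80.GH H80.GJ H80.FS H84.RG H18.CharBasic H18.CharOrtho H84.TrR
open H20.Blk H20.Orth H20.Ind H20.Height H20.Defect H80.BR1 H80.BR2 H19.Second H19.Second3 H81.Section H81.Contrib
open H84.Star H84.Wat H80.BR7 H84.FR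
open scoped ComplexConjugate

universe u v u'

attribute [local instance 2000] Fintype.ofFinite

variable {M : Ideal AlgInt} [M.IsMaximal] {G : Type u} [Group G] [Finite G] {p : ℕ}
variable [Fact p.Prime] [CharP (ResF M) p] [Algebra (ZMod p) (ResF M)] [Algebra.IsAlgebraic (ZMod p) (ResF M)]
variable {B : Set (IrrCharacter G)} {P : Subgroup G}

/-- pairs of blocks of local subgroups -/
theorem max_of_local (hM : IsPModular p M) (hB : IsPBlock M B) (hPD : IsDefectGroup p M B P) {Z H : Subgroup G}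
    (hZP : Z ≤ P) (hZH : Z ≤ H) (hCH : Subgroup.centralizer (Z : Set G) ≤ H)
    (hHN : H ≤ Subgroup.normalizer (Z : Set G)) (hPH : P ≤ H)
    {c : Set (IrrCharacter H)} (hcD : IsDefectGroup p M c (P.subgroupOf H)) (hc : IsInducedBlock M H c B) :
    ∃ e' : MonoidAlgebra (ResF M) H, IsMax p ⊤ (ebar M c) (P.subgroupOf H) e' ∧
      IsMax p ⊤ (ebar M B) P (inc (ResF M) H.subtype e') := by
  have hcB : IsPBlock M c := hc.1
  obtain ⟨e', hmax'⟩ := exists_isMax_of_isDefectGroup hM hcB hcD
  refine ⟨e', hmax', ?_⟩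
  have hinj := H.subtype_injective
  have hP' : (P.subgroupOf H).map H.subtype = P := by
    rw [Subgroup.subgroupOf_map_subtype]; exact inf_eq_left.2 hPH
  have htop : (⊤ : Subgroup H).map H.subtype = H := map_subtype_top H
  have h1 := (H84.Wat.inc_isMax (p := p) hinj).2 hmax'
  rw [htop, hP'] at h1
  have hpP : IsPGroup p P := h1.of.pair.pgr
  have hpZ : IsPGroup p Z := hpP.to_le hZP
  have h2 := (H80.BR7.induced_iff_br hM hpZ hZH hCH hHN hcB hB).1 hc
  have hCPH : Subgroup.centralizer (P : Set G) ≤ H := (Subgroup.centralizer_le hZP).trans hCH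
  have hCH' : CH H P = CH ⊤ P := by
    rw [CH_top]
    unfold CH
    exact inf_eq_left.2 hCPH
  have hbr : br (ResF M) P (ebar M B) * inc (ResF M) H.subtype e' = inc (ResF M) H.subtype e' := by
    have h3 : br (ResF M) P (br (ResF M) Z (ebar M B)) * br (ResF M) P (bl M H c) = br (ResF M) P (bl M H c) := by
      rw [← br_mul hpP _ _, h2]
      · exact br_mem_Fx (Fx_mono le_top (isBlk_ebar hB).mem.1) (hPH.trans hHN)
      · exact Fx_mono hPH ((isBlk_bl hcB).mem.1)
    rw [br_br hZP] at h3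
    have h4 := h1.of.br
    have h5 : br (ResF M) P (bl M H c) * inc (ResF M) H.subtype e' = inc (ResF M) H.subtype e' := h4
    calc br (ResF M) P (ebar M B) * inc (ResF M) H.subtype e'
        = br (ResF M) P (ebar M B) * (br (ResF M) P (bl M H c) * inc (ResF M) H.subtype e') := by rw [h5]
      _ = (br (ResF M) P (ebar M B) * br (ResF M) P (bl M H c)) * inc (ResF M) H.subtype e' := by rw [mul_assoc]
      _ = inc (ResF M) H.subtype e' := by rw [h3, h5]
  have h6 : PairOf p ⊤ (ebar M B) P (inc (ResF M) H.subtype e') :=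
    ⟨⟨hpP, le_top, by rw [← hCH']; exact h1.of.pair.blk⟩, isBlk_ebar hB, hbr⟩
  rw [isMax_iff_isDef h6]
  exact (H80.BR2.isDefectGroup_iff_isDef hM hB).1 hPD

/-- inertial quotients in subgroups -/
theorem WT_sub {H : Subgroup G} (hPH : P ≤ H) {e' : MonoidAlgebra (ResF M) H}
    (hST : ST ⊤ P (inc (ResF M) H.subtype e') ≤ H) (w : MulAut (P.subgroupOf H)) :
    w ∈ WT (P.subgroupOf H) e' ↔
      MulAut.congr (Subgroup.subgroupOfEquivOfLe hPH) w ∈ WT P (inc (ResF M) H.subtype e') := by
  have hinj := H.subtype_injective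
  have hP' : (P.subgroupOf H).map H.subtype = P := by
    rw [Subgroup.subgroupOf_map_subtype]; exact inf_eq_left.2 hPH
  have htop : (⊤ : Subgroup H).map H.subtype = H := map_subtype_top H
  have key : ∀ t : H, (t : G) ∈ ST ⊤ P (inc (ResF M) H.subtype e') ↔ t ∈ ST ⊤ (P.subgroupOf H) e' := by
    intro t
    have h1 := H80.FS4.inc_ST (k := ResF M) hinj (L := ⊤) (Q := P.subgroupOf H) (f := e') (x := t)
    rw [htop, hP'] at h1
    rw [← h1]
    constructor
    · intro h; exact ⟨t.2, h.2.1, h.2.2⟩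
    · intro h; exact ⟨Subgroup.mem_top _, h.2.1, h.2.2⟩
  constructor
  · rintro ⟨t, ht⟩
    refine ⟨⟨((t : H) : G), (key _).2 t.2⟩, ?_⟩
    ext x
    have h2 := stHom_apply ⊤ (P.subgroupOf H) e' t ((Subgroup.subgroupOfEquivOfLe hPH).symm x)
    rw [ht] at h2
    have h3 := congrArg (fun z : H => (z : G)) h2
    exact h3.symm
  · rintro ⟨s, hs⟩
    have hsH : (s : G) ∈ H := hST s.2
    refine ⟨⟨⟨(s : G), hsH⟩, (key ⟨(s : G), hsH⟩).1 s.2⟩, ?_⟩
    ext x
    have h2 := stHom_apply ⊤ P (inc (ResF M) H.subtype e') s (Subgroup.subgroupOfEquivOfLe hPH x)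
    rw [hs] at h2
    have h3 : MulAut.congr (Subgroup.subgroupOfEquivOfLe hPH) w (Subgroup.subgroupOfEquivOfLe hPH x) =
        Subgroup.subgroupOfEquivOfLe hPH (w x) := by
      simp [MulAut.congr]
    rw [h3] at h2
    exact h2.symm

end H84.FL
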