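import Cfsg.Agent.Lib.H84.Wat3

/-!
# Relative form of the coset formula
-/

set_option autoImplicit false

namespace H84.Wat

open Cfsg H20.Loc H20.GA H80.GA H80.GB H80.GD H80.GE H80.GF H80.GG H80.GH H80.GJ H80.FS H84.RG H18.CharBasic H18.CharOrtho H84.TrR
open H20.Blk H20.Orth H20.Ind H20.Height H20.Defect H80.BR1 H80.BR2 H80.BR7 H80.FS4
open H84.Star
open H81.Section (C)
open scoped ComplexConjugate commutatorElement

universe u

attribute [local instance 2000] Fintype.ofFinite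

section bk
variable {k : Type*} {G : Type u} [Field k] [Group G] [Finite G] {p : ℕ}
variable [Fact p.Prime] [CharP k p] [Algebra (ZMod p) k] [Algebra.IsAlgebraic (ZMod p) k]

open Classical in
/-- the block of `K` below the pair `(P, e)` -/
noncomputable def bk (p : ℕ) [Fact p.Prime] [CharP k p] [Algebra (ZMod p) k] [Algebra.IsAlgebraic (ZMod p) k]
    (K P : Subgroup G) (e : MonoidAlgebra k G) : MonoidAlgebra k G :=
  if h : IsPair p K P e then (exists_pairOf h).choose else 0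

theorem bk_eq {K P : Subgroup G} {e f : MonoidAlgebra k G} (h : PairOf p K f P e) : bk p K P e = f := by
  unfold bk
  rw [dif_pos h.pair]
  exact pairOf_unique (exists_pairOf h.pair).choose_spec h

theorem bk_spec {K P : Subgroup G} {e : MonoidAlgebra k G} (h : IsPair p K P e) : PairOf p K (bk p K P e) P e := by
  unfold bk
  rw [dif_pos h]
  exact (exists_pairOf h).choose_spec

theorem inc_isMax {K : Type u} [Group K] [Finite K] {φ : K →* G} (hφ : Function.Injective φ) {L Q : Subgroup K}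
    {b f : MonoidAlgebra k K} : IsMax p (L.map φ) (inc k φ b) (Q.map φ) (inc k φ f) ↔ IsMax p L b Q f := by
  constructor
  · intro h
    have h1 := (inc_pairOf hφ).1 h.of
    rw [isMax_iff_isDef h1, ← inc_isDef hφ]
    exact (isMax_iff_isDef h.of).1 h
  · intro h
    have h1 := (inc_pairOf hφ).2 h.of
    rw [isMax_iff_isDef h1, inc_isDef hφ]
    exact (isMax_iff_isDef h.of).1 h

variable {H P Q : Subgroup G} {b e f : MonoidAlgebra k G}

/-- fusion classes at the top level -/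
theorem cl_eq_ob {M : Ideal AlgInt} [M.IsMaximal] [CharP (ResF M) p] [Algebra (ZMod p) (ResF M)]
    [Algebra.IsAlgebraic (ZMod p) (ResF M)] {b e : MonoidAlgebra (ResF M) G} {P : Subgroup G}
    (hmax : IsMax p ⊤ b P e) (hab : ∀ x ∈ P, ∀ y ∈ P, x * y = y * x) (y : P) :
    Subtype.val '' (cl p P e y) = ob ⊤ P e (y : G) := by
  have hP := hmax.of.pair
  ext x
  constructor
  · rintro ⟨y', ⟨g, ⟨f, h1, h2⟩, h3⟩, rfl⟩
    obtain ⟨t, ht, c, hc, rfl⟩ := ab_ctrl hmax hab h1 (Subgroup.mem_top g) h2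
    refine ⟨t, ht, ?_⟩
    rw [h3]
    have h4 : c * (y : G) = y * c := by
      have := Subgroup.mem_centralizer_iff.1 hc.1 (y : G) (Subgroup.mem_zpowers _)
      exact this.symm
    calc t * c * (y : G) * (t * c)⁻¹ = t * (c * y) * c⁻¹ * t⁻¹ := by group
      _ = _ := by rw [h4]; group
  · rintro ⟨t, ht, rfl⟩
    have hy : t * (y : G) * t⁻¹ ∈ P := (mem_normalizer_iff'.1 ht.2.1 y).1 y.2
    refine ⟨⟨t * y * t⁻¹, hy⟩, ⟨t, ?_, rfl⟩, rfl⟩
    refine ⟨fy hP y, fy_spec hP y, ?_⟩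
    have h1 := sle_cj (fy_spec hP y) t
    rw [cs_of_mem (Subgroup.mem_top t), mem_normalizer.1 ht.2.1, ht.2.2] at h1
    exact h1

theorem card_cl_eq {M : Ideal AlgInt} [M.IsMaximal] [CharP (ResF M) p] [Algebra (ZMod p) (ResF M)]
    [Algebra.IsAlgebraic (ZMod p) (ResF M)] {b e : MonoidAlgebra (ResF M) G} {P : Subgroup G}
    (hmax : IsMax p ⊤ b P e) (hab : ∀ x ∈ P, ∀ y ∈ P, x * y = y * x) (y : P) :
    Nat.card (cl p P e y) = Nat.card (ob ⊤ P e (y : G)) := by
  rw [← cl_eq_ob hmax hab y, Nat.card_image_of_injective Subtype.val_injective]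

/-- the focal subgroup at the top level -/
theorem focal_eq (hmax : IsMax p ⊤ b P e) (hab : ∀ x ∈ P, ∀ y ∈ P, x * y = y * x) :
    (fsys hmax.of.pair).focalSubgroup = foc ⊤ P e := by
  have hP := hmax.of.pair
  apply le_antisymm
  · rw [FusionSystem.focalSubgroup, Subgroup.closure_le]
    rintro x ⟨Q, φ, y, ⟨hQ, g, hg, h1, h2⟩, rfl⟩
    have h3 : Fus p ⊤ P e (Subgroup.zpowers (y : G)) g :=
      fus_restrict hP hg h2 (by rw [Subgroup.zpowers_le]; exact y.2)
    obtain ⟨f, h4, h5⟩ := h3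
    obtain ⟨t, ht, c, hc, rfl⟩ := ab_ctrl hmax hab h4 hg h5
    apply Subgroup.subset_closure
    refine ⟨y, hQ y.2, t, ht, ?_⟩
    rw [h1]
    have h6 : c * (y : G) = y * c := by
      have := Subgroup.mem_centralizer_iff.1 hc.1 (y : G) (Subgroup.mem_zpowers _)
      exact this.symm
    congr 1
    calc t * c * (y : G) * (t * c)⁻¹ = t * (c * y) * c⁻¹ * t⁻¹ := by group
      _ = _ := by rw [h6]; group
  · unfold foc
    rw [Subgroup.closure_le]
    rintro x ⟨y, hy, t, ht, rfl⟩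
    apply Subgroup.subset_closure
    refine ⟨P, Cfsg.conjHom P t, ⟨y, hy⟩, ⟨le_rfl, t, Subgroup.mem_top t, fun u => rfl, ?_⟩, rfl⟩
    refine ⟨e, Relation.ReflTransGen.refl, ?_⟩
    rw [mem_normalizer.1 ht.2.1, ht.2.2]
    exact Relation.ReflTransGen.refl

end bk

variable {M : Ideal AlgInt} [M.IsMaximal] {G : Type u} [Group G] [Finite G] {p : ℕ}
variable [Fact p.Prime] [CharP (ResF M) p] [Algebra (ZMod p) (ResF M)] [Algebra.IsAlgebraic (ZMod p) (ResF M)]

/-- weights -/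
noncomputable def wt (p : ℕ) [Fact p.Prime] [CharP (ResF M) p] [Algebra (ZMod p) (ResF M)]
    [Algebra.IsAlgebraic (ZMod p) (ResF M)] (H P : Subgroup G) (e : MonoidAlgebra (ResF M) G) (y : G) : ℂ :=
  (rk p (CH H (Subgroup.zpowers y)) (bk p (CH H (Subgroup.zpowers y)) P e) : ℂ) / (Nat.card (ob H P e y) : ℂ)

open Classical in
/-- the coset formula, top level -/
theorem top_coset (hM : IsPModular p M) {B : Set (IrrCharacter G)} {P : Subgroup G} {e : MonoidAlgebra (ResF M) G}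
    (hmax : IsMax p ⊤ (ebar M B) P e) (hB : IsPBlock M B)
    (hab : ∀ x ∈ P, ∀ y ∈ P, x * y = y * x) {z : G} (hz : z ∈ P) :
    ((foc ⊤ P e).relIndex P : ℂ) * ∑ y : G, (if y ∈ P ∧ z⁻¹ * y ∈ foc ⊤ P e then wt p ⊤ P e y else 0) =
      (Nat.card B : ℂ) := by
  have hP := hmax.of.pair
  rw [← coset_sum hM hmax hB hab ⟨z, hz⟩, Subgroup.relIndex, focal_eq hmax hab]
  congr 1
  rw [← Finset.sum_filter, ← Finset.sum_filter]
  symm
  apply Finset.sum_bij (fun (y : P) _ => (y : G))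
  · intro y hy
    rw [Finset.mem_filter] at hy ⊢
    exact ⟨Finset.mem_univ _, y.2, Subgroup.mem_subgroupOf.1 hy.2⟩
  · intro a _ b _ h
    exact Subtype.ext h
  · intro y hy
    rw [Finset.mem_filter] at hy
    exact ⟨⟨y, hy.2.1⟩, by
      rw [Finset.mem_filter]
      exact ⟨Finset.mem_univ _, Subgroup.mem_subgroupOf.2 hy.2.2⟩, rfl⟩
  · intro y _
    unfold wt
    rw [card_cl_eq hmax hab, bk_eq (ab_max hmax hab (fy_spec hP y)).of, CH_eq]

end H84.Wat
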