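import Cfsg.Agent.Lib.H84.FL1
import Cfsg.Agent.Lib.H84.Wat4
import Cfsg.Agent.Lib.H84.KR2

/-!
# Components: passage to a subgroup
-/

set_option autoImplicit false
set_option linter.unusedSectionVars false
set_option linter.unusedVariables false

namespace H84.FL

open Cfsg H20.Loc H20.GA H80.GA H80.GB H80.GC H80.GD H80.GE H80.GF H80.GJ H80.FS H84.RG H18.CharBasic H18.CharOrtho H84.TrR
open H20.Blk H20.Orth H20.Ind H20.Height H20.Defect H80.BR1 H80.BR2 H19.Second H19.Second3 H81.Section H81.Contrib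
open H84.Star
open scoped ComplexConjugate

universe u

attribute [local instance 2000] Fintype.ofFinite

section tr
variable {A A' : Type u} [Group A] [Group A'] [Finite A] [Finite A']

theorem inner_equiv (φ : A ≃* A') (f g : A' → ℂ) :
    classInner (f ∘ φ) (g ∘ φ) = classInner f g := by
  rw [classInner, classInner, Nat.card_congr φ.toEquiv]
  congr 1
  exact Fintype.sum_equiv φ.toEquiv _ _ (fun x => rfl)

theorem proj_trI (φ : A ≃* A') (S : Set (IrrCharacter A)) (f : A' → ℂ) (a : A) :
    proj (trI φ '' S) f (φ a) = proj S (f ∘ φ) a := by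
  rw [proj, proj, finsum_mem_image (trI_injective φ).injOn]
  refine finsum_congr fun χ => finsum_congr fun _ => ?_
  rw [trI_apply, MulEquiv.symm_apply_apply]
  congr 1
  rw [← inner_equiv φ]
  congr 1
  funext x
  rw [Function.comp_apply, trI_apply, MulEquiv.symm_apply_apply]

end tr

variable {M : Ideal AlgInt} [M.IsMaximal] {G : Type u} [Group G] [Finite G] {p : ℕ}

theorem exists_transport {K : Subgroup G} {L : Subgroup K} {C' : Subgroup G} (h : C' = L.map K.subtype)
    {S : Set (IrrCharacter C')} (hS : IsPBlock M S) :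
    ∃ S' : Set (IrrCharacter L), IsPBlock M S' ∧ inc (ResF M) K.subtype (bl M L S') = bl M C' S ∧
      ∃ E : L ≃* C', (∀ l, ((E l : C') : G) = ((l : K) : G)) ∧
        ∀ (f : C' → ℂ) (l : L), proj S f (E l) = proj S' (f ∘ E) l := by
  subst h
  set E := L.equivMapOfInjective K.subtype K.subtype_injective with hE
  have hS2 : trI E '' (trI E.symm '' S) = S := by
    rw [Set.image_image]
    have : ∀ χ, trI E (trI E.symm χ) = χ := fun χ => trI_trI_symm E χ
    simp only [this, Set.image_id']
  refine ⟨trI E.symm '' S, isPBlock_trI _ hS, ?_, E, fun l => rfl, fun f l => ?_⟩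
  · rw [← H84.Wat.bl_map K.subtype_injective, hS2]
  · conv_lhs => rw [← hS2]
    rw [proj_trI]

/-- centralizer of an element in a subgroup -/
theorem C_eq_map {K : Subgroup G} {y : K} (h : C (y : G) ≤ K) : C (y : G) = (C y).map K.subtype := by
  rw [H84.KR.map_C]
  exact (inf_eq_right.2 h).symm

theorem comp_transport {K : Subgroup G} {y : K} {S : Set (IrrCharacter (C (y : G)))} {S' : Set (IrrCharacter (C y))}
    (E : C y ≃* C (y : G)) (hE : ∀ l, ((E l : C (y : G)) : G) = ((l : K) : G))
    (h : ∀ (f : C (y : G) → ℂ) (l : C y), proj S f (E l) = proj S' (f ∘ E) l) (χ : G → ℂ) (l : C y) :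
    comp p (y : G) S χ (E l) = comp p y S' (fun k : K => χ k) l := by
  have h1 : (tw (y : G) χ) ∘ E = tw y (fun k : K => χ k) := by
    funext c
    show χ ((y : G) * (E c : C (y : G))) = χ ((y * (c : K) : K) : G)
    rw [hE]
    rfl
  have ho : orderOf (E l) = orderOf l := E.orderOf_eq l
  rw [comp, comp]
  by_cases hl : p ∣ orderOf l
  · rw [reg_not hl, reg_not (by rwa [ho])]
  · rw [reg_of hl, reg_of (by rwa [ho]), h, h1]

section sub
variable [Fact p.Prime] [CharP (ResF M) p] [Algebra (ZMod p) (ResF M)] [Algebra.IsAlgebraic (ZMod p) (ResF M)]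

/-- passage to a subgroup -/
theorem sub_setup {H P : Subgroup G} {e : MonoidAlgebra (ResF M) G} {S : Set (IrrCharacter H)}
    (hmax : IsMax p H (bl M H S) P e) :
    ∃ e' : MonoidAlgebra (ResF M) H, inc (ResF M) H.subtype e' = e ∧
      IsMax p ⊤ (ebar M S) (P.subgroupOf H) e' ∧ (P.subgroupOf H).map H.subtype = P := by
  have hinj := H.subtype_injective
  have hPH := hmax.of.pair.le
  obtain ⟨e', he'⟩ := exists_inc (k := ResF M) hinj (b := e) (by
    rw [Subgroup.range_subtype]; exact Sp_mono inf_le_right hmax.of.pair.blk.mem.2)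
  have hP' : (P.subgroupOf H).map H.subtype = P := by
    rw [Subgroup.subgroupOf_map_subtype]; exact inf_eq_left.2 hPH
  have htop : (⊤ : Subgroup H).map H.subtype = H := map_subtype_top H
  refine ⟨e', he', ?_, hP'⟩
  rw [← H84.Wat.inc_isMax hinj, htop, hP', he']
  exact hmax

/-- heights and defect of a local block -/
theorem heights [IsAlgClosed (ResF M)] (hM : IsPModular p M) {H P : Subgroup G} {e : MonoidAlgebra (ResF M) G}
    {S : Set (IrrCharacter H)} (hS : IsPBlock M S)
    (hmax : IsMax p H (bl M H S) P e) (hab : ∀ x ∈ P, ∀ y ∈ P, x * y = y * x)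
    (hnil : H80.FS3.Nilp p H (bl M H S)) :
    (∀ θ ∈ S, blockHeight p S (θ : H → ℂ) = 0) ∧ Nat.card P = p ^ blockDefect p S := by
  obtain ⟨e', he', hmax', hP'⟩ := sub_setup hmax
  have hnil' : H80.FS3.Nilp p ⊤ (ebar M S) := by
    rw [← H80.FS4.nilp_iff_top hS, H80.FS4.nilp_iff_sub hS]; exact hnil
  have hPH := hmax.of.pair.le
  have hcard : Nat.card (P.subgroupOf H) = Nat.card P := Nat.card_congr (Subgroup.subgroupOfEquivOfLe hPH).toEquiv
  constructor
  · obtain ⟨χ0, h0, hh0⟩ := exists_height_zero hM hS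
    intro θ hθ
    obtain ⟨ζ, hζ⟩ := (nilEquiv hM hmax' hS hnil' h0 hh0).surjective ⟨θ, hθ⟩
    have h1 := nilEquiv_height hM hmax' hS hnil' h0 hh0 ζ
    rw [hζ] at h1
    rw [h1]
    have h2 : charDegree (ζ : P.subgroupOf H → ℂ) = 1 := by
      have hA : ∀ a b : P.subgroupOf H, a * b = b * a := fun a b =>
        Subtype.ext (Subtype.ext (hab _ (Subgroup.mem_subgroupOf.1 a.2) _ (Subgroup.mem_subgroupOf.1 b.2)))
      obtain ⟨ψ, hψ⟩ := exists_hom_of_isIrr_of_comm hA ζ.2
      have h4 := charDegree_cast (isCharacter_of_isIrr ζ.2)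
      have h5 : (ζ : P.subgroupOf H → ℂ) 1 = 1 := by rw [hψ]; simp
      rw [h5] at h4
      exact_mod_cast h4
    rw [h2, Nat.factorization_one]
    rfl
  · rw [← hcard]
    have h3 : IsDefectGroup p M S (P.subgroupOf H) := by
      rw [H80.BR2.isDefectGroup_iff_isDef hM hS]
      exact (maxPair hmax').1
    exact card_defectGroup hM hS h3

end sub

end H84.FL
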