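import Cfsg.Agent.Lib.H84.FL2
import Cfsg.Agent.Lib.H80.SU6

/-!
# Integrality of components
-/

set_option autoImplicit false
set_option linter.unusedSectionVars false
set_option linter.unusedVariables false

namespace H84.FL

open Cfsg H20.Loc H20.GA H80.GA H80.GB H80.GC H80.GD H80.GE H80.GF H80.GJ H80.FS H84.RG H18.CharBasic H18.CharOrtho H84.TrR
open H20.Blk H20.Orth H20.Ind H20.Height H20.Defect H80.BR1 H80.BR2 H19.Second H19.Second3 H81.Section H81.Contrib
open H84.Star
open scoped ComplexConjugate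

universe u

attribute [local instance 2000] Fintype.ofFinite

variable {M : Ideal AlgInt} {G : Type u} [Group G] [Finite G] {p : ℕ}

/-- integrality for height zero characters -/
theorem int_height [M.IsPrime] (hM : IsPModular p M) {B : Set (IrrCharacter G)} (hB : IsPBlock M B) {χ : IrrCharacter G}
    (hχ : χ ∈ B) (h0 : blockHeight p B (χ : G → ℂ) = 0) (g : G) :
    MemLocalRing M (((p ^ blockDefect p B : ℕ) : ℂ) * (χ : G → ℂ) g /
      (Nat.card (Subgroup.centralizer ({g} : Set G)) : ℂ)) := by
  have hp := pm_prime hM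
  have h1 := (height_zero_iff hM hB hχ).1 h0
  have hint := isIntegral_centralChar χ g
  set d := charDegree (χ : G → ℂ) with hd
  have hd1 : (d : ℂ) = (χ : G → ℂ) 1 := charDegree_cast (isCharacter_of_isIrr χ.2)
  have hd0 : d ≠ 0 := by
    intro h
    rw [h, Nat.cast_zero] at hd1
    exact H18.CharBasic.irr_one_ne_zero χ.2 hd1.symm
  have hG0 : Nat.card G ≠ 0 := Nat.card_pos.ne'
  have e1 := Nat.ordProj_mul_ordCompl_eq_self d p
  have e2 := Nat.ordProj_mul_ordCompl_eq_self (Nat.card G) p
  have hm : ¬ p ∣ Nat.card G / p ^ (Nat.card G).factorization p := Nat.not_dvd_ordCompl hp hG0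
  set d' := d / p ^ d.factorization p
  set m := Nat.card G / p ^ (Nat.card G).factorization p
  have hidx : ((Subgroup.centralizer ({g} : Set G)).index : ℂ) * (Nat.card (Subgroup.centralizer ({g} : Set G)) : ℂ) =
      (Nat.card G : ℂ) := by
    rw [← Nat.cast_mul, Subgroup.index_mul_card]
  have hC0 : (Nat.card (Subgroup.centralizer ({g} : Set G)) : ℂ) ≠ 0 := by
    exact_mod_cast (Nat.card_pos (α := Subgroup.centralizer ({g} : Set G))).ne'
  have hm0 : (m : ℂ) ≠ 0 := by
    intro h
    have : m = 0 := by exact_mod_cast h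
    rw [this] at hm; exact hm (dvd_zero _)
  have hp0 : (p : ℂ) ≠ 0 := by exact_mod_cast hp.ne_zero
  have key : ((p ^ blockDefect p B : ℕ) : ℂ) * (χ : G → ℂ) g /
      (Nat.card (Subgroup.centralizer ({g} : Set G)) : ℂ) = centralChar (χ : G → ℂ) g * ((d' : ℂ) * (m : ℂ)⁻¹) := by
    unfold centralChar
    rw [← hd1]
    have e3 : (d : ℂ) * (p : ℂ) ^ blockDefect p B = (p : ℂ) ^ (Nat.card G).factorization p * d' := by
      rw [← h1, pow_add]
      have : ((p ^ d.factorization p * d' : ℕ) : ℂ) = (d : ℂ) := by rw [e1]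
      rw [← this]
      push_cast
      ring
    have e4 : (p : ℂ) ^ (Nat.card G).factorization p * (m : ℂ) = (Nat.card G : ℂ) := by
      have : ((p ^ (Nat.card G).factorization p * m : ℕ) : ℂ) = (Nat.card G : ℂ) := by rw [e2]
      rw [← this]; push_cast; rfl
    have hd0' : (d : ℂ) ≠ 0 := by exact_mod_cast hd0
    rw [← e4] at hidx
    rw [div_eq_iff hC0]
    have e5 : ((Subgroup.centralizer ({g} : Set G)).index : ℂ) * (χ : G → ℂ) g / (d : ℂ) * ((d' : ℂ) * (m : ℂ)⁻¹) *
        (Nat.card (Subgroup.centralizer ({g} : Set G)) : ℂ) =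
        (((Subgroup.centralizer ({g} : Set G)).index : ℂ) *
        (Nat.card (Subgroup.centralizer ({g} : Set G)) : ℂ)) * (χ : G → ℂ) g * (d' : ℂ) / ((d : ℂ) * (m : ℂ)) := by
      field_simp
    rw [e5, hidx, eq_div_iff (mul_ne_zero hd0' hm0)]
    push_cast
    linear_combination ((χ : G → ℂ) g * (m : ℂ)) * e3
  rw [key]
  exact locR_mul (isIntegral_mem hint) (locR_mul (locR_natCast _) (locR_natCast_inv hM hm))

/-- integrality of the components -/
theorem int_comp [M.IsPrime] (hM : IsPModular p M) {u : G} {S : Set (IrrCharacter (C u))} (hS : IsPBlock M S)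
    (hh : ∀ θ ∈ S, blockHeight p S (θ : C u → ℂ) = 0) (χ : IrrCharacter G) (c : C u) :
    MemLocalRing M (comp p u S (χ : G → ℂ) c) ∧
    MemLocalRing M (((p ^ blockDefect p S : ℕ) : ℂ) * comp p u S (χ : G → ℂ) c /
      (Nat.card (Subgroup.centralizer ({c} : Set (C u))) : ℂ)) := by
  classical
  have hu0 := orderOf_pos u
  have hco : ∀ θ : IrrCharacter (C u), MemLocalRing M (classInner (tw u (χ : G → ℂ)) (θ : C u → ℂ)) := by
    intro θ
    obtain ⟨ω, hω, h1⟩ := exists_twist u θ
    rw [h1]
    obtain ⟨n, hn⟩ := inner_gen_intCast (H18.CharOrtho.isGen_restrict (C u) (isGen_of_isIrr χ.2)) (isGen_of_isIrr θ.2)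
    have h2 : classInner (fun c : C u => (χ : G → ℂ) c) (θ : C u → ℂ) = n := hn
    rw [h2]
    refine locR_mul (isIntegral_mem ?_) (locR_intCast _)
    exact IsIntegral.of_pow hu0 (by rw [hω]; exact isIntegral_one)
  by_cases hc : p ∣ orderOf c
  · have h0 : comp p u S (χ : G → ℂ) c = 0 := by rw [comp, reg_not hc]
    rw [h0, mul_zero, zero_div]
    exact ⟨locR_zero, locR_zero⟩
  · have h0 : comp p u S (χ : G → ℂ) c = ∑ θ : IrrCharacter (C u),
        if θ ∈ S then classInner (tw u (χ : G → ℂ)) (θ : C u → ℂ) * (θ : C u → ℂ) c else 0 := by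
      rw [comp, reg_of hc, proj_eq_sum]
    constructor
    · rw [h0]
      refine locR_sum fun θ _ => ?_
      split_ifs
      · exact locR_mul (hco θ) (isIntegral_mem (irr_int θ c))
      · exact locR_zero
    · rw [h0, Finset.mul_sum, Finset.sum_div]
      refine locR_sum fun θ _ => ?_
      split_ifs with h
      · have h2 := int_height hM hS h (hh θ h) c
        have e : ((p ^ blockDefect p S : ℕ) : ℂ) * (classInner (tw u (χ : G → ℂ)) (θ : C u → ℂ) * (θ : C u → ℂ) c) /
            (Nat.card (Subgroup.centralizer ({c} : Set (C u))) : ℂ) =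
            classInner (tw u (χ : G → ℂ)) (θ : C u → ℂ) * (((p ^ blockDefect p S : ℕ) : ℂ) * (θ : C u → ℂ) c /
            (Nat.card (Subgroup.centralizer ({c} : Set (C u))) : ℂ)) := by ring
        rw [e]
        exact locR_mul (hco θ) h2
      · rw [mul_zero, zero_div]; exact locR_zero

/-- centralizer of a product of commuting elements of coprime orders -/
theorem card_cent_mul {u : G} (hp : p.Prime) (hu : ∃ k : ℕ, orderOf u = p ^ k) (c : C u) (hc : ¬ p ∣ orderOf c) :
    Nat.card (Subgroup.centralizer ({u * (c : G)} : Set G)) = Nat.card (Subgroup.centralizer ({c} : Set (C u))) := by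
  have hpart : IsPPart p (u * (c : G)) u := ⟨c, rfl, (comm_mem c).symm, hu, by rw [Subgroup.orderOf_coe]; exact hc⟩
  symm
  refine Nat.card_congr ⟨fun x => ⟨(x.1 : G), ?_⟩, fun x => ⟨⟨x.1, ?_⟩, ?_⟩, fun x => rfl, fun x => rfl⟩
  · rw [Subgroup.mem_centralizer_singleton_iff]
    have h1 := Subgroup.mem_centralizer_singleton_iff.1 x.1.2
    have h2 := congrArg Subtype.val (Subgroup.mem_centralizer_singleton_iff.1 x.2)
    simp only [Subgroup.coe_mul] at h2
    rw [← mul_assoc, h1, mul_assoc, h2, mul_assoc]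
  · have h1 := Subgroup.mem_centralizer_singleton_iff.1 x.2
    have h2 : (x : G) * u = u * x := by
      refine H80.SU6.comm_of_part hp (y := (c : G)) (z := u * c) hpart hpart ?_
      rw [h1]; group
    exact Subgroup.mem_centralizer_singleton_iff.2 h2
  · have h1 := Subgroup.mem_centralizer_singleton_iff.1 x.2
    have h2 : (x : G) * u = u * x := by
      refine H80.SU6.comm_of_part hp (y := (c : G)) (z := u * c) hpart hpart ?_
      rw [h1]; group
    rw [Subgroup.mem_centralizer_singleton_iff]
    apply Subtype.ext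
    show (x : G) * c = c * x
    have h3 : u * ((x : G) * c) = u * (c * x) := by
      have h4 : (x : G) * (u * c) = u * c * x := h1
      calc u * ((x : G) * c) = (u * x) * c := by rw [mul_assoc]
        _ = x * (u * c) := by rw [← h2, mul_assoc]
        _ = u * (c * x) := by rw [h4, mul_assoc]
    exact mul_left_cancel h3

end H84.FL
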