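import Cfsg.Agent.Lib.H84.FL3
import Cfsg.Agent.Lib.H84.FR4
import Cfsg.Agent.Lib.H80.CD1

/-!
# From local systems to local data
-/

set_option autoImplicit false
set_option linter.unusedSectionVars false
set_option linter.unusedVariables false

namespace H84.FL

open Cfsg H20.Loc H20.GA H80.GA H80.GB H80.GC H80.GD H80.GE H80.GF H80.GG H80.GH H80.GJ H80.FS H84.RG H18.CharBasic H18.CharOrtho H84.TrR
open H20.Blk H20.Orth H20.Ind H20.Height H20.Defect H80.BR1 H80.BR2 H19.Second H19.Second3 H81.Section H81.Contrib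
open H84.Star H84.Wat
open scoped ComplexConjugate

universe u

attribute [local instance 2000] Fintype.ofFinite

variable {M : Ideal AlgInt} [M.IsMaximal] {G : Type u} [Group G] [Finite G] {p : ℕ}
variable [Fact p.Prime] [CharP (ResF M) p] [Algebra (ZMod p) (ResF M)] [Algebra.IsAlgebraic (ZMod p) (ResF M)]
variable {B : Set (IrrCharacter G)} {P : Subgroup G} {e : MonoidAlgebra (ResF M) G}

/-- the automorphisms induced by the stabilizer -/
noncomputable abbrev WT (P : Subgroup G) (e : MonoidAlgebra (ResF M) G) : Subgroup (MulAut P) := (stHom ⊤ P e).range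

theorem cl_iff {b : MonoidAlgebra (ResF M) G} (hmax : IsMax p ⊤ b P e) (hab : ∀ x ∈ P, ∀ y ∈ P, x * y = y * x) (x y : P) :
    y ∈ cl p P e x ↔ ∃ w ∈ WT P e, w x = y := by
  have h1 := cl_eq_ob hmax hab x
  constructor
  · intro h
    have h2 : (y : G) ∈ ob ⊤ P e (x : G) := by rw [← h1]; exact ⟨y, h, rfl⟩
    obtain ⟨t, ht, h3⟩ := h2
    exact ⟨stHom ⊤ P e ⟨t, ht⟩, ⟨_, rfl⟩, Subtype.ext h3.symm⟩
  · rintro ⟨w, ⟨t, rfl⟩, h⟩
    have h2 : (y : G) ∈ ob ⊤ P e (x : G) := ⟨t, t.2, by rw [← h]; rfl⟩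
    rw [← h1] at h2
    obtain ⟨y', hy', h3⟩ := h2
    rwa [← Subtype.ext h3]

theorem FSt_of_inv {b : MonoidAlgebra (ResF M) G} (hmax : IsMax p ⊤ b P e) (hab : ∀ x ∈ P, ∀ y ∈ P, x * y = y * x)
    {ζ : P → ℂ} (hζ : ∀ w ∈ WT P e, ∀ x, ζ (w x) = ζ x) : FSt p P e ζ := by
  intro x y g hg hy
  obtain ⟨w, hw, h⟩ := (cl_iff hmax hab x y).1 ⟨g, hg, hy⟩
  rw [← h, hζ w hw]

open Classical in
/-- indicator of an orbit -/
noncomputable def ind (P : Subgroup G) (e : MonoidAlgebra (ResF M) G) (x : P) : P → ℂ :=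
  fun y => if ∃ w ∈ WT P e, w x = y then 1 else 0

theorem ind_inv (x : P) (w : MulAut P) (hw : w ∈ WT P e) (y : P) : ind P e x (w y) = ind P e x y := by
  unfold ind
  congr 1
  apply propext
  constructor
  · rintro ⟨v, hv, h⟩
    exact ⟨w⁻¹ * v, mul_mem (inv_mem hw) hv, by rw [MulAut.mul_apply, h]; exact MulAut.inv_apply_self _ w y⟩
  · rintro ⟨v, hv, h⟩
    exact ⟨w * v, mul_mem hw hv, by rw [MulAut.mul_apply, h]⟩

/-- a local system -/
structure Loc (B : Set (IrrCharacter G)) (P : Subgroup G) (e : MonoidAlgebra (ResF M) G)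
    (S : ∀ x : P, BlkS M (x : G)) (φ : ∀ x : P, C (x : G) → ℂ) (R : IrrCharacter G → P → ℂ) : Prop where
  sle : ∀ x : P, x ≠ 1 → SLE p ⊤ (Subgroup.zpowers (x : G)) (bl M (C (x : G)) (S x).1) P e
  comp : ∀ χ ∈ B, ∀ x : P, x ≠ 1 → comp p (x : G) (S x).1 (χ : G → ℂ) = R χ x • φ x
  norm : ∀ x : P, x ≠ 1 → classInner (φ x) (φ x) = (Nat.card P : ℂ)⁻¹
  int : ∀ x : P, x ≠ 1 → ∀ c : C (x : G), MemLocalRing M (φ x c) ∧
    MemLocalRing M ((Nat.card P : ℂ) * φ x c / (Nat.card (Subgroup.centralizer ({c} : Set (C (x : G)))) : ℂ))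
  inv : ∀ χ ∈ B, ∀ w ∈ WT P e, ∀ x : P, x ≠ 1 → R χ (w x) = R χ x
  gen : ∀ χ ∈ B, IsGeneralizedCharacter P (R χ)

section main
variable (hM : IsPModular p M) (hmax : IsMax p ⊤ (ebar M B) P e) (hB : IsPBlock M B)
  (hab : ∀ x ∈ P, ∀ y ∈ P, x * y = y * x)
  {S : ∀ x : P, BlkS M (x : G)} {φ : ∀ x : P, C (x : G) → ℂ} {R : IrrCharacter G → P → ℂ}
  (hL : Loc (p := p) B P e S φ R)

include hM hmax hB hab in
theorem ne_zero [IsAlgClosed (ResF M)]
    (hfree : ∀ g ∈ ST ⊤ P e, ∀ x ∈ P, x ≠ 1 → g * x * g⁻¹ = x → g ∈ Subgroup.centralizer (P : Set G))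
    {x : P} (hx : x ≠ 1) {S : BlkS M (x : G)}
    (hS : SLE p ⊤ (Subgroup.zpowers (x : G)) (bl M (C (x : G)) S.1) P e) {χ : IrrCharacter G} (hχ : χ ∈ B) :
    comp p (x : G) S.1 (χ : G → ℂ) ≠ 0 := by
  have hu := order_of_mem hmax.of.pair.pgr x
  have hpr := (inferInstance : M.IsMaximal).isPrime
  have hpo := (pairOf_of_sle hmax.of.pair hS).1 hmax.of
  have hind := (ind_iff hM hu S.2 hB).2 hpo
  have hxP : Subgroup.zpowers (x : G) ≤ P := by rw [Subgroup.zpowers_le]; exact x.2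
  have hx1 : Subgroup.zpowers (x : G) ≠ ⊥ := by
    rw [Ne, Subgroup.zpowers_eq_bot]; intro h; exact hx (Subtype.ext h)
  have hnil := H80.CD1.nilp_sub hmax hab hxP hx1 hfree hS
  have hmx := ab_max hmax hab hS
  rw [CH_eq] at hnil hmx
  have h1 := (heights hM S.2 hmx hab hnil).2
  have h2 := card_defectGroup hM hB (by
    rw [H80.BR2.isDefectGroup_iff_isDef hM hB]
    exact (maxPair hmax).1)
  rw [h1] at h2
  have h3 := Nat.pow_right_injective (Fact.out : p.Prime).two_le h2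
  exact comp_ne_zero_of_defect hM hu hind h3 hχ

include hL in
theorem Loc.phi_ne {x : P} (hx : x ≠ 1) : φ x ≠ 0 := by
  intro h
  have h1 := hL.norm x hx
  rw [h, H18.CharOrtho.inner_zero_left] at h1
  have h2 : (Nat.card P : ℂ) ≠ 0 := by exact_mod_cast (Nat.card_pos (α := P)).ne'
  exact inv_ne_zero h2 h1.symm

include hM hmax hB hab hL in
theorem Loc.ne [IsAlgClosed (ResF M)]
    (hfree : ∀ g ∈ ST ⊤ P e, ∀ x ∈ P, x ≠ 1 → g * x * g⁻¹ = x → g ∈ Subgroup.centralizer (P : Set G))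
    {χ : IrrCharacter G} (hχ : χ ∈ B) {x : P} (hx : x ≠ 1) : R χ x ≠ 0 := by
  intro h
  apply ne_zero hM hmax hB hab hfree hx (hL.sle x hx) hχ
  rw [hL.comp χ hχ x hx, h, zero_smul]

theorem fy_eq (hP : IsPair p ⊤ P e) {x : P} {S : BlkS M (x : G)}
    (hS : SLE p ⊤ (Subgroup.zpowers (x : G)) (bl M (C (x : G)) S.1) P e) : fy hP x = bl M (C (x : G)) S.1 :=
  SLE.unique hP (fy_spec hP x) hS

include hM hmax hB hab hL in
/-- inner products with the orbit part -/
theorem Loc.inner_star {χ ψ : IrrCharacter G} (hχ : χ ∈ B) (hψ : ψ ∈ B) {x : P} (hx : x ≠ 1) :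
    classInner (star p (Lam p P e (ind P e x)) (χ : G → ℂ)) (ψ : G → ℂ) =
      R χ x * conj (R ψ x) * (Nat.card P : ℂ)⁻¹ := by
  classical
  have hst := FSt_of_inv (p := p) hmax hab (ind_inv (e := e) x)
  have h1 := inner_star_P hM hmax hB hst (η := 1) FSt.one hχ (isClassFunction_of_isIrr ψ.2)
  rw [star_one hM hmax hB hψ] at h1
  rw [h1]
  have hclx : ∀ y : P, (∃ w ∈ WT P e, w x = y) → Nat.card (cl p P e y) = Nat.card (cl p P e x) := by
    rintro y ⟨w, hw, rfl⟩
    congr 1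
    have : cl p P e (w x) = cl p P e x := by
      ext z
      rw [cl_iff hmax hab, cl_iff hmax hab]
      constructor
      · rintro ⟨v, hv, h⟩; exact ⟨v * w, mul_mem hv hw, h⟩
      · rintro ⟨v, hv, h⟩
        refine ⟨v * w⁻¹, mul_mem hv (inv_mem hw), ?_⟩
        rw [MulAut.mul_apply, MulAut.inv_apply_self]; exact h
    rw [this]
  have hcard : (Nat.card (cl p P e x) : ℂ) = ∑ y : P, if (∃ w ∈ WT P e, w x = y) then 1 else 0 := by
    have h3 : Nat.card (cl p P e x) = (Finset.univ.filter fun y : P => ∃ w ∈ WT P e, w x = y).card := by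
      rw [Nat.card_eq_fintype_card, ← Set.toFinset_card]
      congr 1
      ext y
      rw [Set.mem_toFinset, Finset.mem_filter, cl_iff hmax hab]
      simp
    rw [h3, Finset.card_filter]
    push_cast
    rfl
  have hcl0 : (Nat.card (cl p P e x) : ℂ) ≠ 0 := by
    have : Nonempty (cl p P e x) := ⟨⟨x, self_mem_cl hmax.of.pair x⟩⟩
    exact_mod_cast (Nat.card_pos (α := cl p P e x)).ne'
  have h2 : ∀ y : P, ind P e x y * conj ((1 : P → ℂ) y) *
      (Wt p (χ : G → ℂ) (ψ : G → ℂ) (y : G) (fy hmax.of.pair y) /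
        ((Nat.card (C (y : G)) : ℂ) * (Nat.card (cl p P e y) : ℂ))) =
      (if (∃ w ∈ WT P e, w x = y) then 1 else 0) * (R χ x * conj (R ψ x) * (Nat.card P : ℂ)⁻¹ *
        (Nat.card (cl p P e x) : ℂ)⁻¹) := by
    intro y
    unfold ind
    by_cases h : ∃ w ∈ WT P e, w x = y
    · rw [if_pos h, hclx y h, Pi.one_apply, map_one, one_mul, one_mul]
      have hy : y ≠ 1 := by
        obtain ⟨w, hw, rfl⟩ := h
        intro h0; apply hx
        exact (MulEquiv.map_eq_one_iff w).1 h0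
      have hC : (Nat.card (C (y : G)) : ℂ) ≠ 0 := by exact_mod_cast (Nat.card_pos (α := C (y : G))).ne'
      rw [fy_eq hmax.of.pair (hL.sle y hy), Wt_eq (order_of_mem hmax.of.pair.pgr y) (S y)
        (isClassFunction_of_isIrr χ.2) (isClassFunction_of_isIrr ψ.2), hL.comp χ hχ y hy, hL.comp ψ hψ y hy,
        H18.CharOrtho.inner_smul_left, H18.CharOrtho.inner_smul_right, hL.norm y hy]
      obtain ⟨w, hw, rfl⟩ := h
      rw [hL.inv χ hχ w hw x hx, hL.inv ψ hψ w hw x hx]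
      field_simp
    · rw [if_neg h, zero_mul, zero_mul, zero_mul]
  rw [Finset.sum_congr rfl fun y _ => h2 y, ← Finset.sum_mul, ← hcard]
  field_simp

include hM hmax hB in
/-- the orbit part lies in the block -/
theorem inner_star_other {ζ : P → ℂ} (hst : FSt p P e ζ) {χ ψ : IrrCharacter G} (hχ : χ ∈ B) (hψ : ψ ∉ B) :
    classInner (star p (Lam p P e ζ) (χ : G → ℂ)) (ψ : G → ℂ) = 0 := by
  have hpr := (inferInstance : M.IsMaximal).isPrime
  have hχc := isClassFunction_of_isIrr χ.2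
  rw [inner_eq_comp hM (star_class (p := p) hM.1 (Lam_conj hst) hχc) (isClassFunction_of_isIrr ψ.2)]
  apply Finset.sum_eq_zero
  intro x _
  rw [Finset.sum_eq_zero, mul_zero]
  intro S _
  rw [comp_star hM (Lam_conj hst) hχc x.2 S]
  by_cases h : PairOf p ⊤ (ebar M B) (Subgroup.zpowers x.1) (bl M (C x.1) S.1)
  · have h2 : comp p x.1 S.1 (ψ : G → ℂ) = 0 := by
      apply comp_eq_zero hM S.2 x.2
      intro h3
      apply hψ
      have hB' := isPBlock_blockOf (M := M) ψ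
      have hpo' := (ind_iff hM x.2 S.2 hB').1 h3
      rw [← ebar_inj hB' hB (pairOf_unique hpo' h)]
      exact mem_blockOf_self ψ
    rw [h2, H18.CharOrtho.inner_zero_right]
  · rw [comp_zero hM x.2 S hB hχ h, smul_zero, H18.CharOrtho.inner_zero_left]

open Classical in
include hM hmax hB hab hL in
/-- expansion of the orbit part -/
theorem Loc.expand {χ : IrrCharacter G} (hχ : χ ∈ B) {x : P} (hx : x ≠ 1) :
    star p (Lam p P e (ind P e x)) (χ : G → ℂ) = (R χ x * (Nat.card P : ℂ)⁻¹) •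
      ∑ ψ : IrrCharacter G, (if ψ ∈ B then conj (R ψ x) else 0) • (ψ : G → ℂ) := by
  have hst := FSt_of_inv (p := p) hmax hab (ind_inv (e := e) x)
  conv_lhs => rw [mem_classFun_expand (star_class (p := p) hM.1 (Lam_conj hst) (isClassFunction_of_isIrr χ.2))]
  rw [Finset.smul_sum]
  refine Finset.sum_congr rfl fun ψ _ => ?_
  rw [smul_smul]
  congr 1
  split_ifs with h
  · rw [hL.inner_star hM hmax hB hab hχ h hx]; ring
  · rw [inner_star_other hM hmax hB hst hχ h, mul_zero]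

end main

end H84.FL
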