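import Cfsg.Agent.Lib.H84.FL4

/-!
# From local systems to local data, second part
-/

set_option autoImplicit false
set_option linter.unusedSectionVars false
set_option linter.unusedVariables false

namespace H84.FL

open Cfsg H20.Loc H20.GA H80.GA H80.GB H80.GC H80.GD H80.GE H80.GF H80.GG H80.GH H80.GJ H80.FS H84.RG H18.CharBasic H18.CharOrtho H84.TrR
open H20.Blk H20.Orth H20.Ind H20.Height H20.Defect H80.BR1 H80.BR2 H19.Second H19.Second3 H81.Section H81.Contrib
open H84.Star H84.Wat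
open scoped ComplexConjugate

universe u

attribute [local instance 2000] Fintype.ofFinite

variable {M : Ideal AlgInt} [M.IsMaximal] {G : Type u} [Group G] [Finite G] {p : ℕ}
variable [Fact p.Prime] [CharP (ResF M) p] [Algebra (ZMod p) (ResF M)] [Algebra.IsAlgebraic (ZMod p) (ResF M)]
variable {B : Set (IrrCharacter G)} {P : Subgroup G} {e : MonoidAlgebra (ResF M) G}

variable (hM : IsPModular p M) (hmax : IsMax p ⊤ (ebar M B) P e) (hB : IsPBlock M B)
  (hab : ∀ x ∈ P, ∀ y ∈ P, x * y = y * x)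
  (hfree : ∀ g ∈ ST ⊤ P e, ∀ x ∈ P, x ≠ 1 → g * x * g⁻¹ = x → g ∈ Subgroup.centralizer (P : Set G))
  {S : ∀ x : P, BlkS M (x : G)} {φ : ∀ x : P, C (x : G) → ℂ} {R : IrrCharacter G → P → ℂ}
  (hL : Loc (p := p) B P e S φ R)

include hfree in
/-- the automorphism group acts freely -/
theorem WT_free : ∀ w ∈ WT P e, w ≠ 1 → ∀ x : P, w x = x → x = 1 := by
  rintro w ⟨t, rfl⟩ hw x hx
  by_contra hx1
  apply hw
  have h1 : (t : G) * (x : G) * (t : G)⁻¹ = x := congrArg Subtype.val hx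
  have h2 := hfree t t.2 x x.2 (fun h => hx1 (Subtype.ext h)) h1
  ext y
  show (t : G) * (y : G) * (t : G)⁻¹ = y
  have h3 := Subgroup.mem_centralizer_iff.1 h2 (y : G) y.2
  rw [← h3]; group

open Classical in
include hM hmax hB hab hfree hL in
theorem Loc.sum_orth [IsAlgClosed (ResF M)] (hBne : B.Nonempty) {x y : P} (hx : x ≠ 1) (hy : y ≠ 1) :
    ∑ χ : IrrCharacter G, (if χ ∈ B then conj (R χ x) * R χ y else 0) =
      (Nat.card P : ℂ) * ind P e x y := by
  obtain ⟨χ, hχ⟩ := hBne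
  have hst := FSt_of_inv (p := p) hmax hab (ind_inv (e := e) x)
  have h1 := hL.expand hM hmax hB hab hχ hx
  have h2 := congrArg (H81.Contrib.comp p (y : G) (S y).1) h1
  rw [comp_star hM (Lam_conj hst) (isClassFunction_of_isIrr χ.2) (order_of_mem hmax.of.pair.pgr y) (S y),
    Lam_eq hst (y := y) (g := 1) (by simp) (by rw [cj_one]; exact hL.sle y hy), hL.comp χ hχ y hy,
    comp_smul, comp_sum] at h2
  have h3 : ∑ ψ : IrrCharacter G, (if ψ ∈ B then conj (R ψ x) else 0) • H81.Contrib.comp p (y : G) (S y).1 (ψ : G → ℂ) =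
      (∑ ψ : IrrCharacter G, (if ψ ∈ B then conj (R ψ x) * R ψ y else 0)) • φ y := by
    rw [Finset.sum_smul]
    refine Finset.sum_congr rfl fun ψ _ => ?_
    split_ifs with h
    · rw [hL.comp ψ h y hy, smul_smul]
    · rw [zero_smul, zero_smul]
  rw [h3, smul_smul, smul_smul] at h2
  have h4 : ind P e x y * R χ y = R χ x * (Nat.card P : ℂ)⁻¹ *
      ∑ ψ : IrrCharacter G, (if ψ ∈ B then conj (R ψ x) * R ψ y else 0) := by
    have h5 : (ind P e x y * R χ y - R χ x * (Nat.card P : ℂ)⁻¹ *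
      ∑ ψ : IrrCharacter G, (if ψ ∈ B then conj (R ψ x) * R ψ y else 0)) • φ y = 0 := by
      rw [sub_smul, h2, sub_self]
    exact sub_eq_zero.1 ((smul_eq_zero.1 h5).resolve_right (hL.phi_ne hy))
  have hP0 : (Nat.card P : ℂ) ≠ 0 := by exact_mod_cast (Nat.card_pos (α := P)).ne'
  have hR0 := hL.ne hM hmax hB hab hfree hχ hx
  have h6 : ind P e x y * R χ y = ind P e x y * R χ x := by
    unfold ind
    split_ifs with h
    · obtain ⟨w, hw, rfl⟩ := h
      rw [hL.inv χ hχ w hw x hx]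
    · rw [zero_mul, zero_mul]
  rw [h6] at h4
  apply mul_left_cancel₀ hR0
  have h7 : R χ x * ∑ χ : IrrCharacter G, (if χ ∈ B then conj (R χ x) * R χ y else 0) =
      (Nat.card P : ℂ) * (R χ x * (Nat.card P : ℂ)⁻¹ *
      ∑ ψ : IrrCharacter G, (if ψ ∈ B then conj (R ψ x) * R ψ y else 0)) := by
    field_simp
  rw [h7, ← h4]
  ring

theorem ind_eq_card (hfree : ∀ g ∈ ST ⊤ P e, ∀ x ∈ P, x ≠ 1 → g * x * g⁻¹ = x → g ∈ Subgroup.centralizer (P : Set G))
    {x y : P} (hx : x ≠ 1) :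
    ind P e x y = (Nat.card {w : WT P e // (w : MulAut P) x = y} : ℂ) := by
  unfold ind
  split_ifs with h
  · obtain ⟨w, hw, h⟩ := h
    have : Nat.card {w : WT P e // (w : MulAut P) x = y} = 1 := by
      rw [Nat.card_eq_one_iff_unique]
      refine ⟨⟨fun a b => ?_⟩, ⟨⟨⟨w, hw⟩, h⟩⟩⟩
      apply Subtype.ext
      apply Subtype.ext
      by_contra hne
      apply hx
      refine WT_free hfree ((a.1 : MulAut P)⁻¹ * (b.1 : MulAut P)) (mul_mem (inv_mem a.1.2) b.1.2) ?_ x ?_
      · intro h1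
        exact hne (inv_mul_eq_one.1 h1)
      · rw [MulAut.mul_apply, b.2]
        have h3 := MulAut.inv_apply_self P a.1.1 x
        have h4 := a.2
        rw [h4] at h3
        exact h3
    rw [this, Nat.cast_one]
  · have : IsEmpty {w : WT P e // (w : MulAut P) x = y} := ⟨fun w => h ⟨w.1, w.1.2, w.2⟩⟩
    rw [Nat.card_of_isEmpty, Nat.cast_zero]

open Classical in
include hM hmax hB hab hfree hL in
theorem Loc.sum_reg [IsAlgClosed (ResF M)] (hBne : B.Nonempty) {x : P} (hx : x ≠ 1) {g : G} (hg : ¬ p ∣ orderOf g) :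
    ∑ χ : IrrCharacter G, (if χ ∈ B then conj (R χ x) * (χ : G → ℂ) g else 0) = 0 := by
  obtain ⟨χ, hχ⟩ := hBne
  have hst := FSt_of_inv (p := p) hmax hab (ind_inv (e := e) x)
  have h1 := congrFun (hL.expand hM hmax hB hab hχ hx) g
  have h0 : ind P e x 1 = 0 := by
    unfold ind
    rw [if_neg]
    rintro ⟨w, hw, h⟩
    exact hx ((MulEquiv.map_eq_one_iff w).1 h)
  rw [star_reg hM hmax hB hst hχ hg, h0, zero_mul, Pi.smul_apply, Finset.sum_apply, smul_eq_mul] at h1
  have hP0 : (Nat.card P : ℂ) ≠ 0 := by exact_mod_cast (Nat.card_pos (α := P)).ne'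
  have hR0 := hL.ne hM hmax hB hab hfree hχ hx
  have h2 := (mul_eq_zero.1 h1.symm).resolve_left (mul_ne_zero hR0 (inv_ne_zero hP0))
  refine Eq.trans (Finset.sum_congr rfl fun ψ _ => ?_) h2
  rw [Pi.smul_apply, smul_eq_mul]
  split_ifs
  · rfl
  · rw [zero_mul]

include hM hmax hB hL in
/-- one block of a section -/
theorem Loc.one_part (hA1 : ∃ x : P, x ≠ 1) {u : G} (hu : ∃ k : ℕ, orderOf u = p ^ k) (hu1 : u ≠ 1)
    (c : C u) (hc : ¬ p ∣ orderOf c) (T : BlkS M u) :
    ∃ (y : P) (k : ℂ), y ≠ 1 ∧ MemLocalRing M k ∧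
      MemLocalRing M ((Nat.card P : ℂ) * k / (Nat.card (Subgroup.centralizer ({u * (c : G)} : Set G)) : ℂ)) ∧
      ∀ χ ∈ B, H81.Contrib.comp p u T.1 (χ : G → ℂ) c = k * R χ y := by
  have hpr := (inferInstance : M.IsMaximal).isPrime
  by_cases h : PairOf p ⊤ (ebar M B) (Subgroup.zpowers u) (bl M (C u) T.1)
  · obtain ⟨y, g, hy, hs⟩ := (ex_iff hmax).2 h
    have hy1 : y ≠ 1 := by
      intro h0
      rw [h0, Subgroup.coe_one] at hy
      apply hu1
      have h1 : g * u = g := by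
        have := congrArg (fun z => z * g) hy
        simpa using this.symm
      exact mul_eq_left.1 h1
    have hcy : g * (c : G) * g⁻¹ ∈ C (y : G) := by
      rw [Subgroup.mem_centralizer_singleton_iff, hy]
      have h1 := comm_mem c
      calc g * (c : G) * g⁻¹ * (g * u * g⁻¹) = g * (c * u) * g⁻¹ := by group
        _ = _ := by rw [h1]; group
    have hor : orderOf (⟨g * (c : G) * g⁻¹, hcy⟩ : C (y : G)) = orderOf c := by
      rw [← Subgroup.orderOf_coe, ← Subgroup.orderOf_coe c]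
      exact H20.Orth.orderOf_conj g (c : G)
    have hc' : ¬ p ∣ orderOf (⟨g * (c : G) * g⁻¹, hcy⟩ : C (y : G)) := by rwa [hor]
    have hfS := SLE.unique hmax.of.pair hs (hL.sle y hy1)
    have hprod : g * (u * (c : G)) * g⁻¹ = (y : G) * (⟨g * (c : G) * g⁻¹, hcy⟩ : C (y : G)) := by
      show g * (u * (c : G)) * g⁻¹ = (y : G) * (g * (c : G) * g⁻¹)
      rw [hy]; group
    refine ⟨y, φ y ⟨g * (c : G) * g⁻¹, hcy⟩, hy1, (hL.int y hy1 _).1, ?_, fun χ hχ => ?_⟩
    · have h1 := (hL.int y hy1 ⟨g * (c : G) * g⁻¹, hcy⟩).2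
      have h2 := card_cent_mul (Fact.out : p.Prime) (order_of_mem hmax.of.pair.pgr y) _ hc'
      have h3 : Nat.card (Subgroup.centralizer ({u * (c : G)} : Set G)) =
          Nat.card (Subgroup.centralizer ({(y : G) * (⟨g * (c : G) * g⁻¹, hcy⟩ : C (y : G))} : Set G)) := by
        rw [← hprod]
        refine Nat.card_congr ⟨fun x => ⟨g * x * g⁻¹, ?_⟩, fun x => ⟨g⁻¹ * x * g, ?_⟩, fun x => ?_, fun x => ?_⟩
        · have h4 := Subgroup.mem_centralizer_singleton_iff.1 x.2
          rw [Subgroup.mem_centralizer_singleton_iff]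
          calc g * (x : G) * g⁻¹ * (g * (u * c) * g⁻¹) = g * (x * (u * c)) * g⁻¹ := by group
            _ = _ := by rw [h4]; group
        · have h4 := Subgroup.mem_centralizer_singleton_iff.1 x.2
          rw [Subgroup.mem_centralizer_singleton_iff]
          calc g⁻¹ * (x : G) * g * (u * c) = g⁻¹ * (x * (g * (u * c) * g⁻¹)) * g := by group
            _ = _ := by rw [h4]; group
        · apply Subtype.ext; show g⁻¹ * (g * (x : G) * g⁻¹) * g = x; group
        · apply Subtype.ext; show g * (g⁻¹ * (x : G) * g) * g⁻¹ = x; group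
      rw [h3, h2]
      exact h1
    · have hχc := isClassFunction_of_isIrr χ.2
      have h1 := ww_conj (x := u) (f := bl M (C u) T.1) hχc (bl_isBlk M T) g (u * (c : G))
      rw [ww_eq_comp T hχc c hc, hprod, hfS, ← hy, ww_eq_comp (S y) hχc _ hc', hL.comp χ hχ y hy1] at h1
      rw [← h1, Pi.smul_apply, smul_eq_mul, mul_comm]
  · obtain ⟨x0, hx0⟩ := hA1
    refine ⟨x0, 0, hx0, locR_zero, by rw [mul_zero, zero_div]; exact locR_zero, fun χ hχ => ?_⟩
    rw [comp_zero hM hu T hB hχ h, zero_mul]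
    rfl

include hM hmax hB hL in
theorem Loc.dec (hA1 : ∃ x : P, x ≠ 1) (g : G) (hg : p ∣ orderOf g) : ∃ d : P → ℂ, d 1 = 0 ∧
    (∀ x, MemLocalRing M (d x)) ∧
    (∀ x, MemLocalRing M ((Nat.card P : ℂ) * d x / (Nat.card (Subgroup.centralizer ({g} : Set G)) : ℂ))) ∧
    ∀ χ ∈ B, (χ : G → ℂ) g = ∑ x : P, d x * R χ x := by
  classical
  have hpr := (inferInstance : M.IsMaximal).isPrime
  obtain ⟨u, z, hz, hcm, hu, hzr⟩ : ∃ u z : G, u * z = g ∧ Commute u z ∧ (∃ k : ℕ, orderOf u = p ^ k) ∧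
      ¬ p ∣ orderOf z := by
    obtain ⟨u, y, h1, h2, h3, h4⟩ := H19.Second.exists_isPPart (p := p) Fact.out g
    exact ⟨u, y, h1, h2, h3, h4⟩
  have hu1 : u ≠ 1 := by
    intro h
    rw [h, one_mul] at hz
    rw [hz] at hzr
    exact hzr hg
  set c : C u := ⟨z, Subgroup.mem_centralizer_singleton_iff.2 hcm.eq.symm⟩ with hcdef
  have hc : ¬ p ∣ orderOf c := by rwa [← Subgroup.orderOf_coe]
  have hgc : u * (c : G) = g := hz
  have h1 := fun T : BlkS M u => hL.one_part hM hmax hB hA1 hu hu1 c hc T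
  choose y k hy1 hk1 hk2 hk3 using h1
  refine ⟨fun x => ∑ T : BlkS M u, if y T = x then k T else 0, ?_, fun x => ?_, fun x => ?_, fun χ hχ => ?_⟩
  · exact Finset.sum_eq_zero fun T _ => if_neg (hy1 T)
  · refine locR_sum fun T _ => ?_
    split_ifs
    · exact hk1 T
    · exact locR_zero
  · rw [Finset.mul_sum, Finset.sum_div]
    refine locR_sum fun T _ => ?_
    split_ifs
    · rw [← hgc]; exact hk2 T
    · rw [mul_zero, zero_div]; exact locR_zero
  · have h2 := sum_comp hM (x := u) (isClassFunction_of_isIrr χ.2) c hc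
    rw [hgc] at h2
    rw [← h2]
    have h3 : ∀ x : P, (∑ T : BlkS M u, if y T = x then k T else 0) * R χ x =
        ∑ T : BlkS M u, if y T = x then k T * R χ x else 0 := by
      intro x
      rw [Finset.sum_mul]
      refine Finset.sum_congr rfl fun T _ => ?_
      split_ifs
      · rfl
      · rw [zero_mul]
    simp only [h3]
    rw [Finset.sum_comm]
    refine Finset.sum_congr rfl fun T _ => ?_
    rw [hk3 T χ hχ, Finset.sum_ite_eq]
    simp

include hM hmax hB hab hfree hL in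
/-- local systems give local data -/
theorem Loc.dat [IsAlgClosed (ResF M)] (hBne : B.Nonempty) (hA1 : ∃ x : P, x ≠ 1) :
    H84.FR.Dat p M B (WT P e) R where
  gen := hL.gen
  inv := fun χ hχ w hw x hx => hL.inv χ hχ w hw x hx
  orth := fun x y hx hy => by
    rw [hL.sum_orth hM hmax hB hab hfree hBne hx hy, ind_eq_card hfree hx]
  reg := fun x hx g hg => hL.sum_reg hM hmax hB hab hfree hBne hx hg
  ne := fun χ hχ x hx => hL.ne hM hmax hB hab hfree hχ hx
  dec := hL.dec hM hmax hB hA1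

end H84.FL
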