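import Cfsg.Agent.Lib.H84.FL5

/-!
# Components relative to a local nilpotent block
-/

set_option autoImplicit false
set_option linter.unusedSectionVars false
set_option linter.unusedVariables false

namespace H84.FL

open Cfsg H20.Loc H20.GA H80.GA H80.GB H80.GC H80.GD H80.GE H80.GF H80.GG H80.GH H80.GJ H80.FS H84.RG H18.CharBasic H18.CharOrtho H84.TrR
open H20.Blk H20.Orth H20.Ind H20.Height H20.Defect H80.BR1 H80.BR2 H19.Second H19.Second3 H81.Section H81.Contrib
open H84.Star H84.Wat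
open scoped ComplexConjugate

universe u

attribute [local instance 2000] Fintype.ofFinite

section pc
variable {G : Type u} [Group G] [Finite G]

/-- component of a function on a coset -/
noncomputable def pc (p : ℕ) (L : Subgroup G) (S : Set (IrrCharacter L)) (x : G) (F : G → ℂ) : L → ℂ :=
  reg p (proj S (fun d : L => F (x * d)))

open Classical in
/-- extension by zero -/
noncomputable def ez (K : Subgroup G) (ψ : K → ℂ) : G → ℂ := fun g => if h : g ∈ K then ψ ⟨g, h⟩ else 0

theorem ez_coe {K : Subgroup G} (ψ : K → ℂ) (k : K) : ez K ψ (k : G) = ψ k := by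
  rw [ez, dif_pos k.2]

theorem pc_transport {p : ℕ} {K L : Subgroup G} {y : K} {S : Set (IrrCharacter L)} {S' : Set (IrrCharacter (C y))}
    (E : C y ≃* L) (hE : ∀ l, ((E l : L) : G) = ((l : K) : G))
    (h : ∀ (f : L → ℂ) (l : C y), proj S f (E l) = proj S' (f ∘ E) l) (F : G → ℂ) (l : C y) :
    pc p L S (y : G) F (E l) = comp p y S' (fun k : K => F k) l := by
  have h1 : (fun d : L => F ((y : G) * d)) ∘ E = tw y (fun k : K => F k) := by
    funext c
    show F ((y : G) * (E c : L)) = F ((y * (c : K) : K) : G)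
    rw [hE]
    rfl
  have ho : orderOf (E l) = orderOf l := E.orderOf_eq l
  rw [comp, pc]
  by_cases hl : p ∣ orderOf l
  · rw [reg_not hl, reg_not (by rwa [ho])]
  · rw [reg_of hl, reg_of (by rwa [ho]), h, h1]

end pc

variable {M : Ideal AlgInt} [M.IsMaximal] {G : Type u} [Group G] [Finite G] {p : ℕ}
variable [Fact p.Prime] [CharP (ResF M) p] [Algebra (ZMod p) (ResF M)] [Algebra.IsAlgebraic (ZMod p) (ResF M)]
variable {P : Subgroup G} {e : MonoidAlgebra (ResF M) G}

/-- inclusion of `P` in the copy of `P` in `K` -/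
def iot {K : Subgroup G} (hPK : P ≤ K) (x : P) : P.subgroupOf K := ⟨⟨x, hPK x.2⟩, x.2⟩

theorem iot_coe {K : Subgroup G} (hPK : P ≤ K) (x : P) : (((iot hPK x : P.subgroupOf K) : K) : G) = x := rfl

/-- as a homomorphism -/
def iotH {K : Subgroup G} (hPK : P ≤ K) : P →* P.subgroupOf K where
  toFun := iot hPK
  map_one' := rfl
  map_mul' _ _ := rfl

theorem main_tf [IsAlgClosed (ResF M)] (hM : IsPModular p M) (hab : ∀ x ∈ P, ∀ y ∈ P, x * y = y * x)
    {K L : Subgroup G} {S : Set (IrrCharacter K)} (hS : IsPBlock M S) (hPK : P ≤ K) {e' : MonoidAlgebra (ResF M) K}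
    (he' : inc (ResF M) K.subtype e' = e) (hmax : IsMax p ⊤ (ebar M S) (P.subgroupOf K) e')
    (hnil : H80.FS3.Nilp p ⊤ (ebar M S)) {ψ0 : IrrCharacter K} (h0 : ψ0 ∈ S)
    (hh0 : blockHeight p S (ψ0 : K → ℂ) = 0) (x : P)
    (hL : L = (C (iot hPK x : K)).map K.subtype) {T : Set (IrrCharacter L)} (hT : IsPBlock M T)
    (hpair : PairOf p L (bl M L T) P e) :
    (∀ F : G → ℂ, IsClassFunction K (fun k : K => F k) →
      pc p L T (x : G) F = tf hM hmax hS hnil h0 hh0 (fun k : K => F k) (iot hPK x) •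
        pc p L T (x : G) (ez K (ψ0 : K → ℂ))) ∧
    classInner (pc p L T (x : G) (ez K (ψ0 : K → ℂ))) (pc p L T (x : G) (ez K (ψ0 : K → ℂ))) =
      (Nat.card P : ℂ)⁻¹ ∧
    (∀ c : L, MemLocalRing M (pc p L T (x : G) (ez K (ψ0 : K → ℂ)) c) ∧
      MemLocalRing M ((Nat.card P : ℂ) * pc p L T (x : G) (ez K (ψ0 : K → ℂ)) c /
        (Nat.card (Subgroup.centralizer ({c} : Set L)) : ℂ))) := by
  have hpr := (inferInstance : M.IsMaximal).isPrime
  have hinj := K.subtype_injective
  have hP' : (P.subgroupOf K).map K.subtype = P := by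
    rw [Subgroup.subgroupOf_map_subtype]; exact inf_eq_left.2 hPK
  have hab' : ∀ x ∈ P.subgroupOf K, ∀ y ∈ P.subgroupOf K, x * y = y * x := fun x hx y hy =>
    Subtype.ext (hab x (Subgroup.mem_subgroupOf.1 hx) y (Subgroup.mem_subgroupOf.1 hy))
  have hcard : Nat.card (P.subgroupOf K) = Nat.card P := Nat.card_congr (Subgroup.subgroupOfEquivOfLe hPK).toEquiv
  set y := iot hPK x with hy
  obtain ⟨T', hT', hinc, E, hE, hproj⟩ := exists_transport hL hT
  obtain ⟨f, hf, -⟩ := exists_unique_sle hmax.of.pair (Q := Subgroup.zpowers (y : K))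
    (by rw [Subgroup.zpowers_le]; exact y.2)
  have hfm := ab_max hmax hab' hf
  have hfeq : f = bl M (C (y : K)) T' := by
    apply inc_injective (k := ResF M) hinj
    rw [hinc]
    have h1 := hfm.of
    rw [CH_eq] at h1
    have h2 := (H80.FS4.inc_pairOf (k := ResF M) (p := p) hinj).2 h1
    rw [hP', he', ← hL] at h2
    exact pairOf_unique h2 hpair
  rw [hfeq] at hf hfm
  set T'' : BlkS M (y : K) := ⟨T', hT'⟩ with hT''
  have hsle : SLE p ⊤ (Subgroup.zpowers (y : K)) (bl M (C (y : K)) T''.1) (P.subgroupOf K) e' := hf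
  have hez : ∀ l : C (y : K), pc p L T (x : G) (ez K (ψ0 : K → ℂ)) (E l) = comp p (y : K) T' (ψ0 : K → ℂ) l := by
    intro l
    have h1 := pc_transport (p := p) (y := (y : K)) E hE hproj (ez K (ψ0 : K → ℂ)) l
    have h2 : (fun k : K => ez K (ψ0 : K → ℂ) k) = (ψ0 : K → ℂ) := funext fun k => ez_coe _ k
    rw [h2] at h1
    exact h1
  refine ⟨fun F hF => ?_, ?_, fun c => ?_⟩
  · funext c
    obtain ⟨l, rfl⟩ := E.surjective c
    rw [Pi.smul_apply, hez]
    have h1 := pc_transport (p := p) (y := (y : K)) E hE hproj F l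
    have h2 := congrFun (tf_apply hM hmax hS hnil h0 hh0 hF y T'' hsle) l
    rw [Pi.smul_apply] at h2
    exact h1.trans h2
  · rw [← inner_equiv E]
    have h1 : pc p L T (x : G) (ez K (ψ0 : K → ℂ)) ∘ E = comp p (y : K) T' (ψ0 : K → ℂ) := funext hez
    rw [h1, inner_base hM hmax hab' hS hnil h0 hh0 y T'' hsle, hcard]
  · obtain ⟨l, rfl⟩ := E.surjective c
    have hnilT : H80.FS3.Nilp p (CH ⊤ (Subgroup.zpowers (y : K))) (bl M (C (y : K)) T') := by
      rw [H80.GV.nilp_abelian hfm hab']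
      have h1 := (H80.GV.nilp_abelian hmax hab').1 hnil
      intro g hg
      exact h1 g ⟨Subgroup.mem_top _, hg.2.1, hg.2.2⟩
    rw [CH_eq] at hnilT hfm
    obtain ⟨h3, h4⟩ := heights hM hT' hfm hab' hnilT
    have h5 := int_comp hM hT' h3 ψ0 l
    rw [hez, ← hcard, h4]
    refine ⟨h5.1, ?_⟩
    have h6 : Nat.card (Subgroup.centralizer ({E l} : Set L)) = Nat.card (Subgroup.centralizer ({l} : Set (C (y : K)))) := by
      symm
      refine Nat.card_congr ⟨fun a => ⟨E a, ?_⟩, fun a => ⟨E.symm a, ?_⟩, fun a => ?_, fun a => ?_⟩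
      · have h7 := Subgroup.mem_centralizer_singleton_iff.1 a.2
        rw [Subgroup.mem_centralizer_singleton_iff, ← map_mul, h7, map_mul]
      · have h7 := Subgroup.mem_centralizer_singleton_iff.1 a.2
        rw [Subgroup.mem_centralizer_singleton_iff]
        apply E.injective
        rw [map_mul, map_mul, MulEquiv.apply_symm_apply, h7]
      · apply Subtype.ext; exact E.symm_apply_apply _
      · apply Subtype.ext; exact E.apply_symm_apply _
    rw [h6]
    exact h5.2

end H84.FL
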