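import Cfsg.Agent.Lib.H84.FL6
import Cfsg.Agent.Lib.H2.BGCop

/-!
# Conjugation and twisting; elements of order `p` in cyclic groups
-/

set_option autoImplicit false
set_option linter.unusedSectionVars false
set_option linter.unusedVariables false

namespace H84.FL

open Cfsg H20.Loc H20.GA H80.GA H80.GB H80.GC H80.GD H80.GE H80.GF H80.GG H80.GH H80.GJ H80.FS H84.RG H18.CharBasic H18.CharOrtho H84.TrR
open H20.Blk H20.Orth H20.Ind H20.Height H20.Defect H80.BR1 H80.BR2 H19.Second H19.Second3 H81.Section H81.Contrib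
open H84.Star H84.Wat
open scoped ComplexConjugate

universe u v

attribute [local instance 2000] Fintype.ofFinite

/-- conjugation of components -/
theorem pc_conj {M : Ideal AlgInt} [M.IsMaximal] {G : Type u} [Group G] [Finite G] {p : ℕ}
    {L L' : Subgroup G} {T : Set (IrrCharacter L)} {T' : Set (IrrCharacter L')} (hT : IsPBlock M T)
    (hT' : IsPBlock M T') {t : G} (hL' : L' = cs t L) (hbl : bl M L' T' = cj t (bl M L T)) (x : G) (F : G → ℂ)
    (l : L) (l' : L') (hl : (l' : G) = t * l * t⁻¹) :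
    pc p L' T' (t * x * t⁻¹) F l' = pc p L T x (fun g => F (t * g * t⁻¹)) l := by
  have h1 : T' = trI (cjI t L L' hL') '' T := by
    rw [← conjSet_eq t L L' hL']
    apply bl_inj hT' (isPBlock_conjSet hL' hT)
    rw [bl_conjSet hL', hbl]
  have h2 : l' = cjI t L L' hL' l := Subtype.ext (by rw [cjI_apply]; exact hl)
  have ho : orderOf (cjI t L L' hL' l) = orderOf l := (cjI t L L' hL').orderOf_eq l
  rw [h2, pc, pc]
  by_cases h : p ∣ orderOf l
  · rw [reg_not h, reg_not (by rwa [ho])]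
  · rw [reg_of h, reg_of (by rwa [ho]), h1, proj_trI]
    congr 1
    funext d
    show F (t * x * t⁻¹ * (cjI t L L' hL' d : L')) = F (t * (x * d) * t⁻¹)
    rw [cjI_apply]
    congr 1
    group

/-- removing a cocycle -/
theorem exists_twist_inv {A : Type v} [Group A] [Finite A] {W : Subgroup (MulAut A)}
    (hcop : (Nat.card W).Coprime (Nat.card A)) {X : Type*} (R0 : X → A → ℂ) (χ0 : X)
    (hne : ∀ x, x ≠ 1 → R0 χ0 x ≠ 0) (c : W → (A →* ℂˣ))
    (hc : ∀ (w : W) χ x, x ≠ 1 → R0 χ ((w : MulAut A) x) = (c w x : ℂ) * R0 χ x) :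
    ∃ ν : A →* ℂˣ, ∀ χ, ∀ w : W, ∀ x, x ≠ 1 → (ν ((w : MulAut A) x) : ℂ) * R0 χ ((w : MulAut A) x) =
      (ν x : ℂ) * R0 χ x := by
  have hco : ∀ (s w : W) (x : A), c (s * w) x = c s ((w : MulAut A) x) * c w x := by
    intro s w x
    by_cases hx : x = 1
    · rw [hx]; simp
    · have hwx : (w : MulAut A) x ≠ 1 := fun h => hx ((MulEquiv.map_eq_one_iff _).1 h)
      have h1 := hc (s * w) χ0 x hx
      have h2 : ((s * w : W) : MulAut A) x = (s : MulAut A) ((w : MulAut A) x) := rfl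
      rw [h2, hc s χ0 _ hwx, hc w χ0 x hx, ← mul_assoc] at h1
      apply Units.ext
      rw [Units.val_mul]
      exact (mul_right_cancel₀ (hne x hx) h1).symm
  set m : A →* ℂˣ := ∏ s : W, c s with hm
  have hmw : ∀ (w : W) (x : A), m x = m ((w : MulAut A) x) * (c w x) ^ Nat.card W := by
    intro w x
    rw [hm, MonoidHom.finsetProd_apply, MonoidHom.finsetProd_apply]
    have h1 : ∏ s : W, c s x = ∏ s : W, c (s * w) x :=
      (Fintype.prod_equiv (Equiv.mulRight w) _ _ (fun s => rfl)).symm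
    rw [h1]
    simp only [hco]
    rw [Finset.prod_mul_distrib, Finset.prod_const, Finset.card_univ, Nat.card_eq_fintype_card]
  have hpow : ∀ (w : W) (x : A), (c w x) ^ Nat.card A = 1 := by
    intro w x
    rw [← map_pow, pow_card_eq_one', map_one]
  obtain ⟨f, hf⟩ : ∃ f : ℕ, ∀ (w : W) (x : A), (c w x) ^ (Nat.card W * f) = c w x := by
    rcases Nat.lt_or_ge 1 (Nat.card A) with h1 | h1
    · obtain ⟨f, -, hf⟩ := Nat.exists_mul_mod_eq_one_of_coprime hcop h1
      refine ⟨f, fun w x => ?_⟩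
      rw [← Nat.div_add_mod (Nat.card W * f) (Nat.card A), hf, pow_add, pow_mul, hpow, one_pow, one_mul, pow_one]
    · have h2 : Nat.card A = 1 := le_antisymm h1 Nat.card_pos
      refine ⟨0, fun w x => ?_⟩
      have h3 := hpow w x
      rw [h2, pow_one] at h3
      rw [h3, one_pow]
  refine ⟨m ^ f, fun χ w x hx => ?_⟩
  have h1 := hmw w x
  have h2 : (m ^ f) x = (m ^ f) ((w : MulAut A) x) * c w x := by
    rw [MonoidHom.pow_apply, MonoidHom.pow_apply, h1, mul_pow, ← pow_mul, hf]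
  rw [h2, hc w χ x hx]
  push_cast
  ring

/-- the subgroup of order `p` of a cyclic `p`-group -/
theorem exists_socle {G : Type u} [Group G] [Finite G] {p : ℕ} (hp : p.Prime) {P : Subgroup G} (hcyc : IsCyclic P)
    (hP : IsPGroup p P) (hP1 : P ≠ ⊥) :
    ∃ z ∈ P, z ≠ 1 ∧ orderOf z = p ∧ ∀ x ∈ P, x ≠ 1 → z ∈ Subgroup.zpowers x := by
  have hord : ∀ x ∈ P, x ≠ 1 → ∃ y ∈ Subgroup.zpowers x, orderOf y = p := by
    intro x hx hx1
    have := Fact.mk hp
    obtain ⟨k, hk⟩ := (IsPGroup.iff_orderOf.1 hP) ⟨x, hx⟩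
    rw [← Subgroup.orderOf_coe] at hk
    have hk0 : k ≠ 0 := by
      intro h
      rw [h, pow_zero] at hk
      exact hx1 (orderOf_eq_one_iff.1 hk)
    refine ⟨x ^ p ^ (k - 1), Subgroup.npow_mem_zpowers _ _, ?_⟩
    have hk' : orderOf x = p ^ k := hk
    rw [orderOf_pow' x (pow_ne_zero _ hp.ne_zero), hk',
      Nat.gcd_eq_right (pow_dvd_pow p (Nat.sub_le k 1)), Nat.pow_div (Nat.sub_le k 1) hp.pos]
    have : k - (k - 1) = 1 := by omega
    rw [this, pow_one]
  obtain ⟨x0, hx0, hx01⟩ : ∃ x ∈ P, x ≠ 1 := by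
    by_contra hcon
    push Not at hcon
    exact hP1 ((Subgroup.eq_bot_iff_forall _).2 hcon)
  obtain ⟨z, hz, hzo⟩ := hord x0 hx0 hx01
  have hzP : z ∈ P := (Subgroup.zpowers_le.2 hx0) hz
  refine ⟨z, hzP, ?_, hzo, ?_⟩
  · intro h
    rw [h, orderOf_one] at hzo
    exact hp.one_lt.ne hzo
  · intro x hx hx1
    obtain ⟨y, hy, hyo⟩ := hord x hx hx1
    have h1 : Subgroup.zpowers z = Subgroup.zpowers y := by
      apply H2.BGCop.eq_of_card_eq_of_isCyclic hcyc
      · rw [Subgroup.zpowers_le]; exact hzP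
      · rw [Subgroup.zpowers_le]; exact (Subgroup.zpowers_le.2 hx) hy
      · rw [Nat.card_zpowers, Nat.card_zpowers, hzo, hyo]
    exact (Subgroup.zpowers_le.2 hy) (h1 ▸ Subgroup.mem_zpowers z)

end H84.FL
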