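import Cfsg.Agent.Lib.H84.FL7
import Cfsg.Agent.Lib.H80.SU1

/-!
# The local system of a block with cyclic defect group
-/

set_option autoImplicit false
set_option linter.unusedSectionVars false
set_option linter.unusedVariables false

namespace H84.FL

open Cfsg H20.Loc H20.GA H80.GA H80.GB H80.GC H80.GD H80.GE H80.GF H80.GG H80.GH H80.GJ H80.FS H84.RG H18.CharBasic H18.CharOrtho H84.TrR
open H20.Blk H20.Orth H20.Ind H20.Height H20.Defect H80.BR1 H80.BR2 H19.Second H19.Second3 H81.Section H81.Contrib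
open H84.Star H84.Wat
open scoped ComplexConjugate

universe u v

attribute [local instance 2000] Fintype.ofFinite

theorem norm_unit {A : Type v} [Group A] [Finite A] (ν : A →* ℂˣ) (x : A) : (ν x : ℂ) * conj (ν x : ℂ) = 1 := by
  have h1 : (ν x : ℂ) ^ Nat.card A = 1 := by
    rw [← Units.val_pow_eq_pow_val, ← map_pow, pow_card_eq_one', map_one, Units.val_one]
  have h2 : ‖(ν x : ℂ)‖ = 1 := Complex.norm_eq_one_of_pow_eq_one h1 Nat.card_pos.ne'
  rw [Complex.mul_conj, Complex.normSq_eq_norm_sq, h2]; norm_num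

theorem int_unit {A : Type v} [Group A] [Finite A] (ν : A →* ℂˣ) (x : A) : IsIntegral ℤ ((ν x : ℂ)) := by
  apply IsIntegral.of_pow (n := Nat.card A) Nat.card_pos
  rw [← Units.val_pow_eq_pow_val, ← map_pow, pow_card_eq_one', map_one, Units.val_one]
  exact isIntegral_one

variable {M : Ideal AlgInt} [M.IsMaximal] {G : Type u} [Group G] [Finite G] {p : ℕ}
variable [Fact p.Prime] [CharP (ResF M) p] [Algebra (ZMod p) (ResF M)] [Algebra.IsAlgebraic (ZMod p) (ResF M)]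
variable {B : Set (IrrCharacter G)} {P : Subgroup G} {e : MonoidAlgebra (ResF M) G}

theorem tf_nil [IsAlgClosed (ResF M)] (hM : IsPModular p M) (hmax : IsMax p ⊤ (ebar M B) P e)
    (hB : IsPBlock M B) (hnil : H80.FS3.Nilp p ⊤ (ebar M B)) {χ : IrrCharacter G} (hχ : χ ∈ B)
    (h0 : blockHeight p B (χ : G → ℂ) = 0) (ζ : IrrCharacter P) :
    tf hM hmax hB hnil hχ h0 ((nilEquiv hM hmax hB hnil hχ h0 ζ : IrrCharacter G) : G → ℂ) = ζ := by
  classical
  rw [tf, Finset.sum_eq_single ζ]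
  · rw [inner_irr_self (nilEquiv hM hmax hB hnil hχ h0 ζ).1.2, one_smul]
  · intro η _ hne
    rw [inner_irr_ne (nilEquiv hM hmax hB hnil hχ h0 ζ).1.2 (nilEquiv hM hmax hB hnil hχ h0 η).1.2, zero_smul]
    intro h
    apply hne
    exact (nilEquiv hM hmax hB hnil hχ h0).injective (Subtype.ext (Subtype.ext h.symm))
  · intro h; exact absurd (Finset.mem_univ _) h

theorem exists_loc_cyclic [IsAlgClosed (ResF M)] (hM : IsPModular p M) (hmax : IsMax p ⊤ (ebar M B) P e)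
    (hB : IsPBlock M B) (hcyc : IsCyclic P) (hP1 : P ≠ ⊥)
    (hfree : ∀ g ∈ ST ⊤ P e, ∀ x ∈ P, x ≠ 1 → g * x * g⁻¹ = x → g ∈ Subgroup.centralizer (P : Set G))
    (hcop : ¬ p ∣ Nat.card (WT P e)) :
    ∃ (S : ∀ x : P, BlkS M (x : G)) (φ : ∀ x : P, C (x : G) → ℂ) (R : IrrCharacter G → P → ℂ),
      Loc (p := p) B P e S φ R := by
  classical
  have hpr := (inferInstance : M.IsMaximal).isPrime
  have hab := H80.BR11.ab_of_cyclic hcyc
  have hpair := hmax.of.pair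
  obtain ⟨z, hzP, hz1, hzo, hzx⟩ := exists_socle (Fact.out : p.Prime) hcyc hpair.pgr hP1
  set K := C z with hK
  have hPK : P ≤ K := fun x hx => Subgroup.mem_centralizer_singleton_iff.2 (hab x hx z hzP)
  -- sub pairs
  have hsub : ∀ x : P, ∃ S : BlkS M (x : G), SLE p ⊤ (Subgroup.zpowers (x : G)) (bl M (C (x : G)) S.1) P e := by
    intro x
    obtain ⟨f, hf, -⟩ := exists_unique_sle hpair (Q := Subgroup.zpowers (x : G))
      (by rw [Subgroup.zpowers_le]; exact x.2)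
    obtain ⟨S, hS⟩ := (blEquiv M (x : G)).surjective ⟨f, (SLE.pair_left hpair hf).blk⟩
    have hS' : bl M (C (x : G)) S.1 = f := congrArg Subtype.val hS
    exact ⟨S, by rw [hS']; exact hf⟩
  choose S hS using hsub
  set Sz : BlkS M z := S ⟨z, hzP⟩ with hSz
  have hfz : SLE p ⊤ (Subgroup.zpowers z) (bl M (C z) Sz.1) P e := hS ⟨z, hzP⟩
  have hzle : Subgroup.zpowers z ≤ P := by rw [Subgroup.zpowers_le]; exact hzP
  have hzne : Subgroup.zpowers z ≠ ⊥ := by rw [Ne, Subgroup.zpowers_eq_bot]; exact hz1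
  have hnil := H80.CD1.nilp_sub hmax hab hzle hzne hfree hfz
  have hmz := ab_max hmax hab hfz
  rw [CH_eq] at hnil hmz
  obtain ⟨e', he', hmax', hP'⟩ := sub_setup hmz
  have hnil' : H80.FS3.Nilp p ⊤ (ebar M Sz.1) := by
    rw [← H80.FS4.nilp_iff_top Sz.2, H80.FS4.nilp_iff_sub Sz.2]; exact hnil
  obtain ⟨ψ0, h0, hh0⟩ := exists_height_zero hM Sz.2
  have hCx : ∀ x : P, x ≠ 1 → C (x : G) ≤ K := by
    intro x hx c hc
    have h1 := hzx x x.2 (fun h => hx (Subtype.ext h))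
    obtain ⟨n, hn⟩ := Subgroup.mem_zpowers_iff.1 h1
    have h2 : Commute c (x : G) := Subgroup.mem_centralizer_singleton_iff.1 hc
    rw [hK, Subgroup.mem_centralizer_singleton_iff, ← hn]
    exact h2.zpow_right n
  have hmain := fun (x : P) (hx : x ≠ 1) => main_tf hM hab Sz.2 hPK he' hmax' hnil' h0 hh0 x
    (C_eq_map (y := (iot hPK x : K)) (hCx x hx)) (S x).2 (by
      have h1 := (ab_max hmax hab (hS x)).of
      rwa [CH_eq] at h1)
  set R0 : IrrCharacter G → P → ℂ := fun χ x =>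
    tf hM hmax' Sz.2 hnil' h0 hh0 (fun k : K => (χ : G → ℂ) k) (iot hPK x) with hR0
  set φ0 : ∀ x : P, C (x : G) → ℂ := fun x => pc p (C (x : G)) (S x).1 (x : G) (ez K (ψ0 : K → ℂ)) with hφ0
  have hres : ∀ χ : IrrCharacter G, IsClassFunction K (fun k : K => (χ : G → ℂ) k) := by
    intro χ g h
    exact (isClassFunction_of_isIrr χ.2) (g : G) (h : G)
  have hcomp0 : ∀ χ : IrrCharacter G, ∀ x : P, x ≠ 1 →
      pc p (C (x : G)) (S x).1 (x : G) (χ : G → ℂ) = R0 χ x • φ0 x := fun χ x hx =>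
    (hmain x hx).1 (χ : G → ℂ) (hres χ)
  have hφne : ∀ x : P, x ≠ 1 → φ0 x ≠ 0 := by
    intro x hx h
    have h1 := (hmain x hx).2.1
    have h1' : classInner (φ0 x) (φ0 x) = (Nat.card P : ℂ)⁻¹ := h1
    rw [h, H18.CharOrtho.inner_zero_left] at h1'
    have h2 : (Nat.card P : ℂ) ≠ 0 := by exact_mod_cast (Nat.card_pos (α := P)).ne'
    exact inv_ne_zero h2 h1'.symm
  have hAK : ∀ a b : P.subgroupOf K, a * b = b * a := fun a b =>
    Subtype.ext (Subtype.ext (hab _ (Subgroup.mem_subgroupOf.1 a.2) _ (Subgroup.mem_subgroupOf.1 b.2)))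
  -- the cocycle
  have hcoc : ∀ w : WT P e, ∃ c : P →* ℂˣ, ∀ χ : IrrCharacter G, ∀ x : P, x ≠ 1 →
      R0 χ ((w : MulAut P) x) = (c x : ℂ) * R0 χ x := by
    rintro ⟨w, ⟨t, rfl⟩⟩
    have hti : (t : G)⁻¹ ∈ ST ⊤ P e := inv_mem t.2
    have hst : (t : G)⁻¹ ∈ ST ⊤ (Subgroup.zpowers z) (bl M (C z) Sz.1) := H80.CD1.st_le hmax hcyc hfz hti
    have hnK : (t : G)⁻¹ ∈ Subgroup.normalizer (K : Set G) := by
      have h1 : K = Subgroup.centralizer ((Subgroup.zpowers z : Subgroup G) : Set G) := (H80.SU1.cent_zpowers z).symm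
      rw [h1, mem_normalizer, cs_centralizer, mem_normalizer.1 hst.2.1]
    have hstab : StabilizesBlock K Sz.1 (t : G)⁻¹ := (stabilizes_iff Sz.2).2 ⟨hnK, hst.2.2⟩
    obtain ⟨ψ', hψ', hconj⟩ := hstab.2 ψ0 h0
    have hmemK : ∀ g : G, (t : G) * g * (t : G)⁻¹ ∈ K ↔ g ∈ K := by
      intro g
      have h1 := (mem_normalizer_iff'.1 (inv_mem hnK)) g
      rw [inv_inv] at h1
      exact h1.symm
    have hez : (fun g => ez K (ψ0 : K → ℂ) ((t : G) * g * (t : G)⁻¹)) = ez K (ψ' : K → ℂ) := by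
      funext g
      by_cases hg : g ∈ K
      · have hg' := (hmemK g).2 hg
        have h1 := hconj ⟨(t : G) * g * (t : G)⁻¹, hg'⟩ ⟨g, hg⟩ (by simp only; group)
        rw [ez, ez, dif_pos hg', dif_pos hg, h1]
      · have hg' : ¬ (t : G) * g * (t : G)⁻¹ ∈ K := fun h => hg ((hmemK g).1 h)
        rw [ez, ez, dif_neg hg', dif_neg hg]
    obtain ⟨ζ, hζ⟩ := (nilEquiv hM hmax' Sz.2 hnil' h0 hh0).surjective ⟨ψ', hψ'⟩
    obtain ⟨lam, hlam⟩ := exists_hom_of_isIrr_of_comm hAK ζ.2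
    have htf : tf hM hmax' Sz.2 hnil' h0 hh0 (ψ' : K → ℂ) = ζ := by
      have h1 := tf_nil hM hmax' Sz.2 hnil' h0 hh0 ζ
      rwa [hζ] at h1
    refine ⟨(lam.comp (iotH hPK))⁻¹, fun χ x hx => ?_⟩
    set wx : P := stHom ⊤ P e t x with hwx
    have hwx1 : wx ≠ 1 := fun h => hx ((MulEquiv.map_eq_one_iff _).1 h)
    have hwxc : (wx : G) = (t : G) * x * (t : G)⁻¹ := rfl
    have hCC : C (wx : G) = cs (t : G) (C (x : G)) := by
      rw [← CH_eq, ← CH_eq, cs_CH, hwxc, H80.SU1.cs_zp]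
      congr 1
      exact (cs_of_mem (Subgroup.mem_top _)).symm
    have hbl : bl M (C (wx : G)) (S wx).1 = cj (t : G) (bl M (C (x : G)) (S x).1) := by
      have h1 := sle_cj (hS x) (t : G)
      rw [H80.SU1.cs_zp, mem_normalizer.1 t.2.2.1, t.2.2.2, cs_of_mem (Subgroup.mem_top _)] at h1
      exact SLE.unique hpair (hS wx) h1
    have hψx : pc p (C (x : G)) (S x).1 (x : G) (ez K (ψ' : K → ℂ)) = ((lam (iotH hPK x) : ℂˣ) : ℂ) • φ0 x := by
      have h4 : (fun k : K => ez K (ψ' : K → ℂ) k) = ψ' := funext fun k => ez_coe _ k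
      have h1 := (hmain x hx).1 (ez K (ψ' : K → ℂ)) (by rw [h4]; exact isClassFunction_of_isIrr ψ'.2)
      rw [h4, htf, hlam] at h1
      exact h1
    have hkey : ∀ l : C (x : G), R0 χ x * φ0 x l = R0 χ wx * ((lam (iotH hPK x) : ℂˣ) : ℂ) * φ0 x l := by
      intro l
      have hl' : (t : G) * l * (t : G)⁻¹ ∈ C (wx : G) := by
        rw [hCC]; exact conj_mem_cs.2 l.2
      have h1 := pc_conj (p := p) (S x).2 (S wx).2 hCC hbl (x : G) (χ : G → ℂ) l ⟨_, hl'⟩ rfl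
      have h2 : (fun g => (χ : G → ℂ) ((t : G) * g * (t : G)⁻¹)) = χ := funext fun g =>
        (isClassFunction_of_isIrr χ.2) g (t : G)
      have h3 := pc_conj (p := p) (S x).2 (S wx).2 hCC hbl (x : G) (ez K (ψ0 : K → ℂ)) l ⟨_, hl'⟩ rfl
      rw [hez, hψx] at h3
      rw [h2, hcomp0 χ x hx, ← hwxc, hcomp0 χ wx hwx1, Pi.smul_apply, Pi.smul_apply, smul_eq_mul, smul_eq_mul] at h1
      rw [← hwxc, Pi.smul_apply, smul_eq_mul] at h3
      rw [← h1]
      have h5 : φ0 wx ⟨_, hl'⟩ = (lam (iotH hPK x) : ℂ) * φ0 x l := h3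
      rw [h5]
      ring
    have hR : R0 χ x = R0 χ wx * ((lam (iotH hPK x) : ℂˣ) : ℂ) := by
      have h1 : (R0 χ x - R0 χ wx * ((lam (iotH hPK x) : ℂˣ) : ℂ)) • φ0 x = 0 := by
        funext l
        rw [Pi.smul_apply, smul_eq_mul, sub_mul, hkey l, sub_self]; rfl
      exact sub_eq_zero.1 ((smul_eq_zero.1 h1).resolve_right (hφne x hx))
    have h6 : (((lam.comp (iotH hPK))⁻¹ : P →* ℂˣ) x : ℂˣ) = (lam (iotH hPK x))⁻¹ := rfl
    rw [h6, hR]
    have h7 : ((lam (iotH hPK x) : ℂˣ) : ℂ) ≠ 0 := Units.ne_zero _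
    rw [Units.val_inv_eq_inv_val]
    field_simp
  choose c hc using hcoc
  obtain ⟨χ0, hχ0⟩ := isPBlock_nonempty hB
  have hcop' : (Nat.card (WT P e)).Coprime (Nat.card P) := by
    obtain ⟨n, hn⟩ := IsPGroup.iff_card.1 hpair.pgr
    rw [hn]
    exact Nat.Coprime.pow_right n (((Fact.out : p.Prime).coprime_iff_not_dvd.2 hcop).symm)
  obtain ⟨ν, hν⟩ := exists_twist_inv hcop' R0 χ0 (fun x hx h => by
    apply ne_zero hM hmax hB hab hfree hx (hS x) hχ0
    have h1 := hcomp0 χ0 x hx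
    rw [h, zero_smul] at h1
    exact h1) c hc
  refine ⟨S, fun x => ((ν x : ℂˣ) : ℂ)⁻¹ • φ0 x, fun χ x => (ν x : ℂ) * R0 χ x, ?_⟩
  have hν0 : ∀ x, ((ν x : ℂˣ) : ℂ) ≠ 0 := fun x => Units.ne_zero _
  refine ⟨fun x hx => hS x, fun χ hχ x hx => ?_, fun x hx => ?_, fun x hx c => ?_, fun χ hχ w hw x hx => ?_,
    fun χ hχ => ?_⟩
  · have h1 := hcomp0 χ x hx
    have h2 : comp p (x : G) (S x).1 (χ : G → ℂ) = pc p (C (x : G)) (S x).1 (x : G) (χ : G → ℂ) := rfl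
    rw [h2, h1, smul_smul, mul_right_comm, mul_inv_cancel₀ (hν0 x), one_mul]
  · have h1 : classInner (φ0 x) (φ0 x) = (Nat.card P : ℂ)⁻¹ := (hmain x hx).2.1
    rw [H18.CharOrtho.inner_smul_left, H18.CharOrtho.inner_smul_right, h1, ← mul_assoc, map_inv₀, ← mul_inv,
      norm_unit, inv_one, one_mul]
  · have h1 := (hmain x hx).2.2 c
    have h2 : MemLocalRing M (((ν x : ℂˣ) : ℂ)⁻¹) := by
      have h3 := int_unit ν x⁻¹
      rw [map_inv, Units.val_inv_eq_inv_val] at h3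
      exact isIntegral_mem h3
    refine ⟨locR_mul h2 h1.1, ?_⟩
    have e : (Nat.card P : ℂ) * (((ν x : ℂˣ) : ℂ)⁻¹ • φ0 x) c /
        (Nat.card (Subgroup.centralizer ({c} : Set (C (x : G)))) : ℂ) =
        ((ν x : ℂˣ) : ℂ)⁻¹ * ((Nat.card P : ℂ) * φ0 x c /
        (Nat.card (Subgroup.centralizer ({c} : Set (C (x : G)))) : ℂ)) := by
      rw [Pi.smul_apply, smul_eq_mul]; ring
    rw [e]
    exact locR_mul h2 h1.2
  · exact hν χ ⟨w, hw⟩ x hx
  · have h1 : IsGeneralizedCharacter P (R0 χ) :=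
      isGen_comp (iotH hPK) (tf_gen hM hmax' Sz.2 hnil' h0 hh0
        (H18.CharOrtho.isGen_restrict K (isGen_of_isIrr χ.2)))
    exact isGen_mul (isGen_of_isIrr (isIrrCharacter_of_hom ν)) h1

end H84.FL
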