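import Cfsg.Agent.Lib.H84.Wat1
import Cfsg.Agent.S4685

/-!
# The trace of the star action for abelian defect groups
-/

set_option autoImplicit false

namespace H84.Wat

open Cfsg H20.Loc H20.GA H80.GA H80.GB H80.GD H80.GE H80.GF H80.GJ H80.FS H84.RG H18.CharBasic H18.CharOrtho H84.TrR
open H20.Blk H20.Orth H20.Ind H20.Height H20.Defect H80.BR1 H80.BR2 H19.Second H19.Second3 H81.Section H81.Contrib
open H84.Star
open scoped ComplexConjugate commutatorElement

universe u

attribute [local instance 2000] Fintype.ofFinite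

variable {M : Ideal AlgInt} [M.IsMaximal] {G : Type u} [Group G] [Finite G] {p : ℕ}
variable [Fact p.Prime] [CharP (ResF M) p] [Algebra (ZMod p) (ResF M)] [Algebra.IsAlgebraic (ZMod p) (ResF M)]
variable {b : MonoidAlgebra (ResF M) G} {B : Set (IrrCharacter G)} {P : Subgroup G} {e : MonoidAlgebra (ResF M) G}

theorem sum_Wt (hM : IsPModular p M) (hmax : IsMax p ⊤ (ebar M B) P e) (hB : IsPBlock M B) (y : P) :
    ∑ χ : B, Wt p (χ.1 : G → ℂ) (χ.1 : G → ℂ) (y : G) (fy hmax.of.pair y) / (Nat.card (C (y : G)) : ℂ) =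
      (rk p (C (y : G)) (fy hmax.of.pair y) : ℂ) := by
  classical
  have hC : (Nat.card (C (y : G)) : ℂ) ≠ 0 := by exact_mod_cast (Nat.card_pos (α := C (y : G))).ne'
  obtain ⟨S, hS⟩ := (blEquiv M (y : G)).surjective ⟨fy hmax.of.pair y, ((fy_spec hmax.of.pair y).pair_left hmax.of.pair).blk⟩
  have hS' : bl M (C (y : G)) S.1 = fy hmax.of.pair y := congrArg Subtype.val hS
  have hy := order_of_mem hmax.of.pair.pgr y
  have hpo := (pairOf_of_sle hmax.of.pair (fy_spec hmax.of.pair y)).1 hmax.of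
  rw [← hS'] at hpo ⊢
  have hind := (ind_iff hM hy S.2 hB).2 hpo
  rw [rk_bl S.2, ← sum_diag hM (isUnion_of_isPBlock S.2) hy]
  have h1 : ∀ χ : B, Wt p (χ.1 : G → ℂ) (χ.1 : G → ℂ) (y : G) (bl M (C (y : G)) S.1) / (Nat.card (C (y : G)) : ℂ) =
      classInner (comp p (y : G) S.1 (χ.1 : G → ℂ)) (comp p (y : G) S.1 (χ.1 : G → ℂ)) := by
    intro χ
    rw [Wt_eq hy S (isClassFunction_of_isIrr χ.1.2) (isClassFunction_of_isIrr χ.1.2), mul_div_cancel_left₀ _ hC]
  rw [Finset.sum_congr rfl (fun χ _ => h1 χ)]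
  have h2 : ∀ χ : IrrCharacter G, χ ∉ B → classInner (comp p (y : G) S.1 (χ : G → ℂ))
      (comp p (y : G) S.1 (χ : G → ℂ)) = 0 := by
    intro χ hχ
    rw [comp_eq_zero' hM hy hind hχ, H18.CharOrtho.inner_zero_left]
  symm
  rw [← Finset.sum_subset (Finset.subset_univ (Finset.univ.filter (fun χ : IrrCharacter G => χ ∈ B)))
    (fun χ _ hχ => h2 χ (by simpa using hχ))]
  rw [← Finset.sum_subtype_of_mem (p := fun χ => χ ∈ B) (f := fun χ : IrrCharacter G =>
    classInner (comp p (y : G) S.1 (χ : G → ℂ)) (comp p (y : G) S.1 (χ : G → ℂ)))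
    (s := Finset.univ.filter (fun χ : IrrCharacter G => χ ∈ B)) (fun χ hχ => (Finset.mem_filter.1 hχ).2)]
  apply Finset.sum_congr
  · ext χ
    simp
  · intro χ _
    rfl

/-- the trace formula -/
theorem trace_star (hM : IsPModular p M) (hmax : IsMax p ⊤ (ebar M B) P e) (hB : IsPBlock M B)
    (l : LinF hmax.of.pair) :
    ∑ χ : B, classInner (star p (Lam p P e (fun y => (l.1 y : ℂ))) (χ.1 : G → ℂ)) (χ.1 : G → ℂ) =
      ∑ y : P, (l.1 y : ℂ) * ((rk p (C (y : G)) (fy hmax.of.pair y) : ℂ) / (Nat.card (cl p P e y) : ℂ)) := by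
  have h1 : ∀ χ : B, classInner (star p (Lam p P e (fun y => (l.1 y : ℂ))) (χ.1 : G → ℂ)) (χ.1 : G → ℂ) =
      ∑ y : P, (l.1 y : ℂ) * (Wt p (χ.1 : G → ℂ) (χ.1 : G → ℂ) (y : G) (fy hmax.of.pair y) /
        (Nat.card (C (y : G)) : ℂ) / (Nat.card (cl p P e y) : ℂ)) := by
    intro χ
    have h2 := inner_star_P hM hmax hB (LinF_fst _ l) FSt.one χ.2 (isClassFunction_of_isIrr χ.1.2)
    rw [star_one hM hmax hB χ.2] at h2
    rw [h2]
    apply Finset.sum_congr rfl
    intro y _
    rw [Pi.one_apply, map_one, mul_one, div_div]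
  rw [Finset.sum_congr rfl (fun χ _ => h1 χ), Finset.sum_comm]
  apply Finset.sum_congr rfl
  intro y _
  rw [← Finset.mul_sum, ← Finset.sum_div, sum_Wt hM hmax hB y]

/-- freeness of the action for abelian defect groups -/
theorem inner_free (hM : IsPModular p M) (hmax : IsMax p ⊤ (ebar M B) P e) (hB : IsPBlock M B)
    (hab : ∀ x ∈ P, ∀ y ∈ P, x * y = y * x) {l : LinF hmax.of.pair} (hl : l ≠ 1) (χ : B) :
    classInner (star p (Lam p P e (fun y => (l.1 y : ℂ))) (χ.1 : G → ℂ)) (χ.1 : G → ℂ) = 0 := by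
  obtain ⟨ψ, hψ, h1⟩ := star_linear hM hmax hB l.1 (LinF_fst _ l) χ.2
  rw [← h1]
  apply inner_irr_ne ψ.2 χ.1.2
  intro h2
  apply hl
  rw [h2] at h1
  apply Subtype.ext
  ext u
  have hPp := hmax.of.pair
  have huC : (u : G) ∈ Subgroup.centralizer (P : Set G) := by
    rw [Subgroup.mem_centralizer_iff]
    intro x hx
    exact hab x hx u u.2
  have h3 := eq_one_of_fix hM (fun u => (exists_unique_sle hPp
    (by rw [Subgroup.zpowers_le]; exact u.2)).exists) (LinF_fst _ l) h1.symm u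
    (order_of_mem hPp.pgr u) hPp (by
      intro S hS
      have hu := order_of_mem hPp.pgr u
      have hpo := (pairOf_of_sle hPp hS).1 hmax.of
      have hind := (ind_iff hM hu S.2 hB).2 hpo
      exact comp_ne_zero_of_defect hM hu hind (Cfsg.Agent.S4685.defect_eq hM hB hmax u.2 huC S hS) χ.2)
  rw [h3]
  rfl

/-- the character sum -/
theorem sum_l (hM : IsPModular p M) (hmax : IsMax p ⊤ (ebar M B) P e) (hB : IsPBlock M B)
    (hab : ∀ x ∈ P, ∀ y ∈ P, x * y = y * x) (l : LinF hmax.of.pair) [Decidable (l = 1)] :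
    ∑ y : P, (l.1 y : ℂ) * ((rk p (C (y : G)) (fy hmax.of.pair y) : ℂ) / (Nat.card (cl p P e y) : ℂ)) =
      if l = 1 then (Nat.card B : ℂ) else 0 := by
  rw [← trace_star hM hmax hB l]
  split_ifs with h
  · subst h
    have h1 : ∀ χ : B, classInner (star p (Lam p P e (fun y => (((1 : LinF hmax.of.pair) : P →* ℂˣ) y : ℂ)))
        (χ.1 : G → ℂ)) (χ.1 : G → ℂ) = 1 := by
      intro χ
      have h2 := star_one hM hmax hB χ.2
      have h3 : (fun y : P => (((1 : LinF hmax.of.pair) : P →* ℂˣ) y : ℂ)) = 1 := rfl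
      rw [h3, h2, inner_irr_self χ.1.2]
    rw [Finset.sum_congr rfl (fun χ _ => h1 χ), Finset.sum_const, nsmul_eq_mul, mul_one, Finset.card_univ,
      ← Nat.card_eq_fintype_card]
  · exact Finset.sum_eq_zero (fun χ _ => inner_free hM hmax hB hab h χ)

/-- orthogonality for the characters of the quotient by the focal subgroup -/
theorem sum_LinF (hP : IsPair p ⊤ P e) (x : P) [Fintype (LinF hP)] [Decidable (x ∈ (fsys hP).focalSubgroup.subgroupOf P)] :
    ∑ l : LinF hP, (l.1 x : ℂ) = if x ∈ (fsys hP).focalSubgroup.subgroupOf P then (Nat.card (LinF hP) : ℂ) else 0 := by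
  split_ifs with h
  · have h1 : ∀ l : LinF hP, (l.1 x : ℂ) = 1 := fun l => by rw [l.2 x h]; rfl
    rw [Finset.sum_congr rfl (fun l _ => h1 l), Finset.sum_const, nsmul_eq_mul, mul_one, Finset.card_univ,
      ← Nat.card_eq_fintype_card]
  · obtain ⟨l0, hl0⟩ : ∃ l0 : LinF hP, l0.1 x ≠ 1 := by
      by_contra hcon
      push Not at hcon
      apply h
      -- the quotient group has enough characters
      set N := (fsys hP).focalSubgroup.subgroupOf P with hN
      have hcom : commutator P ≤ N := commutator_le_focal hP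
      have hn : N.Normal := Subgroup.Normal.of_commutator_le _ hcom
      by_contra hx
      have hcomm : ∀ a b : P ⧸ N, a * b = b * a := by
        intro a b
        induction a using QuotientGroup.induction_on with
        | H a =>
          induction b using QuotientGroup.induction_on with
          | H b =>
            rw [← QuotientGroup.mk_mul, ← QuotientGroup.mk_mul, QuotientGroup.eq]
            have h3 : (a * b)⁻¹ * (b * a) = ⁅b⁻¹, a⁻¹⁆ := by
              rw [commutatorElement_def]; group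
            rw [h3]
            exact hcom (Subgroup.commutator_mem_commutator (Subgroup.mem_top _) (Subgroup.mem_top _))
      let _ : CommGroup (P ⧸ N) := { (inferInstance : Group (P ⧸ N)) with mul_comm := hcomm }
      have hne : (QuotientGroup.mk x : P ⧸ N) ≠ 1 := fun h0 => hx ((QuotientGroup.eq_one_iff x).1 h0)
      obtain ⟨m, hm⟩ := CommGroup.exists_apply_ne_one_of_hasEnoughRootsOfUnity (P ⧸ N) ℂ hne
      refine hm ?_
      exact hcon ⟨m.comp (QuotientGroup.mk' N), fun y hy => by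
        rw [MonoidHom.comp_apply, QuotientGroup.mk'_apply, (QuotientGroup.eq_one_iff y).2 hy, map_one]⟩
    have h1 : ∑ l : LinF hP, (l.1 x : ℂ) = (l0.1 x : ℂ) * ∑ l : LinF hP, (l.1 x : ℂ) := by
      rw [Finset.mul_sum, ← Equiv.sum_comp (Equiv.mulLeft l0)]
      apply Finset.sum_congr rfl
      intro l _
      rw [Equiv.coe_mulLeft]
      change ((l0.1 * l.1) x : ℂ) = _
      rw [MonoidHom.mul_apply, Units.val_mul]
    have h2 : (1 - (l0.1 x : ℂ)) * ∑ l : LinF hP, (l.1 x : ℂ) = 0 := by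
      rw [sub_mul, one_mul, ← h1, sub_self]
    rcases mul_eq_zero.1 h2 with h3 | h3
    · exfalso
      apply hl0
      apply Units.ext
      rw [Units.val_one]
      exact (sub_eq_zero.1 h3).symm
    · exact h3

/-- the coset formula -/
theorem coset_sum (hM : IsPModular p M) (hmax : IsMax p ⊤ (ebar M B) P e) (hB : IsPBlock M B)
    (hab : ∀ x ∈ P, ∀ y ∈ P, x * y = y * x) (z : P)
    [DecidablePred fun y : P => z⁻¹ * y ∈ (fsys hmax.of.pair).focalSubgroup.subgroupOf P] :
    (((fsys hmax.of.pair).focalSubgroup.subgroupOf P).index : ℂ) *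
      ∑ y : P, (if z⁻¹ * y ∈ (fsys hmax.of.pair).focalSubgroup.subgroupOf P then
        ((rk p (C (y : G)) (fy hmax.of.pair y) : ℂ) / (Nat.card (cl p P e y) : ℂ)) else 0) = (Nat.card B : ℂ) := by
  classical
  have hfin : Finite (LinF hmax.of.pair) := by
    apply Nat.finite_of_card_ne_zero
    rw [card_LinF]
    exact Subgroup.index_ne_zero_of_finite
  have h1 : ∑ l : LinF hmax.of.pair, (l.1 z : ℂ)⁻¹ * ∑ y : P, (l.1 y : ℂ) *
      ((rk p (C (y : G)) (fy hmax.of.pair y) : ℂ) / (Nat.card (cl p P e y) : ℂ)) = (Nat.card B : ℂ) := by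
    rw [Finset.sum_eq_single (1 : LinF hmax.of.pair)]
    · rw [sum_l hM hmax hB hab 1, if_pos rfl]
      have : (((1 : LinF hmax.of.pair) : P →* ℂˣ) z : ℂ) = 1 := rfl
      rw [this, inv_one, one_mul]
    · intro l _ hl
      rw [sum_l hM hmax hB hab l, if_neg hl, mul_zero]
    · intro h; exact absurd (Finset.mem_univ _) h
  rw [← h1, Finset.mul_sum]
  simp only [Finset.mul_sum]
  rw [Finset.sum_comm]
  apply Finset.sum_congr rfl
  intro y _
  have h2 : ∀ l : LinF hmax.of.pair, (l.1 z : ℂ)⁻¹ * ((l.1 y : ℂ) *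
      ((rk p (C (y : G)) (fy hmax.of.pair y) : ℂ) / (Nat.card (cl p P e y) : ℂ))) =
      (l.1 (z⁻¹ * y) : ℂ) * ((rk p (C (y : G)) (fy hmax.of.pair y) : ℂ) / (Nat.card (cl p P e y) : ℂ)) := by
    intro l
    rw [map_mul, map_inv, Units.val_mul, Units.val_inv_eq_inv_val, mul_assoc]
  rw [Finset.sum_congr rfl (fun l _ => h2 l), ← Finset.sum_mul, sum_LinF, ← card_LinF]
  split_ifs <;> simp

end H84.Wat
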