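import Cfsg.Agent.Lib.H84.FL8
import Cfsg.Agent.Lib.H84.Wat2
import Cfsg.Agent.Lib.H80.BR11
import Cfsg.Agent.Lib.H80.CY
import Cfsg.Agent.S4689

/-!
# Numbers of characters; blocks with cyclic defect group
-/

set_option autoImplicit false
set_option linter.unusedSectionVars false
set_option linter.unusedVariables false

namespace H84.FL

open Cfsg H20.Loc H20.GA H80.GA H80.GB H80.GC H80.GD H80.GE H80.GF H80.GG H80.GH H80.GJ H80.FS H84.RG H18.CharBasic H18.CharOrtho H84.TrR
open H20.Blk H20.Orth H20.Ind H20.Height H20.Defect H80.BR1 H80.BR2 H19.Second H19.Second3 H81.Section H81.Contrib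
open H84.Star H84.Wat H80.BR7
open scoped ComplexConjugate

universe u v

attribute [local instance 2000] Fintype.ofFinite

variable {M : Ideal AlgInt} [M.IsMaximal] {G : Type u} [Group G] [Finite G] {p : ℕ}

theorem bl_top (B : Set (IrrCharacter G)) :
    bl M (⊤ : Subgroup G) (trI (Subgroup.topEquiv (G := G)).symm '' B) = ebar M B := by
  unfold bl
  rw [ebar_trI, inc_comp (Subgroup.topEquiv (G := G)).symm.injective (⊤ : Subgroup G).subtype_injective]
  apply H80.GA.ext'
  intro g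
  have hinj : Function.Injective ((⊤ : Subgroup G).subtype.comp (Subgroup.topEquiv (G := G)).symm.toMonoidHom) :=
    (⊤ : Subgroup G).subtype_injective.comp (Subgroup.topEquiv (G := G)).symm.injective
  exact coeff_inc hinj (ebar M B) g

theorem rk_top {B : Set (IrrCharacter G)} (hB : IsPBlock M B) : rk p ⊤ (ebar M B) = blockRank p B := by
  rw [← bl_top, rk_bl (isPBlock_trI _ hB), blockRank_trI]

variable [Fact p.Prime] [CharP (ResF M) p] [Algebra (ZMod p) (ResF M)] [Algebra.IsAlgebraic (ZMod p) (ResF M)]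
variable {B : Set (IrrCharacter G)} {P : Subgroup G} {e : MonoidAlgebra (ResF M) G}

theorem card_WT (hCT : Subgroup.centralizer (P : Set G) ≤ ST ⊤ P e) :
    Nat.card (WT P e) = (Subgroup.centralizer (P : Set G)).relIndex (ST ⊤ P e) := by
  have h1 : (stHom ⊤ P e).ker = (Subgroup.centralizer (P : Set G)).subgroupOf (ST ⊤ P e) := by
    ext t
    rw [MonoidHom.mem_ker, Subgroup.mem_subgroupOf, Subgroup.mem_centralizer_iff]
    constructor
    · intro h x hx
      have h2 := congrArg (fun w : MulAut P => ((w ⟨x, hx⟩ : P) : G)) h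
      have h3 : (t : G) * x * (t : G)⁻¹ = x := h2
      calc x * (t : G) = (t : G) * x * (t : G)⁻¹ * t := by rw [h3]
        _ = t * x := by group
    · intro h
      ext x
      show (t : G) * x * (t : G)⁻¹ = x
      rw [← h x x.2]; group
  rw [Subgroup.relIndex, ← h1, Subgroup.index_ker]

theorem cl_one {b : MonoidAlgebra (ResF M) G} (hmax : IsMax p ⊤ b P e) (hab : ∀ x ∈ P, ∀ y ∈ P, x * y = y * x) :
    Nat.card (cl p P e 1) = 1 := by
  rw [Nat.card_eq_one_iff_unique]
  refine ⟨⟨fun a b => ?_⟩, ⟨⟨1, (cl_iff hmax hab 1 1).2 ⟨1, one_mem _, rfl⟩⟩⟩⟩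
  obtain ⟨w, hw, h1⟩ := (cl_iff hmax hab 1 a).1 a.2
  obtain ⟨v, hv, h2⟩ := (cl_iff hmax hab 1 b).1 b.2
  apply Subtype.ext
  rw [← h1, ← h2, map_one, map_one]

theorem cl_ne_one {b : MonoidAlgebra (ResF M) G} (hmax : IsMax p ⊤ b P e) (hab : ∀ x ∈ P, ∀ y ∈ P, x * y = y * x)
    (hfree : ∀ g ∈ ST ⊤ P e, ∀ x ∈ P, x ≠ 1 → g * x * g⁻¹ = x → g ∈ Subgroup.centralizer (P : Set G))
    {x : P} (hx : x ≠ 1) :
    Nat.card (cl p P e x) = Nat.card (WT P e) := by
  symm
  refine Nat.card_congr (Equiv.ofBijective (fun w : WT P e => (⟨(w : MulAut P) x,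
    (cl_iff hmax hab x _).2 ⟨w, w.2, rfl⟩⟩ : cl p P e x)) ⟨fun w v h => ?_, fun y => ?_⟩)
  · have h1 : (w : MulAut P) x = (v : MulAut P) x := congrArg Subtype.val h
    apply Subtype.ext
    by_contra hne
    apply hx
    refine WT_free hfree ((w : MulAut P)⁻¹ * (v : MulAut P)) (mul_mem (inv_mem w.2) v.2) ?_ x ?_
    · intro h2
      exact hne (inv_mul_eq_one.1 h2)
    · rw [MulAut.mul_apply, ← h1]
      exact MulAut.inv_apply_self _ _ _
  · obtain ⟨w, hw, h⟩ := (cl_iff hmax hab x y).1 y.2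
    exact ⟨⟨w, hw⟩, Subtype.ext h⟩

/-- counting characters -/
theorem card_eq [IsAlgClosed (ResF M)] (hM : IsPModular p M) (hmax : IsMax p ⊤ (ebar M B) P e) (hB : IsPBlock M B)
    (hab : ∀ x ∈ P, ∀ y ∈ P, x * y = y * x)
    (hfree : ∀ g ∈ ST ⊤ P e, ∀ x ∈ P, x ≠ 1 → g * x * g⁻¹ = x → g ∈ Subgroup.centralizer (P : Set G))
    {n : ℕ} (hn : n * Nat.card (WT P e) + 1 = Nat.card P) :
    Nat.card B = blockRank p B + n := by
  classical
  have h1 := sum_l hM hmax hB hab 1
  rw [if_pos rfl] at h1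
  have hone : (((1 : LinF hmax.of.pair) : P →* ℂˣ)) = 1 := rfl
  have hW0 : (Nat.card (WT P e) : ℂ) ≠ 0 := by exact_mod_cast (Nat.card_pos (α := WT P e)).ne'
  have h2 : ∀ y : P, (((1 : LinF hmax.of.pair) : P →* ℂˣ) y : ℂ) *
      ((rk p (C (y : G)) (fy hmax.of.pair y) : ℂ) / (Nat.card (cl p P e y) : ℂ)) =
      (if y = 1 then (blockRank p B : ℂ) - (Nat.card (WT P e) : ℂ)⁻¹ else 0) + (Nat.card (WT P e) : ℂ)⁻¹ := by
    intro y
    have h3 : ((((1 : LinF hmax.of.pair) : P →* ℂˣ) y : ℂˣ) : ℂ) = 1 := by rw [hone]; rfl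
    rw [h3, one_mul]
    by_cases hy : y = 1
    · subst hy
      rw [if_pos rfl, cl_one hmax hab]
      have h4 : C ((1 : P) : G) = ⊤ := by
        rw [eq_top_iff]; intro g _
        rw [Subgroup.mem_centralizer_singleton_iff]; simp
      have h5 : fy hmax.of.pair 1 = ebar M B := by
        have h6 := fy_spec hmax.of.pair 1
        have h7 := (pairOf_of_sle hmax.of.pair h6).1 hmax.of
        have h8 : Subgroup.zpowers ((1 : P) : G) = ⊥ := by simp
        rw [h8] at h7
        have h9 := h7.pair.blk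
        rw [CH_bot] at h9
        have h10 := h7.br
        rw [br_bot] at h10
        exact (blk_eq_of_mul_ne (isBlk_ebar hB) h9 (by rw [h10]; exact h9.ne)).symm
      rw [h4, h5, rk_top hB]
      push_cast
      ring
    · rw [if_neg hy, cl_ne_one hmax hab hfree hy]
      obtain ⟨S, hS⟩ := (blEquiv M (y : G)).surjective ⟨fy hmax.of.pair y, ((fy_spec hmax.of.pair y).pair_left hmax.of.pair).blk⟩
      have hS' : bl M (C (y : G)) S.1 = fy hmax.of.pair y := congrArg Subtype.val hS
      have hyP : Subgroup.zpowers (y : G) ≤ P := by rw [Subgroup.zpowers_le]; exact y.2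
      have hy1 : Subgroup.zpowers (y : G) ≠ ⊥ := by
        rw [Ne, Subgroup.zpowers_eq_bot]; intro h; exact hy (Subtype.ext h)
      have hnil := H80.CD1.nilp_sub hmax hab hyP hy1 hfree (fy_spec hmax.of.pair y)
      rw [CH_eq, ← hS', ← H80.FS4.nilp_iff_sub S.2] at hnil
      have h11 := (Cfsg.Agent.S4689.result p M hM S.1 hnil).1
      rw [← hS', rk_bl S.2, h11]
      push_cast
      rw [zero_add, one_div]
  rw [Finset.sum_congr rfl fun y _ => h2 y, Finset.sum_add_distrib, Finset.sum_ite_eq', if_pos (Finset.mem_univ _),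
    Finset.sum_const, nsmul_eq_mul, Finset.card_univ, ← Nat.card_eq_fintype_card, ← hn] at h1
  have h3 : (Nat.card B : ℂ) = ((blockRank p B + n : ℕ) : ℂ) := by
    rw [← h1]
    push_cast
    field_simp
    ring
  exact_mod_cast h3

end H84.FL
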