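import Cfsg.Agent.Lib.H84.FL13
import Cfsg.Agent.Lib.H20.BrT6

/-!
# Gluing local systems: lattices and `p`-regular parts
-/

set_option autoImplicit false
set_option linter.unusedSectionVars false
set_option linter.unusedVariables false

namespace H84.GL

open Cfsg H20.Loc H20.GA H80.GA H80.GB H80.GC H80.GD H80.GE H80.GF H80.GG H80.GH H80.GJ H80.FS H84.RG H18.CharBasic H18.CharOrtho H84.TrR
open H20.Blk H20.Orth H20.Ind H20.Height H20.Defect H80.BR1 H80.BR2 H19.Second H19.Second3 H81.Section H81.Contrib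
open H84.Star H84.Wat H80.BR7 H84.FR H84.FL H20.BrT
open scoped ComplexConjugate

universe u v

attribute [local instance 2000] Fintype.ofFinite

section lattice
variable {L : Type v} [Lattice L] [BoundedOrder L] [Finite L]

open Classical in
theorem exists_mu (L : Type v) [Lattice L] [BoundedOrder L] [Finite L] : ∃ μ : L → ℤ, μ ⊥ = 1 ∧
    ∀ U : L, U ≠ ⊥ → ∑ V ∈ Finset.univ.filter (· ≤ U), μ V = 0 := by
  have hwf : WellFounded (fun a b : L => a < b) := wellFounded_lt
  let F : ∀ U : L, (∀ V : L, V < U → ℤ) → ℤ := fun U rec =>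
    if U = ⊥ then 1 else - ∑ V : {V : L // V < U}, rec V.1 V.2
  let μ : L → ℤ := hwf.fix F
  have hμ : ∀ U, μ U = if U = ⊥ then 1 else - ∑ V : {V : L // V < U}, μ V.1 := fun U => hwf.fix_eq F U
  refine ⟨μ, by rw [hμ, if_pos rfl], fun U hU => ?_⟩
  have h1 := hμ U
  rw [if_neg hU] at h1
  have h2 : Finset.univ.filter (fun V : L => V ≤ U) = insert U (Finset.univ.filter (fun V : L => V < U)) := by
    ext V
    simp only [Finset.mem_filter, Finset.mem_univ, true_and, Finset.mem_insert]
    constructor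
    · intro h; exact h.eq_or_lt
    · rintro (h | h)
      · exact h.le
      · exact h.le
  rw [h2, Finset.sum_insert (by simp), h1]
  have h3 : ∑ V : {V : L // V < U}, μ V.1 = ∑ V ∈ Finset.univ.filter (fun V : L => V < U), μ V :=
    (Finset.sum_subtype _ (fun V => by simp) _).symm
  rw [h3]
  ring

open Classical in
/-- Weisner's theorem -/
theorem exists_weisner (L : Type v) [Lattice L] [BoundedOrder L] [Finite L] : ∃ μ : L → ℤ, μ ⊥ = 1 ∧
    ∀ X : L, X ≠ ⊥ → ∀ h : L → ℂ, ∑ V : L, (μ V : ℂ) * h (V ⊔ X) = 0 := by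
  obtain ⟨μ, h1, hμ⟩ := exists_mu L
  refine ⟨μ, h1, fun X hX h => ?_⟩
  have key : ∀ U : L, ∑ V ∈ Finset.univ.filter (fun V : L => V ⊔ X = U), μ V = 0 := by
    intro U
    induction U using WellFoundedLT.induction with
    | ind U ih =>
    by_cases hXU : X ≤ U
    · have hU : U ≠ ⊥ := by
        intro h0; rw [h0] at hXU; exact hX (le_bot_iff.1 hXU)
      have h2 := hμ U hU
      have h3 : ∑ V ∈ Finset.univ.filter (· ≤ U), μ V =
          ∑ U' ∈ Finset.univ.filter (fun U' : L => U' ≤ U), ∑ V ∈ Finset.univ.filter (fun V : L => V ⊔ X = U'), μ V := by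
        have h4 : ∀ V ∈ Finset.univ.filter (· ≤ U), V ⊔ X ∈ Finset.univ.filter (fun U' : L => U' ≤ U) := by
          intro V hV
          rw [Finset.mem_filter] at hV ⊢
          exact ⟨Finset.mem_univ _, sup_le hV.2 hXU⟩
        rw [← Finset.sum_fiberwise_of_maps_to h4]
        refine Finset.sum_congr rfl fun U' hU' => ?_
        congr 1
        ext V
        simp only [Finset.mem_filter, Finset.mem_univ, true_and] at hU' ⊢
        constructor
        · exact fun h => h.2
        · intro h; exact ⟨le_sup_left.trans (h.le.trans hU'), h⟩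
      rw [h3] at h2
      have h5 : Finset.univ.filter (fun V : L => V ≤ U) = insert U (Finset.univ.filter (fun V : L => V < U)) := by
        ext V
        simp only [Finset.mem_filter, Finset.mem_univ, true_and, Finset.mem_insert]
        constructor
        · intro h; exact h.eq_or_lt
        · rintro (h | h)
          · exact h.le
          · exact h.le
      rw [h5, Finset.sum_insert (by simp), Finset.sum_eq_zero (s := Finset.univ.filter (fun V : L => V < U)), add_zero] at h2
      · exact h2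
      · intro U' hU'
        exact ih U' (Finset.mem_filter.1 hU').2
    · rw [Finset.filter_false_of_mem, Finset.sum_empty]
      intro V _ h
      exact hXU (h ▸ le_sup_right)
  rw [← Finset.sum_fiberwise (s := Finset.univ) (g := fun V : L => V ⊔ X)]
  refine Finset.sum_eq_zero fun U _ => ?_
  have h2 : ∑ V ∈ Finset.univ.filter (fun V : L => V ⊔ X = U), (μ V : ℂ) * h (V ⊔ X) =
      ∑ V ∈ Finset.univ.filter (fun V : L => V ⊔ X = U), (μ V : ℂ) * h U := by
    refine Finset.sum_congr rfl fun V hV => ?_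
    rw [(Finset.mem_filter.1 hV).2]
  rw [h2, ← Finset.sum_mul]
  have h3 := key U
  have h4 : ((∑ V ∈ Finset.univ.filter (fun V : L => V ⊔ X = U), μ V : ℤ) : ℂ) = 0 := by rw [h3]; simp
  push_cast at h4
  rw [h4, zero_mul]

end lattice

section pr

variable {G : Type u} [Group G] [Finite G] {p : ℕ}

theorem pr_mul (hp : p.Prime) {x d : G} (hx : ∃ k : ℕ, orderOf x = p ^ k) (h : Commute x d) :
    pr p (x * d) = pr p d := by
  obtain ⟨h1, h2, h3, h4⟩ := pr_spec hp d
  -- `x` commutes with the parts of `d`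
  have hxd : Commute x (pPt p d) ∧ Commute x (pr p d) := by
    have e1 : IsPPart p d (pPt p d) := ⟨pr p d, h1, h2, h3, h4⟩
    have e2 : x * pPt p d = pPt p d * x := by
      refine H80.SU6.comm_of_part hp (y := pr p d) (z := d) (by rw [h1]; exact e1) e1 ?_
      rw [h1, h.eq, mul_inv_cancel_right]
    refine ⟨e2, ?_⟩
    have e3 : pr p d = (pPt p d)⁻¹ * d := rfl
    rw [e3]
    exact (Commute.inv_right e2).mul_right h
  apply pr_eq hp (x := x * pPt p d) (y := pr p d)
  · rw [mul_assoc, h1]
  · exact Commute.mul_left hxd.2 h2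
  · obtain ⟨k, hk⟩ := hx
    obtain ⟨l, hl⟩ := h3
    have h5 := hxd.1.orderOf_mul_dvd_lcm
    rw [hk, hl] at h5
    have h6 : Nat.lcm (p ^ k) (p ^ l) ∣ p ^ (k + l) :=
      Nat.lcm_dvd (pow_dvd_pow p (Nat.le_add_right k l)) (pow_dvd_pow p (Nat.le_add_left l k))
    obtain ⟨m, -, hm⟩ := (Nat.dvd_prime_pow hp).1 (h5.trans h6)
    exact ⟨m, hm⟩
  · exact h4

/-- **Brauer**: a generalized character composed with the `p`-regular part -/
theorem isGen_pr (hp' : p.Prime) {χ : G → ℂ} (hχ : IsGeneralizedCharacter G χ) :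
    IsGeneralizedCharacter G (fun g => χ (pr p g)) := by
  classical
  have hp : Fact p.Prime := ⟨hp'⟩
  have hχc : IsClassFunction G χ := (isGen_iff.1 hχ).1
  have hcl : IsClassFunction G (fun g => χ (pr p g)) := by
    intro g h
    show χ (pr p (h * g * h⁻¹)) = _
    rw [pr_conj hp', hχc]
  apply isGen_of_linear hcl
  intro E iE q hq hE lam
  have hiE : iE = Fintype.ofFinite E := Subsingleton.elim _ _
  subst hiE
  obtain ⟨Q, T, hQE, hTE, hQ, hT, hc, hbij⟩ := exists_QT (p := p) hq hE
  set lamQ : Q →* ℂˣ := lam.comp (Subgroup.inclusion hQE) with hlQ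
  set lamT : T →* ℂˣ := lam.comp (Subgroup.inclusion hTE) with hlT
  obtain ⟨n, hn⟩ := inner_gen_intCast (G := Q) (isGen_of_isIrr (isIrrCharacter_of_hom (1 : Q →* ℂˣ)))
    (isGen_of_isIrr (isIrrCharacter_of_hom lamQ))
  obtain ⟨m, hm⟩ := inner_gen_intCast (G := T) (H18.CharOrtho.isGen_restrict T hχ)
    (isGen_of_isIrr (isIrrCharacter_of_hom lamT))
  refine ⟨n * m, ?_⟩
  push_cast
  rw [← hn, ← hm]
  have hcard : Nat.card E = Nat.card Q * Nat.card T := by
    rw [← Nat.card_prod]
    exact (Nat.card_congr (Equiv.ofBijective _ hbij)).symm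
  have hs : ∀ F : E → ℂ, ∑ z : E, F z = ∑ x : Q, ∑ y : T, F (Equiv.ofBijective _ hbij (x, y)) := by
    intro F
    rw [← (Equiv.ofBijective _ hbij).sum_comp]
    have h5 := Fintype.sum_prod_type (fun z : Q × T => F (Equiv.ofBijective _ hbij z))
    rw [← h5]
    exact Finset.sum_congr (by ext; simp) (fun _ _ => rfl)
  unfold classInner
  rw [hs, hcard, Nat.cast_mul, mul_inv]
  have key : ∀ (x : Q) (y : T), χ (pr p ((Equiv.ofBijective _ hbij (x, y) : E) : G)) *
      conj ((lam (Equiv.ofBijective _ hbij (x, y)) : ℂˣ) : ℂ) =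
      (((1 : Q →* ℂˣ) x : ℂ) * conj ((lamQ x : ℂˣ) : ℂ)) * (χ y * conj ((lamT y : ℂˣ) : ℂ)) := by
    intro x y
    have h1 : lam (Equiv.ofBijective _ hbij (x, y)) = lamQ x * lamT y := by
      rw [hlQ, hlT, MonoidHom.comp_apply, MonoidHom.comp_apply, ← map_mul]
      rfl
    have h2 : pr p ((Equiv.ofBijective _ hbij (x, y) : E) : G) = y := by
      obtain ⟨y', e1, e2, e3, e4⟩ := isPPart_mul hQ hp' hT hc x.2 y.2
      have e5 : y' = y := mul_left_cancel e1
      subst e5
      exact pr_eq hp' e1 e2 e3 e4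
    rw [h1, h2, Units.val_mul, map_mul, MonoidHom.one_apply, Units.val_one]
    ring
  simp_rw [key]
  rw [← Finset.sum_mul_sum]
  ring

end pr

end H84.GL
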