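import Cfsg.Agent.Lib.H84.GL1

/-!
# Gluing local systems: the blocks of the centralizers of subgroups of the defect group
-/

set_option autoImplicit false
set_option linter.unusedSectionVars false
set_option linter.unusedVariables false

namespace H84.GL

open Cfsg H20.Loc H20.GA H80.GA H80.GB H80.GC H80.GD H80.GE H80.GF H80.GG H80.GH H80.GJ H80.FS H84.RG H18.CharBasic H18.CharOrtho H84.TrR
open H20.Blk H20.Orth H20.Ind H20.Height H20.Defect H80.BR1 H80.BR2 H19.Second H19.Second3 H81.Section H81.Contrib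
open H84.Star H84.Wat H80.BR7 H84.FR H84.FL H20.BrT
open scoped ComplexConjugate

universe u v

attribute [local instance 2000] Fintype.ofFinite

section cent
variable {G : Type u} [Group G] [Finite G] {P : Subgroup G}

/-- centralizer of a subgroup of `P` -/
def KK (V : Subgroup P) : Subgroup G := Subgroup.centralizer ((V.map P.subtype : Subgroup G) : Set G)

theorem mem_KK {V : Subgroup P} {g : G} : g ∈ KK V ↔ V ≤ (C g).comap P.subtype := by
  unfold KK
  rw [Subgroup.mem_centralizer_iff]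
  constructor
  · intro h v hv
    rw [Subgroup.mem_comap, Subgroup.mem_centralizer_singleton_iff]
    exact h (v : G) ⟨v, hv, rfl⟩
  · rintro h _ ⟨v, hv, rfl⟩
    have h1 := h hv
    rw [Subgroup.mem_comap, Subgroup.mem_centralizer_singleton_iff] at h1
    exact h1

theorem le_KK (hab : ∀ x ∈ P, ∀ y ∈ P, x * y = y * x) (V : Subgroup P) : P ≤ KK V := by
  intro x hx
  rw [mem_KK]
  intro v hv
  rw [Subgroup.mem_comap, Subgroup.mem_centralizer_singleton_iff]
  exact hab _ v.2 _ hx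

theorem comm_KK {V : Subgroup P} {v : P} (hv : v ∈ V) {g : G} (hg : g ∈ KK V) : (v : G) * g = g * v := by
  have h1 := (mem_KK.1 hg) hv
  rw [Subgroup.mem_comap, Subgroup.mem_centralizer_singleton_iff] at h1
  exact h1

theorem KK_anti {V W : Subgroup P} (h : V ≤ W) : KK W ≤ KK V := fun g hg =>
  mem_KK.2 (h.trans (mem_KK.1 hg))

theorem KK_sup (hab : ∀ x ∈ P, ∀ y ∈ P, x * y = y * x) (V : Subgroup P) (x : P) :
    KK (V ⊔ Subgroup.zpowers x) = (C (iot (le_KK hab V) x : KK V)).map (KK V).subtype := by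
  rw [H84.KR.map_C]
  ext g
  have h1 : g ∈ C (((iot (le_KK hab V) x : P.subgroupOf (KK V)) : KK V) : G) ↔
      Subgroup.zpowers x ≤ (C g).comap P.subtype := by
    rw [Subgroup.zpowers_le, Subgroup.mem_comap, Subgroup.mem_centralizer_singleton_iff,
      Subgroup.mem_centralizer_singleton_iff]
    exact eq_comm
  rw [Subgroup.mem_inf, h1, mem_KK, mem_KK, sup_le_iff]

theorem KK_of_mem (hab : ∀ x ∈ P, ∀ y ∈ P, x * y = y * x) {V : Subgroup P} {x : P} (hx : x ∈ V) :
    KK V = (C (iot (le_KK hab V) x : KK V)).map (KK V).subtype := by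
  rw [← KK_sup hab V x]
  congr 1
  exact (sup_eq_left.2 (Subgroup.zpowers_le.2 hx)).symm

theorem KK_zpowers (x : P) : KK (Subgroup.zpowers x) = C (x : G) := by
  ext g
  rw [mem_KK, Subgroup.zpowers_le, Subgroup.mem_comap, Subgroup.mem_centralizer_singleton_iff,
      Subgroup.mem_centralizer_singleton_iff]
  exact eq_comm

end cent

variable {M : Ideal AlgInt} [M.IsMaximal] {G : Type u} [Group G] [Finite G] {p : ℕ}
variable [Fact p.Prime] [CharP (ResF M) p] [Algebra (ZMod p) (ResF M)] [Algebra.IsAlgebraic (ZMod p) (ResF M)]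
variable {B : Set (IrrCharacter G)} {P : Subgroup G} {e : MonoidAlgebra (ResF M) G}

/-- the block of the centralizer of `V ≤ P` below `(P, e)`, with a character of height zero -/
structure Nb (p : ℕ) (e : MonoidAlgebra (ResF M) G) (V : Subgroup P) where
  /-- the block -/
  T : Set (IrrCharacter (KK V))
  hT : IsPBlock M T
  sle : SLE p ⊤ (V.map P.subtype) (bl M (KK V) T) P e
  pair : PairOf p (KK V) (bl M (KK V) T) P e
  /-- the idempotent -/
  e' : MonoidAlgebra (ResF M) (KK V)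
  he' : inc (ResF M) (KK V).subtype e' = e
  hmax : IsMax p ⊤ (ebar M T) (P.subgroupOf (KK V)) e'
  hnil : H80.FS3.Nilp p ⊤ (ebar M T)
  /-- a character of height zero -/
  ψ : IrrCharacter (KK V)
  hψ : ψ ∈ T
  h0 : blockHeight p T (ψ : KK V → ℂ) = 0

theorem exists_nb [IsAlgClosed (ResF M)] (hM : IsPModular p M) {b : MonoidAlgebra (ResF M) G} (hmax : IsMax p ⊤ b P e)
    (hab : ∀ x ∈ P, ∀ y ∈ P, x * y = y * x)
    (hfree : ∀ g ∈ ST ⊤ P e, ∀ x ∈ P, x ≠ 1 → g * x * g⁻¹ = x → g ∈ Subgroup.centralizer (P : Set G))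
    {V : Subgroup P} (hV : V ≠ ⊥) : Nonempty (Nb p e V) := by
  have hpair := hmax.of.pair
  have hVP : V.map P.subtype ≤ P := Subgroup.map_subtype_le V
  have hV1 : V.map P.subtype ≠ ⊥ := by
    intro h
    exact hV ((Subgroup.map_eq_bot_iff_of_injective _ P.subtype_injective).1 h)
  obtain ⟨f, hf, -⟩ := exists_unique_sle hpair hVP
  have hfb : IsBlk (KK V) f := by
    have h1 := (SLE.pair_left hpair hf).blk
    rwa [CH_top] at h1
  obtain ⟨T, hT, rfl⟩ := exists_bl hfb
  have hnil := H80.CD1.nilp_sub hmax hab hVP hV1 hfree hf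
  have hmz := ab_max hmax hab hf
  have hCK : CH ⊤ (V.map P.subtype) = KK V := CH_top _
  rw [hCK] at hnil hmz
  obtain ⟨e', he', hmax', hP'⟩ := sub_setup hmz
  have hnil' : H80.FS3.Nilp p ⊤ (ebar M T) := by
    rw [← H80.FS4.nilp_iff_top hT, H80.FS4.nilp_iff_sub hT]; exact hnil
  obtain ⟨ψ0, h0, hh0⟩ := exists_height_zero hM hT
  exact ⟨⟨T, hT, hf, hmz.of, e', he', hmax', hnil', ψ0, h0, hh0⟩⟩

namespace Nb

variable {V : Subgroup P} [IsAlgClosed (ResF M)] (hM : IsPModular p M) (hab : ∀ x ∈ P, ∀ y ∈ P, x * y = y * x)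

/-- the transform -/
noncomputable def tfun (N : Nb p e V) (F : G → ℂ) (x : P) : ℂ :=
  tf hM N.hmax N.hT N.hnil N.hψ N.h0 (fun k : KK V => F k) (iot (le_KK hab V) x)

/-- the irreducible Brauer character -/
noncomputable def phi (N : Nb p e V) : KK V → ℂ := pc p (KK V) N.T 1 (ez (KK V) (N.ψ : KK V → ℂ))

/-- the coefficients -/
noncomputable def D (N : Nb p e V) (x : G) (F : G → ℂ) : ℂ :=
  (Nat.card P : ℂ) * classInner (pc p (KK V) N.T x F) N.phi

theorem ez_class {K : Subgroup G} (ψ : IrrCharacter K) : IsClassFunction K (fun k : K => ez K (ψ : K → ℂ) k) := by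
  have h4 : (fun k : K => ez K (ψ : K → ℂ) k) = ψ := funext fun k => ez_coe _ k
  rw [h4]; exact isClassFunction_of_isIrr ψ.2

include hM hab in
theorem norm_phi (N : Nb p e V) : classInner N.phi N.phi = (Nat.card P : ℂ)⁻¹ := by
  have h := (main_tf hM hab N.hT (le_KK hab V) N.he' N.hmax N.hnil N.hψ N.h0 1
    (KK_of_mem hab (one_mem V)) N.hT N.pair).2.1
  exact h

include hM hab in
theorem phi_ne (N : Nb p e V) : N.phi ≠ 0 := by
  intro h
  have h1 := N.norm_phi hM hab
  rw [h, H18.CharOrtho.inner_zero_left] at h1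
  have h2 : (Nat.card P : ℂ) ≠ 0 := by exact_mod_cast (Nat.card_pos (α := P)).ne'
  exact inv_ne_zero h2 h1.symm

include hM hab in
theorem int_phi (N : Nb p e V) (c : KK V) : MemLocalRing M (N.phi c) ∧
    MemLocalRing M ((Nat.card P : ℂ) * N.phi c / (Nat.card (Subgroup.centralizer ({c} : Set (KK V))) : ℂ)) :=
  (main_tf hM hab N.hT (le_KK hab V) N.he' N.hmax N.hnil N.hψ N.h0 1
    (KK_of_mem hab (one_mem V)) N.hT N.pair).2.2 c

theorem pc_one {K : Subgroup G} (T : Set (IrrCharacter K)) {ψ : IrrCharacter K} (hψ : ψ ∈ T) :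
    pc p K T 1 (ez K (ψ : K → ℂ)) = reg p (ψ : K → ℂ) := by
  have h1 : (fun d : K => ez K (ψ : K → ℂ) (1 * d)) = ψ := by
    funext d
    rw [one_mul, ez_coe]
  rw [pc, h1, proj_irr T ψ hψ]

theorem phi_eq (N : Nb p e V) : N.phi = reg p (N.ψ : KK V → ℂ) := pc_one N.T N.hψ

include hM hab in
/-- the values at `x ∈ V` of the chosen character -/
theorem exists_omega (N : Nb p e V) {x : P} (hx : x ∈ V) : ∃ ω : ℂ, ω ^ orderOf x = 1 ∧
    pc p (KK V) N.T (x : G) (ez (KK V) (N.ψ : KK V → ℂ)) = ω • N.phi := by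
  have hxK : (x : G) ∈ KK V := le_KK hab V x.2
  have hz : (⟨x, hxK⟩ : KK V) ∈ Subgroup.center (KK V) := by
    rw [Subgroup.mem_center_iff]
    intro g
    exact Subtype.ext (comm_KK hx g.2).symm
  obtain ⟨ω, hω0, hω, hωn⟩ := H81.CentralVal.exists_central N.ψ.2 hz
  refine ⟨ω, hωn _ ?_, ?_⟩
  · apply Subtype.ext
    show (x : G) ^ orderOf x = 1
    rw [← Subgroup.coe_pow, pow_orderOf_eq_one, Subgroup.coe_one]
  · have h1 : (fun d : KK V => ez (KK V) (N.ψ : KK V → ℂ) ((x : G) * d)) = ω • (N.ψ : KK V → ℂ) := by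
      funext d
      have h2 := ez_coe (N.ψ : KK V → ℂ) ((⟨x, hxK⟩ : KK V) * d)
      rw [hω] at h2
      exact h2
    rw [pc, h1, proj_smul, reg_smul, proj_irr N.T N.ψ N.hψ, phi_eq]

include hM hab in
theorem D_of_eq (N : Nb p e V) {x : G} {F : G → ℂ} {a : ℂ} (h : pc p (KK V) N.T x F = a • N.phi) : N.D x F = a := by
  have h2 : (Nat.card P : ℂ) ≠ 0 := by exact_mod_cast (Nat.card_pos (α := P)).ne'
  rw [D, h, H18.CharOrtho.inner_smul_left, N.norm_phi hM hab]
  field_simp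

include hM hab in
theorem exists_D (N : Nb p e V) {x : P} (hx : x ∈ V) : ∃ ω : ℂ, ω ^ orderOf x = 1 ∧
    ∀ F : G → ℂ, IsClassFunction (KK V) (fun k : KK V => F k) →
      N.D x F = N.tfun hM hab F x * ω ∧ pc p (KK V) N.T (x : G) F = N.D x F • N.phi := by
  obtain ⟨ω, h1, h2⟩ := N.exists_omega hM hab hx
  refine ⟨ω, h1, fun F hF => ?_⟩
  have h := (main_tf hM hab N.hT (le_KK hab V) N.he' N.hmax N.hnil N.hψ N.h0 x
    (KK_of_mem hab hx) N.hT N.pair).1 F hF
  rw [h2, smul_smul] at h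
  have h3 := N.D_of_eq hM hab h
  have h4 : N.D x F = N.tfun hM hab F x * ω := h3
  refine ⟨h4, ?_⟩
  rw [h4]
  exact h

include hM hab in
theorem pc_eq (N : Nb p e V) {x : P} (hx : x ∈ V) {F : G → ℂ} (hF : IsClassFunction (KK V) (fun k : KK V => F k)) :
    pc p (KK V) N.T (x : G) F = N.D x F • N.phi := by
  obtain ⟨ω, -, h⟩ := N.exists_D hM hab hx
  exact (h F hF).2

theorem tfun_gen (N : Nb p e V) {F : G → ℂ} (hF : IsGeneralizedCharacter (KK V) (fun k : KK V => F k)) :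
    IsGeneralizedCharacter P (N.tfun hM hab F) :=
  isGen_comp (iotH (le_KK hab V)) (tf_gen hM N.hmax N.hT N.hnil N.hψ N.h0 hF)

theorem D_one (N : Nb p e V) {F : G → ℂ} (hF : IsClassFunction (KK V) (fun k : KK V => F k)) :
    N.D 1 F = N.tfun hM hab F 1 := by
  obtain ⟨ω, h1, h⟩ := N.exists_D hM hab (one_mem V)
  rw [orderOf_one, pow_one] at h1
  have h2 := (h F hF).1
  rw [h1, mul_one] at h2
  exact h2

/-- comparison of the centralizers of `V` and of `V ⊔ ⟨x⟩` -/
theorem D_sup (N : Nb p e V) {x : P} (N' : Nb p e (V ⊔ Subgroup.zpowers x)) {F : G → ℂ}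
    (hF : IsClassFunction (KK V) (fun k : KK V => F k)) :
    N'.D x F = N.tfun hM hab F x * N'.D x (ez (KK V) (N.ψ : KK V → ℂ)) := by
  have h := (main_tf hM hab N.hT (le_KK hab V) N.he' N.hmax N.hnil N.hψ N.h0 x
    (KK_sup hab V x) N'.hT N'.pair).1 F hF
  rw [D, D, h, H18.CharOrtho.inner_smul_left]
  have h2 : tf hM N.hmax N.hT N.hnil N.hψ N.h0 (fun k : KK V => F k) (iot (le_KK hab V) x) = N.tfun hM hab F x := rfl
  rw [h2]
  ring

include hM hab in
theorem v_spec (N : Nb p e V) {x : P} (N' : Nb p e (V ⊔ Subgroup.zpowers x)) :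
    IsIntegral ℤ (N'.D x (ez (KK V) (N.ψ : KK V → ℂ))) ∧
    N'.D x (ez (KK V) (N.ψ : KK V → ℂ)) * conj (N'.D x (ez (KK V) (N.ψ : KK V → ℂ))) = 1 := by
  set F := ez (KK V) (N.ψ : KK V → ℂ) with hF
  have hle : KK (V ⊔ Subgroup.zpowers x) ≤ KK V := KK_anti le_sup_left
  have hFr : (fun k : KK (V ⊔ Subgroup.zpowers x) => F k) =
      fun k => (N.ψ : KK V → ℂ) (Subgroup.inclusion hle k) := by
    funext k
    exact ez_coe (N.ψ : KK V → ℂ) (Subgroup.inclusion hle k)
  have hgen : IsGeneralizedCharacter (KK (V ⊔ Subgroup.zpowers x)) (fun k : KK (V ⊔ Subgroup.zpowers x) => F k) := by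
    rw [hFr]
    exact isGen_comp (Subgroup.inclusion hle) (isGen_of_isIrr N.ψ.2)
  have hcl := (isGen_iff.1 hgen).1
  have hxV : x ∈ V ⊔ Subgroup.zpowers x := (le_sup_right : Subgroup.zpowers x ≤ _) (Subgroup.mem_zpowers x)
  obtain ⟨ω, hω, h⟩ := N'.exists_D hM hab hxV
  obtain ⟨h1, h2⟩ := h F hcl
  constructor
  · rw [h1]
    refine IsIntegral.mul (gen_isIntegral (N'.tfun_gen hM hab hgen) x) ?_
    exact IsIntegral.of_pow (orderOf_pos x) (by rw [hω]; exact isIntegral_one)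
  · have h3 := (main_tf hM hab N.hT (le_KK hab V) N.he' N.hmax N.hnil N.hψ N.h0 x
      (KK_sup hab V x) N'.hT N'.pair).2.1
    rw [← hF, h2, H18.CharOrtho.inner_smul_left, H18.CharOrtho.inner_smul_right, N'.norm_phi hM hab] at h3
    have h4 : (Nat.card P : ℂ) ≠ 0 := by exact_mod_cast (Nat.card_pos (α := P)).ne'
    have h5 : N'.D x F * conj (N'.D x F) * (Nat.card P : ℂ)⁻¹ = 1 * (Nat.card P : ℂ)⁻¹ := by
      rw [one_mul, mul_assoc]; exact h3
    exact mul_right_cancel₀ (inv_ne_zero h4) h5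

end Nb

end H84.GL
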