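import Cfsg.Agent.Lib.H84.GL2
import Cfsg.Agent.Lib.H80.BR9

/-!
# Gluing local systems: the `p`-regular part of a character and conjugation
-/

set_option autoImplicit false
set_option linter.unusedSectionVars false
set_option linter.unusedVariables false

namespace H84.GL

open Cfsg H20.Loc H20.GA H80.GA H80.GB H80.GC H80.GD H80.GE H80.GF H80.GG H80.GH H80.GJ H80.FS H84.RG H18.CharBasic H18.CharOrtho H84.TrR
open H20.Blk H20.Orth H20.Ind H20.Height H20.Defect H80.BR1 H80.BR2 H19.Second H19.Second3 H81.Section H81.Contrib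
open H84.Star H84.Wat H80.BR7 H84.FR H84.FL H20.BrT
open scoped ComplexConjugate

universe u v

attribute [local instance 2000] Fintype.ofFinite

variable {M : Ideal AlgInt} [M.IsMaximal] {G : Type u} [Group G] [Finite G] {p : ℕ}
variable [Fact p.Prime] [CharP (ResF M) p] [Algebra (ZMod p) (ResF M)] [Algebra.IsAlgebraic (ZMod p) (ResF M)]
variable {B : Set (IrrCharacter G)} {P : Subgroup G} {e : MonoidAlgebra (ResF M) G}

namespace Nb

variable {V : Subgroup P} [IsAlgClosed (ResF M)] (hM : IsPModular p M) (hab : ∀ x ∈ P, ∀ y ∈ P, x * y = y * x)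

theorem res_class {F : G → ℂ} (hF : IsClassFunction G F) (K : Subgroup G) :
    IsClassFunction K (fun k : K => F k) := fun g h => hF (g : G) (h : G)

theorem D_pr (N : Nb p e V) {x : P} (hx : x ∈ V) (hxp : ∃ k : ℕ, orderOf (x : G) = p ^ k) (χ : G → ℂ) :
    N.D x (fun g => χ (pr p g)) = N.D 1 (fun g => χ (pr p g)) := by
  rw [D, D]
  congr 2
  rw [pc, pc]
  congr 2
  funext d
  rw [one_mul, pr_mul Fact.out hxp (comm_KK hx d.2)]

include hM hab in
/-- the coefficients of the `p`-regular part of a character of height zero are prime to `p` -/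
theorem not_dvd (N : Nb p e V) (hmax : IsMax p ⊤ (ebar M B) P e) (hB : IsPBlock M B)
    {χ : IrrCharacter G} (hχ : χ ∈ B) (h0 : blockHeight p B (χ : G → ℂ) = 0) {n : ℤ}
    (hn : N.D 1 (fun g => (χ : G → ℂ) (pr p g)) = n) : ¬ (p : ℤ) ∣ n := by
  intro hpn
  have hpr := (inferInstance : M.IsMaximal).isPrime
  have hχc := isClassFunction_of_isIrr χ.2
  have hpo := (pairOf_of_sle hmax.of.pair N.sle).1 hmax.of
  have hind : IsInducedBlock M (KK V) N.T B :=
    (H80.BR9.induced_cent_iff hM (hmax.of.pair.pgr.to_le (Subgroup.map_subtype_le V)) N.hT hB).2 hpo.br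
  have hint : ∀ g, IsIntegral ℤ ((χ : G → ℂ) g) := irr_int χ
  have h1 := Q_induced (p := p) hind N.hψ hχ hχc hint (res_class hχc _)
  have h2 := Q_unit_of_height_zero hM hB hχ hχ h0
  set Θ : G → ℂ := fun g => (χ : G → ℂ) (pr p g) with hΘ
  have hΘc : IsClassFunction G Θ := by
    intro g h
    show (χ : G → ℂ) (pr p (h * g * h⁻¹)) = _
    rw [pr_conj Fact.out, hχc]
  have hu : IsUnion M N.T := isUnion_of_isPBlock N.hT
  have h3 : classInner (reg p (N.ψ : KK V → ℂ)) (fun k : KK V => (χ : G → ℂ) k) =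
      n * classInner (reg p (N.ψ : KK V → ℂ)) (N.ψ : KK V → ℂ) := by
    have e1 : classInner (reg p (N.ψ : KK V → ℂ)) (fun k : KK V => (χ : G → ℂ) k) =
        classInner (reg p (N.ψ : KK V → ℂ)) (fun k : KK V => Θ k) := by
      rw [classInner, classInner]
      congr 1
      refine Finset.sum_congr rfl fun k _ => ?_
      by_cases hk : p ∣ orderOf k
      · rw [reg_not hk, zero_mul, zero_mul]
      · have h4 : Θ k = (χ : G → ℂ) k := by
          show (χ : G → ℂ) (pr p (k : G)) = _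
          rw [pr_of_reg Fact.out (show ¬ p ∣ orderOf (k : G) by rwa [Subgroup.orderOf_coe])]
        rw [h4]
    have e2 : reg p (proj N.T (fun k : KK V => Θ k)) = (n : ℂ) • N.phi := by
      have h5 := N.pc_eq hM hab (one_mem V) (res_class hΘc (KK V))
      rw [Subgroup.coe_one, hn] at h5
      rw [← h5, pc]
      congr 2
      funext d
      rw [one_mul]
    calc classInner (reg p (N.ψ : KK V → ℂ)) (fun k : KK V => (χ : G → ℂ) k)
        = classInner (N.ψ : KK V → ℂ) (reg p (fun k : KK V => Θ k)) := by rw [e1, inner_reg_comm]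
      _ = classInner (proj N.T (N.ψ : KK V → ℂ)) (reg p (fun k : KK V => Θ k)) := by rw [proj_irr N.T N.ψ N.hψ]
      _ = classInner (N.ψ : KK V → ℂ) (reg p (proj N.T (fun k : KK V => Θ k))) := by
          rw [inner_proj_comm, proj_reg hM hu (res_class hΘc (KK V))]
      _ = n * classInner (reg p (N.ψ : KK V → ℂ)) (N.ψ : KK V → ℂ) := by
          rw [e2, H18.CharOrtho.inner_smul_right, phi_eq, map_intCast, ← inner_reg_comm]
  have hd : ((N.ψ : KK V → ℂ) 1) ≠ 0 := irr_one_ne_zero N.ψ.2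
  have h4 : Q p N.ψ (fun k : KK V => (χ : G → ℂ) k) (res_class hχc _) = n * Q p N.ψ (N.ψ : KK V → ℂ) (irr_class N.ψ) := by
    rw [Q_eq, Q_eq, h3]
    ring
  rw [h4] at h1
  have h5 : MemLocalIdeal M ((n : ℂ) * Q p N.ψ (N.ψ : KK V → ℂ) (irr_class N.ψ)) :=
    locI_mul_right ((locI_intCast_iff hM).2 hpn) (Q_memR N.ψ (irr_class N.ψ) (irr_int N.ψ))
  apply h2
  have h6 := locI_sub h5 h1
  rw [sub_sub_cancel] at h6
  exact h6

include hM hab in
/-- all characters of the block agree on `p`-regular elements -/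
theorem reg_eq_phi (N : Nb p e V) {θ : IrrCharacter (KK V)} (hθ : θ ∈ N.T) : reg p (θ : KK V → ℂ) = N.phi := by
  have h1 := N.pc_eq hM hab (one_mem V) (ez_class θ)
  rw [Subgroup.coe_one, pc_one N.T hθ, N.D_one hM hab (ez_class θ)] at h1
  rw [h1]
  have h4 : (fun k : KK V => ez (KK V) (θ : KK V → ℂ) k) = θ := funext fun k => ez_coe _ k
  obtain ⟨ζ, hζ⟩ := (nilEquiv hM N.hmax N.hT N.hnil N.hψ N.h0).surjective ⟨θ, hθ⟩
  have htf : tf hM N.hmax N.hT N.hnil N.hψ N.h0 (θ : KK V → ℂ) = ζ := by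
    have h1 := tf_nil hM N.hmax N.hT N.hnil N.hψ N.h0 ζ
    rwa [hζ] at h1
  have hAK : ∀ a b : P.subgroupOf (KK V), a * b = b * a := fun a b =>
    Subtype.ext (Subtype.ext (hab _ (Subgroup.mem_subgroupOf.1 a.2) _ (Subgroup.mem_subgroupOf.1 b.2)))
  obtain ⟨lam, hlam⟩ := exists_hom_of_isIrr_of_comm hAK ζ.2
  have h5 : N.tfun hM hab (ez (KK V) (θ : KK V → ℂ)) 1 = 1 := by
    unfold tfun
    rw [h4, htf, hlam]
    have h6 : iot (le_KK hab V) (1 : P) = 1 := rfl
    show ((lam (iot (le_KK hab V) (1 : P)) : ℂˣ) : ℂ) = 1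
    rw [h6, map_one, Units.val_one]
  rw [h5, one_smul]

variable {V' : Subgroup P}

include hM hab in
/-- conjugation -/
theorem D_conj (N : Nb p e V) (N' : Nb p e V') (hP : IsPair p ⊤ P e) {t : G} (ht : t ∈ ST ⊤ P e)
    (hV : V'.map P.subtype = cs t (V.map P.subtype)) (x : G) {F : G → ℂ} (hF : IsClassFunction G F) :
    (∀ (l : KK V) (l' : KK V'), (l' : G) = t * l * t⁻¹ → N'.phi l' = N.phi l) ∧
    N'.D (t * x * t⁻¹) F = N.D x F := by
  have hKK : KK V' = cs t (KK V) := by
    unfold KK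
    rw [hV, cs_centralizer]
  have hbl : bl M (KK V') N'.T = cj t (bl M (KK V) N.T) := by
    have h1 := sle_cj N.sle t
    rw [mem_normalizer.1 ht.2.1, ht.2.2, cs_of_mem (Subgroup.mem_top _), ← hV] at h1
    exact SLE.unique hP N'.sle h1
  have hmemK : ∀ g : G, t * g * t⁻¹ ∈ KK V' ↔ g ∈ KK V := by
    intro g
    rw [hKK]; exact conj_mem_cs
  have hphi : ∀ (l : KK V) (l' : KK V'), (l' : G) = t * l * t⁻¹ → N'.phi l' = N.phi l := by
    intro l l' hl
    have h1 := pc_conj (p := p) N.hT N'.hT hKK hbl 1 (ez (KK V') (N'.ψ : KK V' → ℂ)) l l' hl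
    have h2 : t * 1 * t⁻¹ = 1 := by group
    rw [h2] at h1
    have h3 : N'.phi l' = pc p (KK V') N'.T 1 (ez (KK V') (N'.ψ : KK V' → ℂ)) l' := rfl
    rw [h3, h1]
    -- the conjugate character
    have hT : N'.T = trI (cjI t (KK V) (KK V') hKK) '' N.T := by
      rw [← conjSet_eq t (KK V) (KK V') hKK]
      apply bl_inj N'.hT (isPBlock_conjSet hKK N.hT)
      rw [bl_conjSet hKK, hbl]
    have hψ' := N'.hψ
    rw [hT] at hψ'
    obtain ⟨ψ'', hψ'', heq⟩ := hψ'
    have hez : (fun g => ez (KK V') (N'.ψ : KK V' → ℂ) (t * g * t⁻¹)) = ez (KK V) (ψ'' : KK V → ℂ) := by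
      funext g
      by_cases hg : g ∈ KK V
      · have hg' := (hmemK g).2 hg
        rw [ez, ez, dif_pos hg', dif_pos hg, ← heq, trI_apply]
        have h9 : (cjI t (KK V) (KK V') hKK).symm ⟨t * g * t⁻¹, hg'⟩ = ⟨g, hg⟩ := by
          apply (cjI t (KK V) (KK V') hKK).injective
          rw [MulEquiv.apply_symm_apply]
          apply Subtype.ext
          rw [cjI_apply]
        rw [h9]
      · have hg' : ¬ t * g * t⁻¹ ∈ KK V' := fun h => hg ((hmemK g).1 h)
        rw [ez, ez, dif_neg hg', dif_neg hg]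
    rw [hez, pc_one N.T hψ'', N.reg_eq_phi hM hab hψ'']
  refine ⟨hphi, ?_⟩
  rw [D, D]
  congr 1
  rw [← inner_equiv (cjI t (KK V) (KK V') hKK)]
  congr 1
  · funext l
    have h1 := pc_conj (p := p) N.hT N'.hT hKK hbl x F l (cjI t (KK V) (KK V') hKK l) (cjI_apply ..)
    rw [Function.comp_apply, h1]
    congr 1
    funext g
    exact hF g t
  · funext l
    exact hphi l _ (cjI_apply ..)

end Nb

end H84.GL
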