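import Cfsg.Agent.Lib.H84.GL3

/-!
# Gluing local systems: abelian defect groups with free action
-/

set_option autoImplicit false
set_option linter.unusedSectionVars false
set_option linter.unusedVariables false

namespace H84.GL

open Cfsg H20.Loc H20.GA H80.GA H80.GB H80.GC H80.GD H80.GE H80.GF H80.GG H80.GH H80.GJ H80.FS H84.RG H18.CharBasic H18.CharOrtho H84.TrR
open H20.Blk H20.Orth H20.Ind H20.Height H20.Defect H80.BR1 H80.BR2 H19.Second H19.Second3 H81.Section H81.Contrib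
open H84.Star H84.Wat H80.BR7 H84.FR H84.FL H20.BrT
open scoped ComplexConjugate

universe u v

attribute [local instance 2000] Fintype.ofFinite

/-- the statement on generalized characters of abelian groups needed for gluing -/
def PureA (p : ℕ) (A : Type v) [Group A] [Finite A] : Prop :=
  ∀ f : A → ℂ, IsGeneralizedCharacter A f → ∀ c : A → ℤ, (∀ x, ¬ (p : ℤ) ∣ c x) →
    (∀ x, ∀ m : ℕ, m.Coprime p → c (x ^ m) = c x) → ∀ v : A → ℂ, (∀ x, IsIntegral ℤ (v x)) →
    (∀ x, v x * conj (v x) = 1) → (∀ x, f x * v x = c x) → f 1 = c 1 →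
    ∃ (l : A →* ℂˣ) (t : A → ℤ), (∀ x, t x = 1 ∨ t x = -1) ∧ (∀ x, f x = (l x : ℂ) * t x * c x) ∧
      (∀ x, (p : ℤ) ∣ t x * c x - c 1) ∧ (p = 2 → ∀ x, (4 : ℤ) ∣ t x * c x - c 1)

/-- the modulus -/
def md (p : ℕ) : ℤ := if p = 2 then 4 else p

theorem not_md {p : ℕ} (hp : p.Prime) {n : ℤ} (hn : ¬ (p : ℤ) ∣ n) : ¬ md p ∣ 2 * n := by
  unfold md
  split_ifs with h
  · subst h
    intro h1
    apply hn
    have h2 : (2 * 2 : ℤ) ∣ 2 * n := by simpa using h1
    exact Int.dvd_of_mul_dvd_mul_left (by norm_num) h2 |> fun h => by simpa using h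
  · intro h1
    rcases (Nat.prime_iff_prime_int.1 hp).dvd_or_dvd h1 with h2 | h2
    · have h3 : p ∣ 2 := by exact_mod_cast h2
      exact h ((Nat.prime_dvd_prime_iff_eq hp Nat.prime_two).1 h3)
    · exact hn h2

theorem sign_eq {p : ℕ} (hp : p.Prime) {n s s' : ℤ} (hn : ¬ (p : ℤ) ∣ n) (hs : s = 1 ∨ s = -1) (hs' : s' = 1 ∨ s' = -1)
    (h : md p ∣ s * n - s' * n) : s = s' := by
  have h0 := not_md hp hn
  rcases hs with rfl | rfl <;> rcases hs' with rfl | rfl
  · rfl
  · exact absurd (by convert h using 1; ring) h0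
  · exfalso; apply h0
    have h2 : 2 * n = -(-1 * n - 1 * n) := by ring
    rw [h2]
    exact dvd_neg.2 h
  · rfl

theorem transport_eq {M : Ideal AlgInt} [M.IsMaximal] {G : Type u} [Group G] [Finite G] {p : ℕ}
    {L L' : Subgroup G} (h : L = L') {T : Set (IrrCharacter L)} (hT : IsPBlock M T) (φ : L → ℂ) (n : ℂ) :
    ∃ (T' : Set (IrrCharacter L')) (φ' : L' → ℂ), IsPBlock M T' ∧ bl M L' T' = bl M L T ∧
      (∀ (x : G) (F : G → ℂ) (a : ℂ), pc p L T x F = a • φ → pc p L' T' x F = a • φ') ∧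
      classInner φ' φ' = classInner φ φ ∧
      ((∀ c : L, MemLocalRing M (φ c) ∧ MemLocalRing M (n * φ c / (Nat.card (Subgroup.centralizer ({c} : Set L)) : ℂ))) →
        (∀ c : L', MemLocalRing M (φ' c) ∧
          MemLocalRing M (n * φ' c / (Nat.card (Subgroup.centralizer ({c} : Set L')) : ℂ)))) := by
  subst h
  exact ⟨T, φ, hT, rfl, fun _ _ _ h => h, rfl, fun h => h⟩

variable {M : Ideal AlgInt} [M.IsMaximal] {G : Type u} [Group G] [Finite G] {p : ℕ}
variable [Fact p.Prime] [CharP (ResF M) p] [Algebra (ZMod p) (ResF M)] [Algebra.IsAlgebraic (ZMod p) (ResF M)]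
variable {B : Set (IrrCharacter G)} {P : Subgroup G} {e : MonoidAlgebra (ResF M) G}

theorem exists_loc_of_pure [IsAlgClosed (ResF M)] (hM : IsPModular p M) (hmax : IsMax p ⊤ (ebar M B) P e)
    (hB : IsPBlock M B) (hab : ∀ x ∈ P, ∀ y ∈ P, x * y = y * x) (hP1 : P ≠ ⊥)
    (hfree : ∀ g ∈ ST ⊤ P e, ∀ x ∈ P, x ≠ 1 → g * x * g⁻¹ = x → g ∈ Subgroup.centralizer (P : Set G))
    (hpure : PureA p P) :
    ∃ (S : ∀ x : P, BlkS M (x : G)) (φ : ∀ x : P, C (x : G) → ℂ) (R : IrrCharacter G → P → ℂ),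
      Loc (p := p) B P e S φ R := by
  classical
  have hp : p.Prime := Fact.out
  have hpair := hmax.of.pair
  have hordP : ∀ x : P, ∃ k : ℕ, orderOf (x : G) = p ^ k := fun x => order_of_mem hpair.pgr x
  -- the blocks
  have N : ∀ V : Subgroup P, V ≠ ⊥ → Nb p e V := fun V hV => (exists_nb hM hmax hab hfree hV).some
  obtain ⟨χ0, hχ0, hh0⟩ := exists_height_zero hM hB
  set Θ : G → ℂ := fun g => (χ0 : G → ℂ) (pr p g) with hΘ
  have hΘg : IsGeneralizedCharacter G Θ := isGen_pr hp (isGen_of_isIrr χ0.2)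
  have hΘc : IsClassFunction G Θ := (isGen_iff.1 hΘg).1
  have hres : ∀ {F : G → ℂ}, IsClassFunction G F → ∀ K : Subgroup G, IsClassFunction K (fun k : K => F k) :=
    fun hF K => Nb.res_class hF K
  have hresg : ∀ {F : G → ℂ}, IsGeneralizedCharacter G F → ∀ K : Subgroup G,
      IsGeneralizedCharacter K (fun k : K => F k) := fun hF K => H18.CharOrtho.isGen_restrict K hF
  -- the integers
  have hcex : ∀ V : Subgroup P, ∃ n : ℤ, ∀ hV : V ≠ ⊥, (N V hV).D 1 Θ = n := by
    intro V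
    by_cases hV : V = ⊥
    · exact ⟨0, fun h => absurd hV h⟩
    · obtain ⟨n, hn⟩ := gen_one_int ((N V hV).tfun_gen hM hab (hresg hΘg (KK V)))
      exact ⟨n, fun _ => by rw [(N V hV).D_one hM hab (hres hΘc (KK V)), hn]⟩
  choose c hc using hcex
  have hcp : ∀ V : Subgroup P, V ≠ ⊥ → ¬ (p : ℤ) ∣ c V := fun V hV =>
    (N V hV).not_dvd hM hab hmax hB hχ0 hh0 (hc V hV)
  have hsup : ∀ {V : Subgroup P}, V ≠ ⊥ → ∀ W : Subgroup P, V ⊔ W ≠ ⊥ := fun hV W h =>
    hV (le_bot_iff.1 (h ▸ le_sup_left))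
  have hDx : ∀ (V : Subgroup P) (hV : V ≠ ⊥) (x : P), x ∈ V → (N V hV).D x Θ = c V := by
    intro V hV x hx
    rw [hΘ, (N V hV).D_pr hx (hordP x) (χ0 : G → ℂ), ← hΘ, hc V hV]
  have hmemsup : ∀ (V : Subgroup P) (x : P), x ∈ V ⊔ Subgroup.zpowers x := fun V x =>
    (le_sup_right : Subgroup.zpowers x ≤ _) (Subgroup.mem_zpowers x)
  -- the pure statement
  have hpl : ∀ (V : Subgroup P) (hV : V ≠ ⊥), ∃ (l : P →* ℂˣ) (t : P → ℤ), (∀ x, t x = 1 ∨ t x = -1) ∧
      (∀ x, md p ∣ t x * c (V ⊔ Subgroup.zpowers x) - c V) ∧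
      ∀ x : P, ∀ F : G → ℂ, IsClassFunction G F →
        ((l⁻¹ : P →* ℂˣ) x : ℂ) * (N V hV).tfun hM hab F x = t x * (N (V ⊔ Subgroup.zpowers x) (hsup hV _)).D x F := by
    intro V hV
    have hV1 : V ⊔ Subgroup.zpowers (1 : P) = V := by
      rw [Subgroup.zpowers_one_eq_bot, sup_bot_eq]
    obtain ⟨l, t, h1, h2, h3, h4⟩ := hpure ((N V hV).tfun hM hab Θ) ((N V hV).tfun_gen hM hab (hresg hΘg _))
      (fun x => c (V ⊔ Subgroup.zpowers x)) (fun x => hcp _ (hsup hV _)) (by
        intro x m hm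
        have h5 : Subgroup.zpowers (x ^ m) = Subgroup.zpowers x := by
          apply le_antisymm
          · rw [Subgroup.zpowers_le]; exact Subgroup.pow_mem _ (Subgroup.mem_zpowers x) m
          · rw [Subgroup.zpowers_le]
            obtain ⟨k, hk⟩ := hordP x
            have h6 : (orderOf x).Coprime m := by
              rw [← Subgroup.orderOf_coe, hk]
              exact (Nat.Coprime.pow_right k hm).symm
            obtain ⟨j, hj⟩ := exists_pow_eq_self_of_coprime (x := x) h6.symm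
            have h7 := Subgroup.pow_mem _ (Subgroup.mem_zpowers (x ^ m)) j
            rwa [hj] at h7
        show c (V ⊔ Subgroup.zpowers (x ^ m)) = c (V ⊔ Subgroup.zpowers x)
        rw [h5])
      (fun x => (N (V ⊔ Subgroup.zpowers x) (hsup hV _)).D x (ez (KK V) ((N V hV).ψ : KK V → ℂ)))
      (fun x => ((N V hV).v_spec hM hab _).1) (fun x => ((N V hV).v_spec hM hab _).2)
      (fun x => by rw [← (N V hV).D_sup hM hab _ (hres hΘc (KK V)), hDx _ _ x (hmemsup V x)])
      (by rw [← (N V hV).D_one hM hab (hres hΘc (KK V)), hc V hV, hV1])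
    refine ⟨l, t, h1, ?_, ?_⟩
    · intro x
      have h5 := h3 x
      simp only [hV1] at h5
      unfold md
      split_ifs with hp2
      · have h6 := h4 hp2 x
        simp only [hV1] at h6
        exact h6
      · exact h5
    · intro x F hF
      set v := (N (V ⊔ Subgroup.zpowers x) (hsup hV _)).D x (ez (KK V) ((N V hV).ψ : KK V → ℂ)) with hv
      have h5 : (N V hV).tfun hM hab Θ x * v = c (V ⊔ Subgroup.zpowers x) := by
        rw [hv, ← (N V hV).D_sup hM hab _ (hres hΘc (KK V)), hDx _ _ x (hmemsup V x)]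
      have hc0 : (c (V ⊔ Subgroup.zpowers x) : ℂ) ≠ 0 := by
        intro h0
        apply hcp _ (hsup hV (Subgroup.zpowers x))
        have : c (V ⊔ Subgroup.zpowers x) = 0 := by exact_mod_cast h0
        rw [this]; exact dvd_zero _
      have h6 : (l x : ℂ) * t x * v = 1 := by
        apply mul_right_cancel₀ hc0
        rw [one_mul]
        conv_rhs => rw [← h5, h2 x]
        ring
      have hl0 : ((l x : ℂˣ) : ℂ) ≠ 0 := Units.ne_zero _
      have ht2 : (t x : ℂ) * t x = 1 := by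
        rcases h1 x with h | h <;> rw [h] <;> norm_num
      rw [(N V hV).D_sup hM hab _ (hres hF (KK V)), ← hv, MonoidHom.inv_apply, Units.val_inv_eq_inv_val]
      rw [inv_mul_eq_iff_eq_mul₀ hl0]
      calc (N V hV).tfun hM hab F x = (N V hV).tfun hM hab F x * 1 := by rw [mul_one]
        _ = (N V hV).tfun hM hab F x * ((l x : ℂ) * t x * v) := by rw [h6]
        _ = _ := by ring
  choose l t ht1 ht2 ht3 using hpl
  -- the signs
  have htop : (⊤ : Subgroup P) ≠ ⊥ := by
    intro h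
    apply hP1
    rw [eq_bot_iff]
    intro x hx
    have h1 : (⟨x, hx⟩ : P) ∈ (⊥ : Subgroup P) := h ▸ Subgroup.mem_top _
    rw [Subgroup.mem_bot] at h1
    rw [Subgroup.mem_bot]
    exact congrArg Subtype.val h1
  have hsex : ∀ V : Subgroup P, V ≠ ⊥ → ∃ s : ℤ, (s = 1 ∨ s = -1) ∧ md p ∣ c V - s * c ⊤ := by
    intro V
    induction V using WellFoundedGT.induction with
    | ind V ih =>
    intro hV
    by_cases hVt : V = ⊤
    · exact ⟨1, Or.inl rfl, by rw [hVt]; simp⟩
    · obtain ⟨x, hx⟩ : ∃ x : P, x ∉ V := by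
        by_contra hcon
        push Not at hcon
        exact hVt ((Subgroup.eq_top_iff' V).2 hcon)
      have hlt : V < V ⊔ Subgroup.zpowers x := by
        refine lt_of_le_of_ne le_sup_left ?_
        intro h
        apply hx
        rw [h]; exact hmemsup V x
      obtain ⟨s, hs1, hs2⟩ := ih _ hlt (hsup hV _)
      refine ⟨t V hV x * s, ?_, ?_⟩
      · rcases ht1 V hV x with h | h <;> rcases hs1 with h' | h' <;> rw [h, h'] <;> simp
      · have h1 := ht2 V hV x
        have h2 : c V - t V hV x * s * c ⊤ = -(t V hV x * c (V ⊔ Subgroup.zpowers x) - c V) +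
            t V hV x * (c (V ⊔ Subgroup.zpowers x) - s * c ⊤) := by ring
        rw [h2]
        exact dvd_add ((dvd_neg).2 h1) (Dvd.dvd.mul_left hs2 _)
  have hsex' : ∀ V : Subgroup P, ∃ s : ℤ, (s = 1 ∨ s = -1) ∧ (V ≠ ⊥ → md p ∣ c V - s * c ⊤) := by
    intro V
    by_cases hV : V = ⊥
    · exact ⟨1, Or.inl rfl, fun h => absurd hV h⟩
    · obtain ⟨s, h1, h2⟩ := hsex V hV
      exact ⟨s, h1, fun _ => h2⟩
  choose s hs1 hs2 using hsex'
  have hcT := hcp ⊤ htop
  have hss : ∀ V, s V * s V = 1 := by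
    intro V
    rcases hs1 V with h | h <;> rw [h] <;> norm_num
  have hts : ∀ (V : Subgroup P) (hV : V ≠ ⊥) (x : P), t V hV x * s (V ⊔ Subgroup.zpowers x) = s V := by
    intro V hV x
    apply sign_eq hp hcT
    · rcases ht1 V hV x with h | h <;> rcases hs1 (V ⊔ Subgroup.zpowers x) with h' | h' <;> rw [h, h'] <;> simp
    · exact hs1 V
    · have h1 := ht2 V hV x
      have h2 := hs2 V hV
      have h3 := hs2 _ (hsup hV (Subgroup.zpowers x))
      have h4 : t V hV x * s (V ⊔ Subgroup.zpowers x) * c ⊤ - s V * c ⊤ =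
          (t V hV x * c (V ⊔ Subgroup.zpowers x) - c V) - t V hV x * (c (V ⊔ Subgroup.zpowers x) -
            s (V ⊔ Subgroup.zpowers x) * c ⊤) + (c V - s V * c ⊤) := by ring
      rw [h4]
      exact dvd_add (dvd_sub h1 (Dvd.dvd.mul_left h3 _)) h2
  have hkey : ∀ (V : Subgroup P) (hV : V ≠ ⊥) (x : P) (F : G → ℂ), IsClassFunction G F →
      (s V : ℂ) * ((((l V hV)⁻¹ : P →* ℂˣ) x : ℂ) * (N V hV).tfun hM hab F x) =
        s (V ⊔ Subgroup.zpowers x) * (N (V ⊔ Subgroup.zpowers x) (hsup hV _)).D x F := by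
    intro V hV x F hF
    rw [ht3 V hV x F hF, ← mul_assoc]
    congr 1
    have h1 := hts V hV x
    have h2 : s V * t V hV x = s (V ⊔ Subgroup.zpowers x) := by
      rw [← h1]
      have h3 : t V hV x * t V hV x = 1 := by
        rcases ht1 V hV x with h | h <;> rw [h] <;> norm_num
      calc t V hV x * s (V ⊔ Subgroup.zpowers x) * t V hV x
          = (t V hV x * t V hV x) * s (V ⊔ Subgroup.zpowers x) := by ring
        _ = _ := by rw [h3, one_mul]
    exact_mod_cast h2
  -- Weisner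
  obtain ⟨μ, hμ1, hμ⟩ := exists_weisner (Subgroup P)
  set H : (G → ℂ) → P → Subgroup P → ℂ := fun F x V =>
    if hV : V ≠ ⊥ then (s V : ℂ) * (N V hV).D x F else 0 with hH
  set R : IrrCharacter G → P → ℂ := fun χ => ∑ V : Subgroup P,
    (-(μ V * s V) : ℤ) • (if hV : V ≠ ⊥ then (fun x => ((((l V hV)⁻¹ : P →* ℂˣ) x : ℂ))) *
      (N V hV).tfun hM hab (χ : G → ℂ) else 0) with hR
  have hRgen : ∀ χ, IsGeneralizedCharacter P (R χ) := by
    intro χ
    refine isGen_sum _ _ fun V _ => ?_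
    apply isGen_zsmul
    split_ifs with hV
    · exact isGen_mul (isGen_of_isIrr (isIrrCharacter_of_hom _))
        ((N V hV).tfun_gen hM hab (hresg (isGen_of_isIrr χ.2) _))
    · exact isGen_zero
  have hzne : ∀ x : P, x ≠ 1 → Subgroup.zpowers x ≠ ⊥ := fun x hx => by
    rw [Ne, Subgroup.zpowers_eq_bot]; exact hx
  have hRx : ∀ (χ : IrrCharacter G) (x : P), x ≠ 1 → R χ x = H (χ : G → ℂ) x (Subgroup.zpowers x) := by
    intro χ x hx
    have hχc := isClassFunction_of_isIrr χ.2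
    have h1 := hμ (Subgroup.zpowers x) (hzne x hx) (H (χ : G → ℂ) x)
    rw [← Finset.add_sum_erase _ _ (Finset.mem_univ (⊥ : Subgroup P)), hμ1, bot_sup_eq, Int.cast_one, one_mul] at h1
    have h2 : R χ x = -∑ V ∈ Finset.univ.erase (⊥ : Subgroup P), (μ V : ℂ) * H (χ : G → ℂ) x (V ⊔ Subgroup.zpowers x) := by
      rw [hR]
      simp only [Finset.sum_apply, Pi.smul_apply]
      rw [← Finset.add_sum_erase _ _ (Finset.mem_univ (⊥ : Subgroup P))]
      rw [dif_neg (by simp), Pi.zero_apply, smul_zero, zero_add, ← Finset.sum_neg_distrib]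
      refine Finset.sum_congr rfl fun V hV => ?_
      have hV' : V ≠ ⊥ := Finset.ne_of_mem_erase hV
      rw [dif_pos hV', hH]
      simp only
      rw [dif_pos (hsup hV' _), ← hkey V hV' x _ hχc, Pi.mul_apply, zsmul_eq_mul]
      push_cast
      ring
    rw [h2]
    exact (eq_neg_of_add_eq_zero_left h1).symm
  have hHx : ∀ (F : G → ℂ) (x : P) (hx : x ≠ 1), H F x (Subgroup.zpowers x) =
      s (Subgroup.zpowers x) * (N _ (hzne x hx)).D x F := by
    intro F x hx
    rw [hH]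
    simp only
    rw [dif_pos (hzne x hx)]
  -- the system
  have hsys : ∀ x : P, ∃ (S : BlkS M (x : G)) (φ : C (x : G) → ℂ), x ≠ 1 →
      SLE p ⊤ (Subgroup.zpowers (x : G)) (bl M (C (x : G)) S.1) P e ∧
      (∀ χ : IrrCharacter G, comp p (x : G) S.1 (χ : G → ℂ) = R χ x • φ) ∧
      classInner φ φ = (Nat.card P : ℂ)⁻¹ ∧
      (∀ c : C (x : G), MemLocalRing M (φ c) ∧
        MemLocalRing M ((Nat.card P : ℂ) * φ c / (Nat.card (Subgroup.centralizer ({c} : Set (C (x : G)))) : ℂ))) := by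
    intro x
    by_cases hx : x = 1
    · obtain ⟨f, hf, -⟩ := exists_unique_sle hpair (Q := Subgroup.zpowers (x : G))
        (by rw [Subgroup.zpowers_le]; exact x.2)
      obtain ⟨S, hS⟩ := (blEquiv M (x : G)).surjective ⟨f, (SLE.pair_left hpair hf).blk⟩
      exact ⟨S, 0, fun h => absurd hx h⟩
    · set Nx := N _ (hzne x hx) with hNx
      obtain ⟨T', φ', h1, h2, h3, h4, h5⟩ := transport_eq (p := p) (KK_zpowers x) Nx.hT
        ((s (Subgroup.zpowers x) : ℂ) • Nx.phi) (Nat.card P : ℂ)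
      refine ⟨⟨T', h1⟩, φ', fun _ => ⟨?_, fun χ => ?_, ?_, ?_⟩⟩
      · have h6 := Nx.sle
        rw [MonoidHom.map_zpowers] at h6
        show SLE p ⊤ (Subgroup.zpowers (x : G)) (bl M (C (x : G)) T') P e
        rw [h2]
        exact h6
      · have hχc := isClassFunction_of_isIrr χ.2
        show pc p (C (x : G)) T' (x : G) (χ : G → ℂ) = _
        apply h3
        rw [hRx χ x hx, hHx _ x hx, Nx.pc_eq hM hab (Subgroup.mem_zpowers x) (hres hχc _), smul_smul]
        congr 1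
        have h7 : ((s (Subgroup.zpowers x) : ℤ) : ℂ) * (s (Subgroup.zpowers x) : ℂ) = 1 := by
          exact_mod_cast hss _
        calc Nx.D x (χ : G → ℂ) = 1 * Nx.D x (χ : G → ℂ) := by rw [one_mul]
          _ = _ := by rw [← h7]; ring
      · rw [h4, H18.CharOrtho.inner_smul_left, H18.CharOrtho.inner_smul_right, Nx.norm_phi hM hab, ← mul_assoc,
          map_intCast]
        have h7 : ((s (Subgroup.zpowers x) : ℤ) : ℂ) * (s (Subgroup.zpowers x) : ℂ) = 1 := by
          exact_mod_cast hss _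
        rw [h7, one_mul]
      · apply h5
        intro c
        obtain ⟨h8, h9⟩ := Nx.int_phi hM hab c
        refine ⟨locR_mul (locR_intCast _) h8, ?_⟩
        have h10 : (Nat.card P : ℂ) * (((s (Subgroup.zpowers x) : ℂ)) • Nx.phi) c /
            (Nat.card (Subgroup.centralizer ({c} : Set (KK (Subgroup.zpowers x)))) : ℂ) =
            (s (Subgroup.zpowers x) : ℂ) * ((Nat.card P : ℂ) * Nx.phi c /
            (Nat.card (Subgroup.centralizer ({c} : Set (KK (Subgroup.zpowers x)))) : ℂ)) := by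
          rw [Pi.smul_apply, smul_eq_mul]; ring
        rw [h10]
        exact locR_mul (locR_intCast _) h9
  choose S φ hSφ using hsys
  refine ⟨S, φ, R, fun x hx => (hSφ x hx).1, fun χ _ x hx => (hSφ x hx).2.1 χ, fun x hx => (hSφ x hx).2.2.1,
    fun x hx => (hSφ x hx).2.2.2, ?_, fun χ _ => hRgen χ⟩
  rintro χ hχ w ⟨τ, rfl⟩ x hx
  set y : P := stHom ⊤ P e τ x with hy
  have hyc : (y : G) = (τ : G) * x * (τ : G)⁻¹ := rfl
  have hy1 : y ≠ 1 := fun h => hx ((MulEquiv.map_eq_one_iff _).1 h)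
  have hχc := isClassFunction_of_isIrr χ.2
  have hmap : (Subgroup.zpowers y).map P.subtype = cs (τ : G) ((Subgroup.zpowers x).map P.subtype) := by
    rw [MonoidHom.map_zpowers, MonoidHom.map_zpowers]
    show Subgroup.zpowers (y : G) = cs (τ : G) (Subgroup.zpowers (x : G))
    rw [H80.SU1.cs_zp, hyc]
  have h1 := (Nb.D_conj hM hab (N _ (hzne x hx)) (N _ (hzne y hy1)) hpair τ.2 hmap x hχc).2
  have h2 := (Nb.D_conj hM hab (N _ (hzne x hx)) (N _ (hzne y hy1)) hpair τ.2 hmap 1 hΘc).2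
  have h3 : (τ : G) * 1 * (τ : G)⁻¹ = 1 := by group
  rw [h3, hc, hc] at h2
  have h4 : c (Subgroup.zpowers y) = c (Subgroup.zpowers x) := by exact_mod_cast h2
  have h5 : s (Subgroup.zpowers y) = s (Subgroup.zpowers x) := by
    apply sign_eq hp hcT (hs1 _) (hs1 _)
    have h6 := hs2 _ (hzne x hx)
    have h7 := hs2 _ (hzne y hy1)
    rw [h4] at h7
    have h8 : s (Subgroup.zpowers y) * c ⊤ - s (Subgroup.zpowers x) * c ⊤ =
        (c (Subgroup.zpowers x) - s (Subgroup.zpowers x) * c ⊤) - (c (Subgroup.zpowers x) - s (Subgroup.zpowers y) * c ⊤) := by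
      ring
    rw [h8]
    exact dvd_sub h6 h7
  rw [hRx χ x hx, hRx χ y hy1, hHx _ x hx, hHx _ y hy1, h5, hyc, h1]

end H84.GL
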