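import Cfsg.Agent.Lib.H84.GL4
import Cfsg.Agent.Lib.H79.NilCount

/-!
# Small inertial index
-/

set_option autoImplicit false
set_option linter.unusedSectionVars false
set_option linter.unusedVariables false

universe u v

namespace H84.FR

open Cfsg H5.PBb H18.CharOrtho H18.CharBasic
open scoped ComplexConjugate
attribute [local instance 2000] Fintype.ofFinite

theorem sum_sq_gap {ι : Type*} [DecidableEq ι] (s : Finset ι) {a : ι → ℤ} (h : ∀ i ∈ s, a i ≠ 0) :
    ∑ i ∈ s, a i ^ 2 = (s.card : ℤ) ∨ (s.card : ℤ) + 3 ≤ ∑ i ∈ s, a i ^ 2 := by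
  induction s using Finset.induction_on with
  | empty => left; simp
  | insert x s hx ih =>
    rw [Finset.sum_insert hx, Finset.card_insert_of_notMem hx]
    have h1 := ih (fun i hi => h i (Finset.mem_insert_of_mem hi))
    have h2 := h x (Finset.mem_insert_self x s)
    have h3 : a x ^ 2 = 1 ∨ 4 ≤ a x ^ 2 := by
      rcases lt_trichotomy (a x) 0 with h4 | h4 | h4
      · rcases lt_or_ge (a x) (-1) with h5 | h5
        · right; nlinarith
        · left; have : a x = -1 := by omega
          rw [this]; norm_num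
      · exact absurd h4 h2
      · rcases lt_or_ge 1 (a x) with h5 | h5
        · right; nlinarith
        · left; have : a x = 1 := by omega
          rw [this]; norm_num
    push_cast
    rcases h1 with h1 | h1 <;> rcases h3 with h3 | h3
    · left; rw [h1, h3]; ring
    · right; rw [h1]; linarith
    · right; rw [h3]; linarith
    · right; linarith

theorem bracket_cases {n : ℕ} (hn : 2 ≤ n) {δ d : ℤ} (hδ : δ = 1 ∨ δ = -1)
    (h3 : (d - δ) ^ 2 + (n - 1 : ℤ) * d ^ 2 ≤ 3) :
    (d - δ) ^ 2 + (n - 1 : ℤ) * d ^ 2 = 1 ∨ (d - δ) ^ 2 + (n - 1 : ℤ) * d ^ 2 = n - 1 := by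
  have hn' : (1 : ℤ) ≤ n - 1 := by
    have : (2 : ℤ) ≤ n := by exact_mod_cast hn
    linarith
  have h4 : d ^ 2 ≤ 3 := by nlinarith [sq_nonneg (d - δ), sq_nonneg d]
  have h5 : d = -1 ∨ d = 0 ∨ d = 1 := by
    have h6 : -2 < d := by nlinarith
    have h7 : d < 2 := by nlinarith
    omega
  rcases h5 with rfl | rfl | rfl <;> rcases hδ with rfl | rfl
  · nlinarith
  · right; ring
  · left; ring
  · left; ring
  · right; ring
  · nlinarith

variable {G : Type u} [Group G] [Finite G] {p : ℕ} {M : Ideal AlgInt}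
variable {A : Type v} [Group A] [Finite A] {W : Subgroup (MulAut A)}
variable {B : Set (IrrCharacter G)} {R : IrrCharacter G → A → ℂ}
variable {n : ℕ} {rep : Fin n → (A →* ℂˣ)}

theorem rank_small (hD : Dat p M B W R) (hp : p.Prime) (hA : ∀ a b : A, a * b = b * a)
    (hfp : ∀ w ∈ W, w ≠ 1 → ∀ x : A, w x = x → x = 1)
    (hrep : Reps W n rep) (hA1 : ∃ x : A, x ≠ 1) {r : ℕ} (hcard : Nat.card B = r + n) (hr : 1 ≤ r)
    (hW : Nat.card W ≤ 3) :
    r = Nat.card W ∨ Nat.card A = 7 ∨ Nat.card A = 10 ∨ Nat.card A = 13 := by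
  classical
  have hn1 := card_fin_n hA hfp hrep hA1
  have hcA := hrep.card hA hfp
  have hW' : (Nat.card W : ℤ) ≤ 3 := by exact_mod_cast hW
  have hr' : (1 : ℤ) ≤ r := by exact_mod_cast hr
  rcases Nat.lt_or_ge n 2 with hn | hn
  · obtain rfl : n = 1 := by omega
    obtain ⟨a, ha0, hval, ha⟩ := one_case hD hA hfp hrep hA1
    have h1 := sum_a_sq hD hA hfp hrep ha
    rw [← Finset.sum_filter] at h1
    have h2 := sum_sq_gap (Finset.univ.filter fun χ : IrrCharacter G => χ ∈ B) (a := a)
      (fun χ hχ => ha0 χ (Finset.mem_filter.1 hχ).2)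
    have h3 : (Finset.univ.filter fun χ : IrrCharacter G => χ ∈ B).card = Nat.card B := by
      rw [Nat.card_eq_fintype_card, ← Fintype.card_subtype]
    rw [h1, h3, hcard] at h2
    push_cast at h2
    left
    omega
  · obtain ⟨i₀⟩ : Nonempty (Fin n) := ⟨⟨0, by omega⟩⟩
    obtain ⟨μ, δ, d, a, hO⟩ := exists_out hD hp hA hfp hrep hn i₀ hA1
    have h1 := hO.norm hD hA hfp hrep
    have h3 := hO.card
    have h4 := bracket_pos hn (d := d) hO.hδ
    rw [hcard] at h3
    rw [← Finset.sum_filter] at h1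
    have h2 := sum_sq_gap (Finset.univ.filter fun χ : IrrCharacter G => χ ∈ B ∧ ∀ i, μ i ≠ χ) (a := a)
      (fun χ hχ => (hO.aX χ (Finset.mem_filter.1 hχ).2.1 (Finset.mem_filter.1 hχ).2.2).1)
    have h5 : ((Finset.univ.filter fun χ : IrrCharacter G => χ ∈ B ∧ ∀ i, μ i ≠ χ).card : ℤ) = r := by
      have : r = (Finset.univ.filter fun χ : IrrCharacter G => χ ∈ B ∧ ∀ i, μ i ≠ χ).card := by omega
      exact_mod_cast this.symm
    rw [h5] at h2
    rcases h2 with h2 | h2
    · rw [h2] at h1
      have h6 := bracket_cases hn (d := d) hO.hδ (by linarith)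
      rcases h6 with h6 | h6
      · left
        rw [h6] at h1
        have : (r : ℤ) = Nat.card W := by linarith
        exact_mod_cast this
      · rw [h6] at h1
        have h7 : n + r = Nat.card W + 2 := by
          have : (n : ℤ) + r = Nat.card W + 2 := by linarith
          exact_mod_cast this
        have h8 : 1 ≤ Nat.card W := Nat.card_pos
        generalize Nat.card W = w at *
        generalize Nat.card A = m at *
        interval_cases w
        · left; omega
        · have : r = 1 ∨ r = 2 := by omega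
          rcases this with rfl | rfl
          · right; left; omega
          · left; rfl
        · have : r = 1 ∨ r = 2 ∨ r = 3 := by omega
          rcases this with rfl | rfl | rfl
          · right; right; right; omega
          · right; right; left; omega
          · left; rfl
    · exfalso
      linarith

end H84.FR

namespace H84.GL

open Cfsg H20.Loc H20.GA H80.GA H80.GB H80.GC H80.GD H80.GE H80.GF H80.GG H80.GH H80.GJ H80.FS H84.RG H18.CharBasic H18.CharOrtho H84.TrR
open H20.Blk H20.Orth H20.Ind H20.Height H20.Defect H80.BR1 H80.BR2 H19.Second H19.Second3 H81.Section H81.Contrib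
open H84.Star H84.Wat H80.BR7 H84.FR H84.FL H20.BrT
open scoped ComplexConjugate
attribute [local instance 2000] Fintype.ofFinite

variable {M : Ideal AlgInt} [M.IsMaximal] {G : Type u} [Group G] [Finite G] {p : ℕ}
variable [Fact p.Prime] [CharP (ResF M) p] [Algebra (ZMod p) (ResF M)] [Algebra.IsAlgebraic (ZMod p) (ResF M)]
variable {B : Set (IrrCharacter G)} {P : Subgroup G} {e : MonoidAlgebra (ResF M) G}

theorem rank_eq_small [IsAlgClosed (ResF M)] (hM : IsPModular p M) (hmax : IsMax p ⊤ (ebar M B) P e)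
    (hB : IsPBlock M B) (hab : ∀ x ∈ P, ∀ y ∈ P, x * y = y * x) (hP1 : P ≠ ⊥)
    (hfree : ∀ g ∈ ST ⊤ P e, ∀ x ∈ P, x ≠ 1 → g * x * g⁻¹ = x → g ∈ Subgroup.centralizer (P : Set G))
    {S : ∀ x : P, BlkS M (x : G)} {φ : ∀ x : P, C (x : G) → ℂ} {R : IrrCharacter G → P → ℂ}
    (hL : Loc (p := p) B P e S φ R) (he : Nat.card (WT P e) ≤ 3) : blockRank p B = Nat.card (WT P e) := by
  have hBne : B.Nonempty := isPBlock_nonempty hB
  have hD := hL.dat hM hmax hB hab hfree hBne (exists_ne_one hP1)
  obtain ⟨n, rep, hrep⟩ := H84.FR.exists_reps (sub_comm hab) (WT P e)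
  have hfp := WT_free hfree
  have hcard := card_eq hM hmax hB hab hfree (hrep.card (sub_comm hab) hfp)
  have hpos : 0 < blockRank p B := H79.NilCount.rank_pos hM hB
  have hp : p.Prime := Fact.out
  have hcyc : Nat.card P = 7 ∨ Nat.card P = 13 → blockRank p B = Nat.card (WT P e) := by
    intro h
    have h1 : IsCyclic P := by
      rcases h with h | h
      · have : Fact (Nat.Prime 7) := ⟨by norm_num⟩
        exact isCyclic_of_prime_card h
      · have : Fact (Nat.Prime 13) := ⟨by norm_num⟩
        exact isCyclic_of_prime_card h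
    exact rank_eq_max_cyclic hM hmax hB h1 hP1
  rcases H84.FR.rank_small hD hp (sub_comm hab) hfp hrep (exists_ne_one hP1) hcard hpos he with h | h | h | h
  · exact h
  · exact hcyc (Or.inl h)
  · exfalso
    obtain ⟨k, hk⟩ := IsPGroup.iff_card.1 hmax.of.pair.pgr
    rw [h] at hk
    have h2 : p ∣ 2 := by
      have h3 : 2 ∣ p ^ k := by rw [← hk]; norm_num
      have h4 := Nat.prime_two.dvd_of_dvd_pow h3
      rw [(Nat.prime_dvd_prime_iff_eq Nat.prime_two hp).1 h4]
    have h5 : 5 ∣ p ^ k := by rw [← hk]; norm_num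
    have h6 := (by norm_num : Nat.Prime 5).dvd_of_dvd_pow h5
    rw [(Nat.prime_dvd_prime_iff_eq hp Nat.prime_two).1 h2] at h6
    omega
  · exact hcyc (Or.inr h)

end H84.GL
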