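import Cfsg.Agent.Lib.H84.GP4
import Cfsg.Agent.Lib.H84.GL5

/-!
# Blocks with abelian defect group and freely acting inertial quotient
-/

set_option autoImplicit false
set_option linter.unusedSectionVars false
set_option linter.unusedVariables false

universe u v

namespace H84.GL

open Cfsg H20.Loc H20.GA H80.GA H80.GB H80.GC H80.GD H80.GE H80.GF H80.GG H80.GH H80.GJ H80.FS H84.RG H18.CharBasic H18.CharOrtho H84.TrR
open H20.Blk H20.Orth H20.Ind H20.Height H20.Defect H80.BR1 H80.BR2 H19.Second H19.Second3 H81.Section H81.Contrib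
open H84.Star H84.Wat H80.BR7 H84.FR H84.FL H20.BrT
open scoped ComplexConjugate
attribute [local instance 2000] Fintype.ofFinite

variable {M : Ideal AlgInt} [M.IsMaximal] {G : Type u} [Group G] [Finite G] {p : ℕ}
variable [Fact p.Prime] [CharP (ResF M) p] [Algebra (ZMod p) (ResF M)] [Algebra.IsAlgebraic (ZMod p) (ResF M)]
variable {B : Set (IrrCharacter G)} {P : Subgroup G} {e : MonoidAlgebra (ResF M) G}

/-- the local system of a block with abelian defect group and free action -/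
theorem exists_loc [IsAlgClosed (ResF M)] (hM : IsPModular p M) (hmax : IsMax p ⊤ (ebar M B) P e)
    (hB : IsPBlock M B) (hab : ∀ x ∈ P, ∀ y ∈ P, x * y = y * x) (hP1 : P ≠ ⊥)
    (hfree : ∀ g ∈ ST ⊤ P e, ∀ x ∈ P, x ≠ 1 → g * x * g⁻¹ = x → g ∈ Subgroup.centralizer (P : Set G)) :
    ∃ (S : ∀ x : P, BlkS M (x : G)) (φ : ∀ x : P, C (x : G) → ℂ) (R : IrrCharacter G → P → ℂ),
      Loc (p := p) B P e S φ R :=
  exists_loc_of_pure hM hmax hB hab hP1 hfree (H84.GP.pureA (sub_comm hab) Fact.out hmax.of.pair.pgr)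

theorem rank_le_free [IsAlgClosed (ResF M)] (hM : IsPModular p M) (hmax : IsMax p ⊤ (ebar M B) P e)
    (hB : IsPBlock M B) (hab : ∀ x ∈ P, ∀ y ∈ P, x * y = y * x) (hP1 : P ≠ ⊥)
    (hfree : ∀ g ∈ ST ⊤ P e, ∀ x ∈ P, x ≠ 1 → g * x * g⁻¹ = x → g ∈ Subgroup.centralizer (P : Set G)) :
    blockRank p B ≤ Nat.card (WT P e) := by
  obtain ⟨S, φ, R, hL⟩ := exists_loc hM hmax hB hab hP1 hfree
  exact rank_le_loc hM hmax hB hab hP1 hfree hL

theorem rank_eq_free [IsAlgClosed (ResF M)] (hM : IsPModular p M) (hmax : IsMax p ⊤ (ebar M B) P e)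
    (hB : IsPBlock M B) (hab : ∀ x ∈ P, ∀ y ∈ P, x * y = y * x) (hP1 : P ≠ ⊥)
    (hfree : ∀ g ∈ ST ⊤ P e, ∀ x ∈ P, x ≠ 1 → g * x * g⁻¹ = x → g ∈ Subgroup.centralizer (P : Set G))
    (he : Nat.card (WT P e) ≤ 3) : blockRank p B = Nat.card (WT P e) := by
  obtain ⟨S, φ, R, hL⟩ := exists_loc hM hmax hB hab hP1 hfree
  exact rank_eq_small hM hmax hB hab hP1 hfree hL he

/-- odd order automorphisms of a Klein four group act freely -/
theorem free_klein {P : Subgroup G} {e : MonoidAlgebra (ResF M) G} (hV : IsKleinFour P)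
    (hodd : ¬ 2 ∣ Nat.card (WT P e)) :
    ∀ g ∈ ST ⊤ P e, ∀ x ∈ P, x ≠ 1 → g * x * g⁻¹ = x → g ∈ Subgroup.centralizer (P : Set G) := by
  classical
  intro g hg x hx hx1 hgx
  set w : MulAut P := stHom ⊤ P e ⟨g, hg⟩ with hw
  have hwW : w ∈ WT P e := ⟨⟨g, hg⟩, rfl⟩
  set x' : P := ⟨x, hx⟩ with hx'
  have hx'1 : x' ≠ 1 := fun h => hx1 (congrArg Subtype.val h)
  have hwx : w x' = x' := Subtype.ext hgx
  have hsq : ∀ y : P, y * y = 1 := fun y => IsKleinFour.mul_self y
  have hcard : Nat.card P = 4 := IsKleinFour.card_four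
  -- `w` is an involution
  have hex : ∀ y z : P, y ≠ 1 → y ≠ x' → z ≠ 1 → z ≠ x' → z = y ∨ z = y * x' := by
    intro y z hy1 hy2 hz1 hz2
    by_contra hcon
    push Not at hcon
    have h1 : y * x' ≠ 1 := by
      intro h
      apply hy2
      have := congrArg (fun t => t * x') h
      simpa [mul_assoc, hsq] using this
    have h2 : y * x' ≠ x' := fun h => hy1 (mul_eq_right.1 h)
    have h3 : y * x' ≠ y := fun h => hx'1 (mul_eq_left.1 h)
    have h4 : ({1, x', y, y * x', z} : Finset P).card = 5 := by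
      rw [Finset.card_insert_of_notMem, Finset.card_insert_of_notMem, Finset.card_insert_of_notMem,
        Finset.card_insert_of_notMem, Finset.card_singleton]
      · simp only [Finset.mem_singleton]; exact fun h => hcon.2 h.symm
      · simp only [Finset.mem_insert, Finset.mem_singleton, not_or]
        exact ⟨fun h => h3 h.symm, fun h => hcon.1 h.symm⟩
      · simp only [Finset.mem_insert, Finset.mem_singleton, not_or]
        exact ⟨fun h => hy2 h.symm, fun h => h2 h.symm, fun h => hz2 h.symm⟩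
      · simp only [Finset.mem_insert, Finset.mem_singleton, not_or]
        exact ⟨fun h => hx'1 h.symm, fun h => hy1 h.symm, fun h => h1 h.symm, fun h => hz1 h.symm⟩
    have h5 := Finset.card_le_univ ({1, x', y, y * x', z} : Finset P)
    rw [h4, ← Nat.card_eq_fintype_card, hcard] at h5
    omega
  have hinv : w * w = 1 := by
    ext y
    rw [MulAut.mul_apply, MulAut.one_apply]
    congr 1
    by_cases hy1 : y = 1
    · rw [hy1, map_one, map_one]
    by_cases hy2 : y = x'
    · rw [hy2, hwx, hwx]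
    have h1 : w y ≠ 1 := fun h => hy1 ((MulEquiv.map_eq_one_iff w).1 h)
    have h2 : w y ≠ x' := by
      intro h
      apply hy2
      apply w.injective
      rw [h, hwx]
    rcases hex y (w y) hy1 hy2 h1 h2 with h | h
    · rw [h, h]
    · rw [h, map_mul, h, hwx, mul_assoc, hsq, mul_one]
  have hw1 : w = 1 := by
    have h1 : orderOf (⟨w, hwW⟩ : WT P e) ∣ 2 := orderOf_dvd_of_pow_eq_one (by
      apply Subtype.ext
      show w ^ 2 = 1
      rw [sq]; exact hinv)
    have h2 : orderOf (⟨w, hwW⟩ : WT P e) ∣ Nat.card (WT P e) := orderOf_dvd_natCard _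
    have h3 : orderOf (⟨w, hwW⟩ : WT P e) ∣ 1 := by
      have h4 : (Nat.card (WT P e)).Coprime 2 := (Nat.prime_two.coprime_iff_not_dvd.2 hodd).symm
      have h5 := Nat.dvd_gcd h2 h1
      rwa [h4] at h5
    have h4 := orderOf_eq_one_iff.1 (Nat.dvd_one.1 h3)
    exact congrArg Subtype.val h4
  rw [Subgroup.mem_centralizer_iff]
  intro y hy
  have h1 : w ⟨y, hy⟩ = ⟨y, hy⟩ := by rw [hw1]; rfl
  have h2 : g * y * g⁻¹ = y := congrArg Subtype.val h1
  calc y * g = (g * y * g⁻¹) * g := by rw [h2]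
    _ = g * y := by group

end H84.GL
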