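import Mathlib
import Cfsg.Agent.Lib.H84.FR1
import Cfsg.Agent.Lib.H84.FixField

/-!
# Generalized characters of abelian groups whose values are integers times units of absolute value one
-/

set_option autoImplicit false
set_option linter.unusedSectionVars false
set_option linter.unusedVariables false
set_option linter.style.haveILetI false

universe v

namespace H84.GP

open Cfsg H5.PBb H18.CharOrtho H18.CharBasic H84.FR
open scoped ComplexConjugate
attribute [local instance 2000] Fintype.ofFinite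

variable {A : Type v} [Group A] [Finite A]

/-- Fourier expansion -/
theorem fourier [Finite (A →* ℂˣ)] (hA : ∀ a b : A, a * b = b * a) (f : A → ℂ) :
    f = ∑ ψ : A →* ℂˣ, classInner f (lf ψ) • lf ψ := by
  conv_lhs => rw [mem_classFun_expand (class_of_comm hA f)]
  symm
  refine Fintype.sum_bijective (fun ψ : A →* ℂˣ => (⟨lf ψ, lf_irr ψ⟩ : IrrCharacter A)) ⟨?_, ?_⟩ _ _ fun ψ => rfl
  · intro ψ φ h
    exact lf_inj (congrArg Subtype.val h)
  · intro χ
    obtain ⟨ψ, hψ⟩ := exists_hom_of_isIrr_of_comm hA χ.2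
    exact ⟨ψ, Subtype.ext hψ.symm⟩

theorem parseval' [Finite (A →* ℂˣ)] (hA : ∀ a b : A, a * b = b * a) (f : A → ℂ) :
    classInner f f = ∑ ψ : A →* ℂˣ, classInner f (lf ψ) * conj (classInner f (lf ψ)) := by
  conv_lhs => rw [fourier hA f]
  rw [inner_sum_left]
  refine Finset.sum_congr rfl fun ψ _ => ?_
  rw [H18.CharOrtho.inner_smul_left, ← fourier hA f, H18.CharOrtho.inner_conj_symm]

/-- integers from Galois invariance -/
theorem int_of_fixed {z : ℂ} (hz : IsIntegral ℤ z) (h : ∀ σ : ℂ ≃+* ℂ, σ z = z) : ∃ n : ℤ, z = n := by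
  have hq : z ∈ (⊥ : IntermediateField ℚ ℂ) := by
    by_contra hne
    have hc : Countable (⊥ : IntermediateField ℚ ℂ) :=
      (IntermediateField.botEquiv ℚ ℂ).toEquiv.countable_iff.2 inferInstance
    have hz' : IsIntegral (⊥ : IntermediateField ℚ ℂ) z := by
      have h1 : IsIntegral ℚ z := hz.tower_top
      exact h1.tower_top
    obtain ⟨σ, -, h2⟩ := H84.FixField.exists_auto ⊥ hz' hne
    exact h2 (h σ)
  obtain ⟨q, hq⟩ := IntermediateField.mem_bot.1 hq
  have hq' : z = ((q : ℚ) : ℂ) := by rw [← hq]; simp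
  rw [hq'] at hz
  have h1 : IsIntegral ℤ q := by
    have := (isIntegral_algebraMap_iff (R := ℤ) (A := ℚ) (B := ℂ)
      (FaithfulSMul.algebraMap_injective ℚ ℂ) (x := q)).mp (by simpa using hz)
    exact this
  obtain ⟨n, hn⟩ := IsIntegrallyClosed.isIntegral_iff.1 h1
  exact ⟨n, by rw [hq', ← hn]; simp⟩

section gal

variable {σ : ℂ ≃+* ℂ} {k : ℕ}

theorem gal_lf (hk : ∀ z : ℂ, z ^ Nat.card A = 1 → σ z = z ^ k) (ψ : A →* ℂˣ) (x : A) :
    σ (lf ψ x) = lf ψ (x ^ k) := by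
  have h1 : (lf ψ x) ^ Nat.card A = 1 := by
    show ((ψ x : ℂˣ) : ℂ) ^ Nat.card A = 1
    rw [← Units.val_pow_eq_pow_val, ← map_pow, pow_card_eq_one', map_one, Units.val_one]
  rw [hk _ h1]
  show ((ψ x : ℂˣ) : ℂ) ^ k = ((ψ (x ^ k) : ℂˣ) : ℂ)
  rw [map_pow, Units.val_pow_eq_pow_val]

theorem gal_gen (hA : ∀ a b : A, a * b = b * a) (hk : ∀ z : ℂ, z ^ Nat.card A = 1 → σ z = z ^ k)
    {f : A → ℂ} (hf : IsGeneralizedCharacter A f) (x : A) : σ (f x) = f (x ^ k) := by
  have := finite_hom hA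
  have h := fourier hA f
  have h1 : ∀ y, f y = ∑ ψ : A →* ℂˣ, classInner f (lf ψ) * lf ψ y := by
    intro y
    conv_lhs => rw [h]
    rw [Finset.sum_apply]
    rfl
  rw [h1 x, h1 (x ^ k), map_sum]
  refine Finset.sum_congr rfl fun ψ _ => ?_
  obtain ⟨n, hn⟩ := inner_gen_intCast hf (isGen_of_isIrr (lf_irr ψ))
  rw [map_mul, gal_lf hk, hn, map_intCast]

end gal

theorem isIntegral_conj {z : ℂ} (hz : IsIntegral ℤ z) : IsIntegral ℤ (conj z) :=
  hz.map (starRingEnd ℂ).toIntAlgHom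

theorem gen_comp_pow (hA : ∀ a b : A, a * b = b * a) {f : A → ℂ} (hf : IsGeneralizedCharacter A f) (m : ℕ) :
    IsGeneralizedCharacter A (fun x => f (x ^ m)) := by
  obtain ⟨α, β, hα, hβ, rfl⟩ := hf
  exact ⟨_, _, isCharacter_comp (⟨⟨fun x => x ^ m, one_pow m⟩, fun x y => (Commute.mul_pow (hA x y) m)⟩ : A →* A) hα,
    isCharacter_comp (⟨⟨fun x => x ^ m, one_pow m⟩, fun x y => (Commute.mul_pow (hA x y) m)⟩ : A →* A) hβ, rfl⟩

end H84.GP
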