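import Mathlib
import Cfsg.Agent.Lib.H84.GP1
import Cfsg.Agent.Lib.H84.FL8

/-!
# Generalized characters of abelian groups with values `c(x) v(x)⁻¹`
-/

set_option autoImplicit false
set_option linter.unusedSectionVars false
set_option linter.unusedVariables false
set_option linter.style.haveILetI false

universe v

namespace H84.GP

open Cfsg H5.PBb H18.CharOrtho H18.CharBasic H84.FR
open scoped ComplexConjugate
attribute [local instance 2000] Fintype.ofFinite

variable {A : Type v} [Group A] [Finite A]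

/-- generalized characters whose values are prime to `p` integers, up to units of absolute value one -/
structure Cv (p : ℕ) (f : A → ℂ) (c : A → ℤ) (v : A → ℂ) : Prop where
  gen : IsGeneralizedCharacter A f
  cop : ∀ x, ¬ (p : ℤ) ∣ c x
  inv : ∀ x, ∀ m : ℕ, m.Coprime p → c (x ^ m) = c x
  int : ∀ x, IsIntegral ℤ (v x)
  nrm : ∀ x, v x * conj (v x) = 1
  mul : ∀ x, f x * v x = c x

namespace Cv

variable {p : ℕ} {f : A → ℂ} {c : A → ℤ} {v : A → ℂ}

theorem c_ne (h : Cv p f c v) (x : A) : (c x : ℂ) ≠ 0 := by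
  intro h0
  have h1 : c x = 0 := by exact_mod_cast h0
  apply h.cop x
  rw [h1]; exact dvd_zero _

theorem v_ne (h : Cv p f c v) (x : A) : v x ≠ 0 := by
  intro h0
  have h1 := h.nrm x
  rw [h0, zero_mul] at h1
  exact zero_ne_one h1

theorem f_eq (h : Cv p f c v) (x : A) : f x = c x * conj (v x) := by
  have h1 := h.mul x
  calc f x = f x * (v x * conj (v x)) := by rw [h.nrm, mul_one]
    _ = (f x * v x) * conj (v x) := by ring
    _ = _ := by rw [h1]

theorem f_ne (h : Cv p f c v) (x : A) : f x ≠ 0 := by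
  intro h0
  have h1 := h.mul x
  rw [h0, zero_mul] at h1
  exact h.c_ne x h1.symm

theorem f_conj (h : Cv p f c v) (x : A) : f x * conj (f x) = (c x : ℂ) ^ 2 := by
  rw [h.f_eq x, map_mul, map_intCast, Complex.conj_conj]
  have h1 := h.nrm x
  calc (c x : ℂ) * conj (v x) * ((c x : ℂ) * v x) = (c x : ℂ) ^ 2 * (v x * conj (v x)) := by ring
    _ = _ := by rw [h1, mul_one]

/-- the multiplier -/
noncomputable def eta (v : A → ℂ) (m : ℕ) (x : A) : ℂ := conj (v (x ^ m)) * v x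

theorem eta_mul (h : Cv p f c v) {m : ℕ} (hm : m.Coprime p) (x : A) : eta v m x * f x = f (x ^ m) := by
  rw [eta, h.f_eq (x ^ m), h.inv x m hm]
  have h1 := h.mul x
  calc conj (v (x ^ m)) * v x * f x = conj (v (x ^ m)) * (f x * v x) := by ring
    _ = _ := by rw [h1]; ring

theorem eta_int (h : Cv p f c v) (m : ℕ) (x : A) : IsIntegral ℤ (eta v m x) :=
  (isIntegral_conj (h.int _)).mul (h.int _)

theorem eta_nrm (h : Cv p f c v) (m : ℕ) (x : A) : eta v m x * conj (eta v m x) = 1 := by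
  rw [eta, map_mul, Complex.conj_conj]
  calc conj (v (x ^ m)) * v x * (v (x ^ m) * conj (v x)) =
      (v (x ^ m) * conj (v (x ^ m))) * (v x * conj (v x)) := by ring
    _ = 1 := by rw [h.nrm, h.nrm, mul_one]

theorem conj_lf (ψ : A →* ℂˣ) (x : A) : conj (lf ψ x) = lf ψ⁻¹ x := by
  have h1 := H84.FL.norm_unit ψ x
  show conj ((ψ x : ℂˣ) : ℂ) = ((ψ⁻¹ x : ℂˣ) : ℂ)
  rw [MonoidHom.inv_apply, Units.val_inv_eq_inv_val]
  exact eq_inv_of_mul_eq_one_right h1

theorem eta_gal (h : Cv p f c v) (hA : ∀ a b : A, a * b = b * a) {σ : ℂ ≃+* ℂ} {k : ℕ}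
    (hk : ∀ z : ℂ, z ^ Nat.card A = 1 → σ z = z ^ k) {m : ℕ} (hm : m.Coprime p) (x : A) :
    σ (eta v m x) = eta v m (x ^ k) := by
  have h1 := h.eta_mul hm x
  have h2 := h.eta_mul hm (x ^ k)
  have h3 := congrArg σ h1
  rw [map_mul, gal_gen hA hk h.gen, gal_gen hA hk h.gen] at h3
  apply mul_right_cancel₀ (h.f_ne (x ^ k))
  rw [h3, h2, ← pow_mul, ← pow_mul, mul_comm]

theorem coef_gal (h : Cv p f c v) (hA : ∀ a b : A, a * b = b * a) {m : ℕ} (hm : m.Coprime p) (ψ : A →* ℂˣ)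
    (σ : ℂ ≃+* ℂ) : σ (classInner (eta v m) (lf ψ)) = classInner (eta v m) (lf ψ) := by
  obtain ⟨k, hkc, hk⟩ := H84.FixField.exists_pow (n := Nat.card A) Nat.card_pos.ne' σ
  rw [classInner, map_mul, map_inv₀, map_natCast, map_sum]
  congr 1
  refine Fintype.sum_equiv (powCoprime hkc.symm) _ _ fun x => ?_
  rw [map_mul, h.eta_gal hA hk hm, conj_lf, conj_lf, gal_lf hk]
  rfl

theorem eta_coef_int (h : Cv p f c v) (hA : ∀ a b : A, a * b = b * a) (hp : p.Prime) {a : ℕ}
    (hAp : Nat.card A = p ^ a) {m : ℕ} (hm : m.Coprime p) (ψ : A →* ℂˣ) :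
    IsIntegral ℤ (classInner (eta v m) (lf ψ)) := by
  set n := Nat.card A with hn
  set F : A → ℂ := fun x => f x * conj (f x) with hF
  have hFg : IsGeneralizedCharacter A F := isGen_mul h.gen (isGen_conj h.gen)
  have hφ : 0 < Nat.totient n := Nat.totient_pos.2 Nat.card_pos
  have hE : ∀ x, ∃ k : ℤ, (c x ^ 2) ^ Nat.totient n = 1 + n * k := by
    intro x
    have h1 : IsCoprime (c x ^ 2) (n : ℤ) := by
      rw [hAp]
      push_cast
      apply IsCoprime.pow
      exact ((Nat.prime_iff_prime_int.1 hp).coprime_iff_not_dvd.2 (h.cop x)).symm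
    have h3 : (c x ^ 2) ^ Nat.totient n ≡ 1 [ZMOD (n : ℤ)] := by
      have h4 : IsUnit ((c x ^ 2 : ℤ) : ZMod n) := (ZMod.coe_int_isUnit_iff_isCoprime _ _).2 h1.symm
      obtain ⟨u, hu⟩ := h4
      have h5 := ZMod.pow_totient u
      rw [← ZMod.intCast_eq_intCast_iff]
      push_cast
      have h6 := congrArg (fun w : (ZMod n)ˣ => (w : ZMod n)) h5
      simp only [Units.val_pow_eq_pow_val, hu, Units.val_one] at h6
      push_cast at h6
      exact h6
    obtain ⟨k, hk⟩ := h3.symm.dvd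
    exact ⟨k, by linarith⟩
  choose k hk using hE
  have hsucc : Nat.totient n = (Nat.totient n - 1) + 1 := by omega
  set g : A → ℂ := fun x => f (x ^ m) * conj (f x) * F x ^ (Nat.totient n - 1) with hg
  have hFp : ∀ j : ℕ, IsGeneralizedCharacter A (fun x => F x ^ j) := by
    intro j
    induction j with
    | zero => simpa using isGen_one (G := A)
    | succ j ih =>
      have h1 := isGen_mul ih hFg
      have h2 : (fun x => F x ^ (j + 1)) = (fun x => F x ^ j) * F := by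
        funext x; rw [pow_succ]; rfl
      rw [h2]; exact h1
  have hgg : IsGeneralizedCharacter A g :=
    isGen_mul (isGen_mul (gen_comp_pow hA h.gen m) (isGen_conj h.gen)) (hFp _)
  obtain ⟨N, hN⟩ := inner_gen_intCast hgg (isGen_of_isIrr (lf_irr ψ))
  have hgx : ∀ x, g x = eta v m x * (1 + n * k x) := by
    intro x
    have h1 : F x = (c x : ℂ) ^ 2 := h.f_conj x
    have h2 : ((c x : ℂ) ^ 2) ^ Nat.totient n = 1 + n * k x := by exact_mod_cast hk x
    show f (x ^ m) * conj (f x) * F x ^ (Nat.totient n - 1) = _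
    rw [← h.eta_mul hm x, ← h2, ← h1]
    conv_rhs => rw [hsucc, pow_succ]
    rw [show F x = f x * conj (f x) from rfl]
    ring
  have hn0 : (n : ℂ) ≠ 0 := by exact_mod_cast (Nat.card_pos (α := A)).ne'
  have h3 : classInner (eta v m) (lf ψ) = N - ∑ x : A, (k x : ℂ) * eta v m x * conj (lf ψ x) := by
    rw [← hN, classInner, classInner, eq_sub_iff_add_eq]
    have h4 : ∑ x : A, (k x : ℂ) * eta v m x * conj (lf ψ x) =
        (n : ℂ)⁻¹ * ∑ x : A, (n : ℂ) * ((k x : ℂ) * eta v m x * conj (lf ψ x)) := by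
      rw [← Finset.mul_sum, ← mul_assoc, inv_mul_cancel₀ hn0, one_mul]
    rw [h4, ← mul_add, ← Finset.sum_add_distrib]
    congr 1
    refine Finset.sum_congr rfl fun x _ => ?_
    rw [hgx x]; ring
  rw [h3]
  refine IsIntegral.sub (isIntegral_algebraMap (R := ℤ) (x := N)) ?_
  refine IsIntegral.sum _ fun x _ => ?_
  refine ((isIntegral_algebraMap (R := ℤ) (x := k x)).mul (h.eta_int m x)).mul ?_
  rw [conj_lf]
  exact H84.FL.int_unit ψ⁻¹ x

/-- the multiplier is a homomorphism -/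
theorem exists_lam (h : Cv p f c v) (hA : ∀ a b : A, a * b = b * a) (hp : p.Prime) {a : ℕ}
    (hAp : Nat.card A = p ^ a) {m : ℕ} (hm : m.Coprime p) :
    ∃ l : A →* ℂˣ, ∀ x, f (x ^ m) = (l x : ℂ) * f x := by
  classical
  have hfin := finite_hom hA
  have hex : ∀ ψ : A →* ℂˣ, ∃ n : ℤ, classInner (eta v m) (lf ψ) = n := fun ψ =>
    int_of_fixed (h.eta_coef_int hA hp hAp hm ψ) (h.coef_gal hA hm ψ)
  choose b hb using hex
  have h1 : classInner (eta v m) (eta v m) = 1 := by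
    rw [classInner]
    simp only [h.eta_nrm]
    have hn0 : (Nat.card A : ℂ) ≠ 0 := by exact_mod_cast (Nat.card_pos (α := A)).ne'
    rw [Finset.sum_const, Finset.card_univ, ← Nat.card_eq_fintype_card, nsmul_eq_mul, mul_one, inv_mul_cancel₀ hn0]
  rw [parseval' hA] at h1
  have h2 : ∑ ψ : A →* ℂˣ, b ψ ^ 2 = 1 := by
    have h3 : ((∑ ψ : A →* ℂˣ, b ψ ^ 2 : ℤ) : ℂ) = ((1 : ℤ) : ℂ) := by
      rw [Int.cast_one, ← h1]
      push_cast
      refine Finset.sum_congr rfl fun ψ _ => ?_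
      rw [hb, map_intCast, sq]
    exact_mod_cast h3
  obtain ⟨ψ0, hψ0⟩ : ∃ ψ0 : A →* ℂˣ, b ψ0 ≠ 0 := by
    by_contra hcon
    push Not at hcon
    rw [Finset.sum_eq_zero (fun ψ _ => by rw [hcon ψ]; norm_num)] at h2
    exact zero_ne_one h2
  rw [← Finset.add_sum_erase _ _ (Finset.mem_univ ψ0)] at h2
  have h3 : 0 ≤ ∑ ψ ∈ Finset.univ.erase ψ0, b ψ ^ 2 := Finset.sum_nonneg fun ψ _ => sq_nonneg _
  have h4 : 1 ≤ b ψ0 ^ 2 := by
    have : 0 < b ψ0 ^ 2 := by positivity
    omega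
  have h5 : ∑ ψ ∈ Finset.univ.erase ψ0, b ψ ^ 2 = 0 := by omega
  have h6 : ∀ ψ, ψ ≠ ψ0 → b ψ = 0 := by
    intro ψ hψ
    have := (Finset.sum_eq_zero_iff_of_nonneg (fun ψ _ => sq_nonneg (b ψ))).1 h5 ψ
      (Finset.mem_erase.2 ⟨hψ, Finset.mem_univ _⟩)
    exact pow_eq_zero_iff (two_ne_zero) |>.1 this
  have h7 : ∀ x, eta v m x = b ψ0 * lf ψ0 x := by
    intro x
    have h8 := congrFun (fourier hA (eta v m)) x
    rw [h8, Finset.sum_apply, Finset.sum_eq_single ψ0]
    · rw [Pi.smul_apply, smul_eq_mul, hb]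
    · intro ψ _ hψ
      rw [hb, h6 ψ hψ, Int.cast_zero, zero_smul]; rfl
    · intro h; exact absurd (Finset.mem_univ _) h
  have h8 : (b ψ0 : ℂ) = 1 := by
    have h9 := h7 1
    rw [eta, one_pow, mul_comm, h.nrm] at h9
    have h10 : lf ψ0 1 = 1 := by
      show ((ψ0 1 : ℂˣ) : ℂ) = 1
      rw [map_one, Units.val_one]
    rw [h10, mul_one] at h9
    exact h9.symm
  refine ⟨ψ0, fun x => ?_⟩
  rw [← h.eta_mul hm x, h7 x, h8, one_mul]
  rfl

end Cv

end H84.GP
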