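import Mathlib
import Cfsg.Agent.Lib.H84.GP2
import Cfsg.Agent.Lib.H78.Cong

/-!
# Untwisting
-/

set_option autoImplicit false
set_option linter.unusedSectionVars false
set_option linter.unusedVariables false
set_option linter.style.haveILetI false

universe v

namespace H84.GP

open Cfsg H5.PBb H18.CharOrtho H18.CharBasic H84.FR
open scoped ComplexConjugate
attribute [local instance 2000] Fintype.ofFinite

variable {A : Type v} [Group A] [Finite A]

namespace Cv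

variable {p : ℕ} {f : A → ℂ} {c : A → ℤ} {v : A → ℂ}

/-- twisting by a linear character -/
theorem twist (h : Cv p f c v) (l : A →* ℂˣ) :
    Cv p (fun x => ((l⁻¹ : A →* ℂˣ) x : ℂ) * f x) c (fun x => (l x : ℂ) * v x) where
  gen := isGen_mul (isGen_of_isIrr (lf_irr l⁻¹)) h.gen
  cop := h.cop
  inv := h.inv
  int x := (H84.FL.int_unit l x).mul (h.int x)
  nrm x := by
    rw [map_mul]
    calc (l x : ℂ) * v x * (conj (l x : ℂ) * conj (v x)) = ((l x : ℂ) * conj (l x : ℂ)) * (v x * conj (v x)) := by ring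
      _ = 1 := by rw [H84.FL.norm_unit, h.nrm, mul_one]
  mul x := by
    have h1 : ((l x : ℂˣ) : ℂ) ≠ 0 := Units.ne_zero _
    rw [MonoidHom.inv_apply, Units.val_inv_eq_inv_val, ← h.mul x]
    field_simp

theorem untwist_odd (h : Cv p f c v) (hA : ∀ a b : A, a * b = b * a) (hp : p.Prime) {a : ℕ}
    (hAp : Nat.card A = p ^ a) (hp2 : p ≠ 2) :
    ∃ l : A →* ℂˣ, ∀ m : ℕ, m.Coprime p → ∀ x,
      ((l⁻¹ : A →* ℂˣ) (x ^ m) : ℂ) * f (x ^ m) = ((l⁻¹ : A →* ℂˣ) x : ℂ) * f x := by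
  have h2p : (2 : ℕ).Coprime p := (Nat.coprime_primes Nat.prime_two hp).2 (Ne.symm hp2)
  obtain ⟨l, hl⟩ := h.exists_lam hA hp hAp h2p
  have h' := h.twist l
  have hsq : ∀ x, ((l⁻¹ : A →* ℂˣ) (x ^ 2) : ℂ) * f (x ^ 2) = ((l⁻¹ : A →* ℂˣ) x : ℂ) * f x := by
    intro x
    rw [hl x, map_pow, Units.val_pow_eq_pow_val, MonoidHom.inv_apply, Units.val_inv_eq_inv_val]
    have h1 : ((l x : ℂˣ) : ℂ) ≠ 0 := Units.ne_zero _
    field_simp
  refine ⟨l, fun m hm x => ?_⟩
  obtain ⟨k, hk⟩ := h'.exists_lam hA hp hAp hm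
  have h1 := hk (x ^ 2)
  beta_reduce at hk h1
  rw [← pow_mul, mul_comm 2 m, pow_mul, hsq, hsq, hk x] at h1
  have h2 := h'.f_ne x
  beta_reduce at h2
  have h3 : ((k x : ℂˣ) : ℂ) = 1 := by
    have h4 := mul_right_cancel₀ h2 h1
    rw [map_pow, Units.val_pow_eq_pow_val, sq] at h4
    have h5 : ((k x : ℂˣ) : ℂ) ≠ 0 := Units.ne_zero _
    have h6 : ((k x : ℂˣ) : ℂ) * 1 = (k x : ℂ) * (k x : ℂ) := by rw [mul_one]; exact h4
    exact (mul_left_cancel₀ h5 h6).symm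
  rw [hk x, h3, one_mul]

theorem untwist_two (h : Cv 2 f c v) (hA : ∀ a b : A, a * b = b * a) {a : ℕ}
    (hAp : Nat.card A = 2 ^ a) (h1 : f 1 = c 1) :
    ∃ l : A →* ℂˣ, ∀ m : ℕ, m.Coprime 2 → ∀ x,
      ((l⁻¹ : A →* ℂˣ) (x ^ m) : ℂ) * f (x ^ m) = ((l⁻¹ : A →* ℂˣ) x : ℂ) * f x := by
  classical
  have hfin := finite_hom hA
  rcases Nat.eq_zero_or_pos a with ha | ha
  · -- trivial group
    subst ha
    rw [pow_zero] at hAp
    have hs : Subsingleton A := (Nat.card_eq_one_iff_unique.1 hAp).1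
    exact ⟨1, fun m hm x => by rw [Subsingleton.elim (x ^ m) x]⟩
  set n := Nat.card A with hn
  have hn2 : 2 ∣ n := by rw [hAp]; exact dvd_pow_self 2 ha.ne'
  have hn0 : NeZero n := ⟨Nat.card_pos.ne'⟩
  have hcop : ∀ u : (ZMod n)ˣ, (u : ZMod n).val.Coprime 2 := fun u =>
    Nat.Coprime.coprime_dvd_right hn2 (ZMod.val_coe_unit_coprime u)
  choose lam hlam using fun u : (ZMod n)ˣ => h.exists_lam hA Nat.prime_two hAp (hcop u)
  have hpw : ∀ (x : A) (k l : ℕ), (k : ZMod n) = l → x ^ k = x ^ l := by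
    intro x k l hkl
    rw [ZMod.natCast_eq_natCast_iff] at hkl
    exact pow_eq_pow_iff_modEq.2 (hkl.of_dvd (orderOf_dvd_natCard x))
  have hpwh : ∀ (ψ : A →* ℂˣ) (k l : ℕ), (k : ZMod n) = l → ψ ^ k = ψ ^ l := by
    intro ψ k l hkl
    ext x
    rw [MonoidHom.pow_apply, MonoidHom.pow_apply, ← map_pow, ← map_pow, hpw x k l hkl]
  have hlam1 : lam 1 = 1 := by
    ext x
    have h2 := hlam 1 x
    rw [hpw x ((1 : (ZMod n)ˣ) : ZMod n).val 1 (by rw [ZMod.natCast_zmod_val]; simp), pow_one] at h2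
    have h3 : (1 : ℂ) * f x = (lam 1 x : ℂ) * f x := by rw [one_mul]; exact h2
    exact (mul_right_cancel₀ (h.f_ne x) h3).symm
  have hlamm : ∀ u w : (ZMod n)ˣ, lam (u * w) = lam w ^ (u : ZMod n).val * lam u := by
    intro u w
    ext x
    have h2 := hlam (u * w) x
    have h3 := hlam w (x ^ (u : ZMod n).val)
    have h4 := hlam u x
    rw [← pow_mul] at h3
    rw [hpw x ((u * w : (ZMod n)ˣ) : ZMod n).val ((u : ZMod n).val * (w : ZMod n).val) (by
      rw [ZMod.natCast_zmod_val, Nat.cast_mul, ZMod.natCast_zmod_val, ZMod.natCast_zmod_val, Units.val_mul]),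
      h3, h4, ← mul_assoc] at h2
    have h5 := mul_right_cancel₀ (h.f_ne x) h2
    rw [← h5, MonoidHom.mul_apply, MonoidHom.pow_apply, Units.val_mul, Units.val_pow_eq_pow_val, map_pow,
      Units.val_pow_eq_pow_val]
  -- the coefficients
  have hex : ∀ ψ : A →* ℂˣ, ∃ k : ℤ, classInner f (lf ψ) = k := fun ψ =>
    inner_gen_intCast h.gen (isGen_of_isIrr (lf_irr ψ))
  choose b hb using hex
  have hT : ∀ (u : (ZMod n)ˣ) (ψ : A →* ℂˣ), b ((lam u)⁻¹ * ψ ^ (u : ZMod n).val) = b ψ := by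
    intro u ψ
    have h2 : classInner f (lf ((lam u)⁻¹ * ψ ^ (u : ZMod n).val)) = classInner f (lf ψ) := by
      rw [classInner, classInner]
      congr 1
      refine Fintype.sum_equiv (powCoprime (ZMod.val_coe_unit_coprime u).symm) _ _ fun x => ?_
      show _ = f (x ^ (u : ZMod n).val) * conj (lf ψ (x ^ (u : ZMod n).val))
      rw [hlam u x]
      show f x * conj ((((lam u)⁻¹ * ψ ^ (u : ZMod n).val) x : ℂˣ) : ℂ) =
        (lam u x : ℂ) * f x * conj ((ψ (x ^ (u : ZMod n).val) : ℂˣ) : ℂ)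
      rw [MonoidHom.mul_apply, MonoidHom.pow_apply, ← map_pow, Units.val_mul, map_mul, MonoidHom.inv_apply,
        Units.val_inv_eq_inv_val, map_inv₀]
      have h3 := H84.FL.norm_unit (lam u) x
      have h4 : (conj ((lam u x : ℂˣ) : ℂ))⁻¹ = (lam u x : ℂ) := (eq_inv_of_mul_eq_one_left h3).symm
      rw [h4]; ring
    rw [hb, hb] at h2
    exact_mod_cast h2
  let X := {ψ : A →* ℂˣ // Odd (b ψ)}
  let act : MulAction (ZMod n)ˣ X :=
    { smul := fun u ψ => ⟨(lam u)⁻¹ * ψ.1 ^ (u : ZMod n).val, by rw [hT]; exact ψ.2⟩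
      one_smul := by
        intro ψ
        apply Subtype.ext
        show (lam 1)⁻¹ * ψ.1 ^ ((1 : (ZMod n)ˣ) : ZMod n).val = ψ.1
        rw [hlam1, hpwh ψ.1 _ 1 (by rw [ZMod.natCast_zmod_val]; simp)]
        apply MonoidHom.ext
        intro x
        rw [MonoidHom.mul_apply, MonoidHom.inv_apply, MonoidHom.one_apply, inv_one, one_mul, MonoidHom.pow_apply, pow_one]
      mul_smul := by
        intro u w ψ
        apply Subtype.ext
        show (lam (u * w))⁻¹ * ψ.1 ^ ((u * w : (ZMod n)ˣ) : ZMod n).val =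
          (lam u)⁻¹ * ((lam w)⁻¹ * ψ.1 ^ (w : ZMod n).val) ^ (u : ZMod n).val
        rw [hlamm, hpwh ψ.1 _ ((w : ZMod n).val * (u : ZMod n).val) (by
          rw [ZMod.natCast_zmod_val, Nat.cast_mul, ZMod.natCast_zmod_val, ZMod.natCast_zmod_val, Units.val_mul,
            mul_comm])]
        apply MonoidHom.ext
        intro x
        simp only [MonoidHom.mul_apply, MonoidHom.inv_apply, MonoidHom.pow_apply]
        rw [mul_inv, mul_pow, inv_pow, ← pow_mul]
        rw [mul_comm (lam w x ^ (u : ZMod n).val)⁻¹, mul_assoc] }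
  have hP : IsPGroup 2 (ZMod n)ˣ := by
    apply IsPGroup.of_card (n := a - 1)
    rw [Nat.card_eq_fintype_card, ZMod.card_units_eq_totient, hAp, Nat.totient_prime_pow Nat.prime_two ha]
    norm_num
  have hcard : ¬ 2 ∣ Nat.card X := by
    have h2 : ∑ ψ : A →* ℂˣ, b ψ = c 1 := by
      have h3 : ((∑ ψ : A →* ℂˣ, b ψ : ℤ) : ℂ) = ((c 1 : ℤ) : ℂ) := by
        rw [← h1]
        have h4 := congrFun (fourier hA f) 1
        rw [h4, Finset.sum_apply]
        push_cast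
        refine Finset.sum_congr rfl fun ψ _ => ?_
        rw [Pi.smul_apply, smul_eq_mul, hb]
        show (b ψ : ℂ) = b ψ * ((ψ 1 : ℂˣ) : ℂ)
        rw [map_one, Units.val_one, mul_one]
      exact_mod_cast h3
    have h3 : (2 : ℤ) ∣ (∑ ψ : A →* ℂˣ, b ψ) - ∑ ψ : A →* ℂˣ, (if Odd (b ψ) then 1 else 0) := by
      rw [← Finset.sum_sub_distrib]
      refine Finset.dvd_sum fun ψ _ => ?_
      split_ifs with h4
      · obtain ⟨k, hk⟩ := h4; exact ⟨k, by rw [hk]; ring⟩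
      · rw [Int.not_odd_iff_even] at h4
        rw [sub_zero]; exact h4.two_dvd
    have h4 : ∑ ψ : A →* ℂˣ, (if Odd (b ψ) then (1 : ℤ) else 0) = Nat.card X := by
      rw [← Finset.sum_filter, Finset.sum_const, Nat.card_eq_fintype_card, Fintype.card_subtype]
      simp
    rw [h2, h4] at h3
    intro h5
    apply h.cop 1
    have h6 : (2 : ℤ) ∣ (Nat.card X : ℤ) := by exact_mod_cast h5
    have h7 := dvd_add h3 h6
    rw [sub_add_cancel] at h7
    exact_mod_cast h7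
  have hfp : Fact (Nat.Prime 2) := ⟨Nat.prime_two⟩
  obtain ⟨ψ0, hψ0⟩ := @IsPGroup.nonempty_fixed_point_of_prime_not_dvd_card 2 (ZMod n)ˣ _ hP hfp X act hcard
  have hfix : ∀ u : (ZMod n)ˣ, (lam u)⁻¹ * ψ0.1 ^ (u : ZMod n).val = ψ0.1 := fun u =>
    congrArg Subtype.val (hψ0 u)
  refine ⟨ψ0.1, fun m hm x => ?_⟩
  have hmn : m.Coprime n := by rw [hAp]; exact Nat.Coprime.pow_right a hm
  set u := ZMod.unitOfCoprime m hmn with hu
  have hum : ((u : ZMod n).val : ZMod n) = m := by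
    rw [ZMod.natCast_zmod_val]; exact ZMod.coe_unitOfCoprime m hmn
  have h2 := hfix u
  have h3 : lam u = ψ0.1 ^ m * ψ0.1⁻¹ := by
    rw [hpwh ψ0.1 _ m hum] at h2
    apply MonoidHom.ext
    intro y
    have h2' := DFunLike.congr_fun h2 y
    simp only [MonoidHom.mul_apply, MonoidHom.inv_apply, MonoidHom.pow_apply] at h2' ⊢
    rw [eq_mul_inv_iff_mul_eq]
    rw [inv_mul_eq_iff_eq_mul] at h2'
    exact h2'.symm
  have h4 := hlam u x
  rw [hpw x _ m hum, h3] at h4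
  have h5 : ((ψ0.1 x : ℂˣ) : ℂ) ≠ 0 := Units.ne_zero _
  have e1 : (((ψ0.1)⁻¹ : A →* ℂˣ) (x ^ m) : ℂ) = (((ψ0.1 x : ℂˣ) : ℂ) ^ m)⁻¹ := by
    rw [MonoidHom.inv_apply, map_pow, Units.val_inv_eq_inv_val, Units.val_pow_eq_pow_val]
  have e2 : f (x ^ m) = ((ψ0.1 x : ℂˣ) : ℂ) ^ m * ((ψ0.1 x : ℂˣ) : ℂ)⁻¹ * f x := by
    rw [h4, MonoidHom.mul_apply, MonoidHom.pow_apply, MonoidHom.inv_apply, Units.val_mul,
      Units.val_pow_eq_pow_val, Units.val_inv_eq_inv_val]
  have e3 : (((ψ0.1)⁻¹ : A →* ℂˣ) x : ℂ) = ((ψ0.1 x : ℂˣ) : ℂ)⁻¹ := by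
    rw [MonoidHom.inv_apply, Units.val_inv_eq_inv_val]
  rw [e1, e2, e3]
  have h6 : ((ψ0.1 x : ℂˣ) : ℂ) ^ m ≠ 0 := pow_ne_zero _ h5
  generalize ((ψ0.1 x : ℂˣ) : ℂ) ^ m = z at h6
  generalize ((ψ0.1 x : ℂˣ) : ℂ) = w at h5
  field_simp

/-- integer values -/
theorem exists_t (h : Cv p f c v) (hA : ∀ a b : A, a * b = b * a) (hp : p.Prime) {a : ℕ}
    (hAp : Nat.card A = p ^ a) (hf : ∀ m : ℕ, m.Coprime p → ∀ x, f (x ^ m) = f x) :
    ∃ t : A → ℤ, (∀ x, t x = 1 ∨ t x = -1) ∧ ∀ x, f x = t x * c x := by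
  have key : ∀ x, ∃ t : ℤ, (t = 1 ∨ t = -1) ∧ f x = t * c x := by
    intro x
    obtain ⟨g, hg⟩ : ∃ g : ℤ, f x = g := by
      apply int_of_fixed (gen_isIntegral h.gen x)
      intro σ
      obtain ⟨k, hkc, hk⟩ := H84.FixField.exists_pow (n := Nat.card A) Nat.card_pos.ne' σ
      rw [gal_gen hA hk h.gen]
      rcases Nat.eq_zero_or_pos a with ha | ha
      · subst ha
        rw [pow_zero] at hAp
        have hs : Subsingleton A := (Nat.card_eq_one_iff_unique.1 hAp).1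
        rw [Subsingleton.elim (x ^ k) x]
      · apply hf
        refine Nat.Coprime.coprime_dvd_right ?_ hkc
        rw [hAp]; exact dvd_pow_self p ha.ne'
    have h1 := h.f_conj x
    rw [hg, map_intCast] at h1
    have h2 : g * g = c x ^ 2 := by exact_mod_cast h1
    have h3 : (g - c x) * (g + c x) = 0 := by linear_combination h2
    rcases mul_eq_zero.1 h3 with h4 | h4
    · exact ⟨1, Or.inl rfl, by rw [hg]; have : g = c x := by linarith
                               rw [this]; push_cast; ring⟩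
    · exact ⟨-1, Or.inr rfl, by rw [hg]; have : g = - c x := by linarith
                                rw [this]; push_cast; ring⟩
  choose t ht using key
  exact ⟨t, fun x => (ht x).1, fun x => (ht x).2⟩

end Cv

/-- congruence of integer values -/
theorem gen_congr {p : ℕ} (hp : p.Prime) {a : ℕ} (hAp : Nat.card A = p ^ a) {f : A → ℂ}
    (hf : IsGeneralizedCharacter A f) {x : A} {g g1 : ℤ} (hg : f x = g) (hg1 : f 1 = g1) : (p : ℤ) ∣ g - g1 := by
  obtain ⟨M, hM⟩ := H78.Cong.exists_isPModular hp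
  have hpr := H20.Loc.pm_isPrime hM
  obtain ⟨α, β, hα, hβ, rfl⟩ := hf
  have hx : x ^ p ^ a = 1 := by rw [← hAp]; exact pow_card_eq_one'
  have h1 := H78.Cong.char_congr hM hα (g := x) (x := x) (y := 1) (Subgroup.mem_zpowers x) (one_mem _) hx
  have h2 := H78.Cong.char_congr hM hβ (g := x) (x := x) (y := 1) (Subgroup.mem_zpowers x) (one_mem _) hx
  have h3 := H20.Loc.locI_sub h1 h2
  rw [mul_one] at h3
  rw [← H20.Loc.locI_intCast_iff hM]
  rw [Pi.sub_apply] at hg hg1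
  have h4 : ((g - g1 : ℤ) : ℂ) = α x - α 1 - (β x - β 1) := by
    push_cast
    rw [← hg, ← hg1]; ring
  rw [h4]; exact h3

end H84.GP
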