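import Mathlib
import Cfsg.Agent.Lib.H84.GP3
import Cfsg.Agent.Lib.H84.GL4
import Cfsg.Agent.Lib.H84.CyclicNorm

/-!
# The prime two, and the pure statement
-/

set_option autoImplicit false
set_option linter.unusedSectionVars false
set_option linter.unusedVariables false
set_option linter.style.haveILetI false

universe v

namespace H84.GP

open Cfsg H5.PBb H18.CharOrtho H18.CharBasic H84.FR
open scoped ComplexConjugate
attribute [local instance 2000] Fintype.ofFinite

variable {A : Type v} [Group A] [Finite A]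

/-- the four term function -/
noncomputable def GG (x y : A) (ψ : A →* ℂˣ) : ℂ := 1 + (ψ x : ℂ) + (ψ y : ℂ) + (ψ (x * y) : ℂ)

theorem geom {w : ℂ} {L : ℕ} (h : w ^ L = 1) : ∑ c ∈ Finset.range L, w ^ c = L ∨ ∑ c ∈ Finset.range L, w ^ c = 0 := by
  by_cases hw : w = 1
  · left; rw [hw]; simp
  · right
    rw [geom_sum_eq hw, h, sub_self, zero_div]

theorem sum_GG_int {x y : A} {ψ : A →* ℂˣ} {k : ℕ} (h : ψ ^ (2 ^ k) = 1) :
    IsIntegral ℤ ((∑ c ∈ Finset.range (2 ^ k), GG x y (ψ ^ c)) / 4) := by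
  have hz : ∀ z : A, ((ψ z : ℂˣ) : ℂ) ^ (2 ^ k) = 1 := by
    intro z
    have h1 := DFunLike.congr_fun h z
    rw [MonoidHom.pow_apply, MonoidHom.one_apply] at h1
    rw [← Units.val_pow_eq_pow_val, h1, Units.val_one]
  have hG : ∀ c : ℕ, GG x y (ψ ^ c) = 1 + ((ψ x : ℂˣ) : ℂ) ^ c + ((ψ y : ℂˣ) : ℂ) ^ c + ((ψ (x * y) : ℂˣ) : ℂ) ^ c := by
    intro c
    rw [GG, MonoidHom.pow_apply, MonoidHom.pow_apply, MonoidHom.pow_apply, Units.val_pow_eq_pow_val,
      Units.val_pow_eq_pow_val, Units.val_pow_eq_pow_val]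
  rcases Nat.lt_or_ge k 2 with hk | hk
  · have hxy : ((ψ (x * y) : ℂˣ) : ℂ) = (ψ x : ℂ) * (ψ y : ℂ) := by rw [map_mul, Units.val_mul]
    interval_cases k
    · simp only [pow_zero, Finset.sum_range_one, hG]
      norm_num
      exact isIntegral_one
    · simp only [hG]
      have e : ∀ z : A, ((ψ z : ℂˣ) : ℂ) = 1 ∨ ((ψ z : ℂˣ) : ℂ) = -1 := by
        intro z
        have h1 := hz z
        rw [pow_one] at h1
        have h2 : (((ψ z : ℂˣ) : ℂ) - 1) * (((ψ z : ℂˣ) : ℂ) + 1) = 0 := by linear_combination h1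
        rcases mul_eq_zero.1 h2 with h3 | h3
        · left; linear_combination h3
        · right; linear_combination h3
      rw [pow_one, Finset.sum_range_succ, Finset.sum_range_one]
      simp only [pow_zero, pow_one]
      rw [hxy]
      have h2 : IsIntegral ℤ (1 : ℂ) := isIntegral_one
      have h3 : IsIntegral ℤ (2 : ℂ) := by
        have := h2.add h2
        norm_num at this
        exact this
      rcases e x with h4 | h4 <;> rcases e y with h5 | h5 <;> rw [h4, h5] <;> norm_num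
      all_goals first | exact h3 | exact h2
  · obtain ⟨j, rfl⟩ : ∃ j, k = j + 2 := ⟨k - 2, by omega⟩
    simp only [hG]
    rw [Finset.sum_add_distrib, Finset.sum_add_distrib, Finset.sum_add_distrib]
    have h1 : ∀ w : ℂ, w ^ (2 ^ (j + 2)) = 1 → IsIntegral ℤ ((∑ c ∈ Finset.range (2 ^ (j + 2)), w ^ c) / 4) := by
      intro w hw
      rcases geom hw with h2 | h2
      · rw [h2]
        have : (((2 ^ (j + 2) : ℕ) : ℂ)) / 4 = ((2 ^ j : ℕ) : ℂ) := by
          push_cast
          rw [pow_add]; ring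
        rw [this]
        have h3 := isIntegral_algebraMap (R := ℤ) (A := ℂ) (x := ((2 ^ j : ℕ) : ℤ))
        rwa [map_natCast] at h3
      · rw [h2, zero_div]; exact isIntegral_zero
    have h2 := h1 1 (one_pow _)
    simp only [one_pow] at h2
    rw [add_div, add_div, add_div]
    exact ((h2.add (h1 _ (hz x))).add (h1 _ (hz y))).add (h1 _ (hz (x * y)))

theorem mod_four (hA : ∀ a b : A, a * b = b * a) {a : ℕ} (hAp : Nat.card A = 2 ^ a) {f : A → ℂ}
    (hf : IsGeneralizedCharacter A f) (hinv : ∀ m : ℕ, m.Coprime 2 → ∀ x, f (x ^ m) = f x) {g : A → ℤ}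
    (hg : ∀ x, f x = g x) (x y : A) : (4 : ℤ) ∣ g 1 + g x + g y + g (x * y) := by
  classical
  have hfin := finite_hom hA
  have hex : ∀ ψ : A →* ℂˣ, ∃ k : ℤ, classInner f (lf ψ) = k := fun ψ =>
    inner_gen_intCast hf (isGen_of_isIrr (lf_irr ψ))
  choose b hb using hex
  have hbk : ∀ (ψ : A →* ℂˣ) (k : ℕ), k.Coprime 2 → b (ψ ^ k) = b ψ := by
    intro ψ k hk
    have hkc : (Nat.card A).Coprime k := by rw [hAp]; exact (Nat.Coprime.pow_right a hk).symm
    have h2 : classInner f (lf (ψ ^ k)) = classInner f (lf ψ) := by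
      rw [classInner, classInner]
      congr 1
      refine Fintype.sum_equiv (powCoprime hkc) _ _ fun z => ?_
      show f z * conj (((ψ ^ k) z : ℂˣ) : ℂ) = f (z ^ k) * conj ((ψ (z ^ k) : ℂˣ) : ℂ)
      rw [hinv k hk, MonoidHom.pow_apply, map_pow]
    rw [hb, hb] at h2
    exact_mod_cast h2
  have hexp : ∀ z, f z = ∑ ψ : A →* ℂˣ, (b ψ : ℂ) * (ψ z : ℂ) := by
    intro z
    have h4 := congrFun (fourier hA f) z
    rw [h4, Finset.sum_apply]
    refine Finset.sum_congr rfl fun ψ _ => ?_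
    rw [Pi.smul_apply, smul_eq_mul, hb]; rfl
  have hS : ((g 1 + g x + g y + g (x * y) : ℤ) : ℂ) = ∑ ψ : A →* ℂˣ, (b ψ : ℂ) * GG x y ψ := by
    push_cast
    rw [← hg, ← hg, ← hg, ← hg, hexp 1, hexp x, hexp y, hexp (x * y), ← Finset.sum_add_distrib,
      ← Finset.sum_add_distrib, ← Finset.sum_add_distrib]
    refine Finset.sum_congr rfl fun ψ _ => ?_
    rw [map_one, Units.val_one, GG]; ring
  have hcard : ∀ ψ : A →* ℂˣ, ψ ^ (2 ^ a) = 1 := by
    intro ψ
    apply MonoidHom.ext
    intro z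
    rw [MonoidHom.pow_apply, MonoidHom.one_apply, ← map_pow, ← hAp, pow_card_eq_one', map_one]
  have hint : IsIntegral ℤ (((g 1 + g x + g y + g (x * y) : ℤ) : ℂ) / 4) := by
    rw [hS, ← Finset.sum_fiberwise_of_maps_to (s := Finset.univ) (t := Finset.univ.image Subgroup.zpowers)
      (g := fun ψ : A →* ℂˣ => Subgroup.zpowers ψ) (fun ψ _ => Finset.mem_image_of_mem _ (Finset.mem_univ ψ)), Finset.sum_div]
    refine IsIntegral.sum _ fun Cc hC => ?_
    obtain ⟨ψ, -, rfl⟩ := Finset.mem_image.1 hC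
    rw [H84.CyclicNorm.sum_generators ψ (fun χ => (b χ : ℂ) * GG x y χ)]
    obtain ⟨k, -, hk⟩ := (Nat.dvd_prime_pow Nat.prime_two).1 (orderOf_dvd_of_pow_eq_one (hcard ψ))
    have h1 : ∑ c ∈ (Finset.range (orderOf ψ)).filter (fun c => c.Coprime (orderOf ψ)), (b (ψ ^ c) : ℂ) * GG x y (ψ ^ c) =
        (b ψ : ℂ) * ∑ c ∈ (Finset.range (orderOf ψ)).filter (fun c => c.Coprime (orderOf ψ)), GG x y (ψ ^ c) := by
      rw [Finset.mul_sum]
      refine Finset.sum_congr rfl fun c hc => ?_
      have hc' := (Finset.mem_filter.1 hc).2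
      rcases Nat.eq_zero_or_pos k with h0 | h0
      · subst h0
        rw [pow_zero, orderOf_eq_one_iff] at hk
        rw [hk, one_pow]
      · rw [hbk ψ c]
        refine Nat.Coprime.coprime_dvd_right ?_ hc'
        rw [hk]; exact dvd_pow_self 2 h0.ne'
    rw [h1, mul_div_assoc]
    refine (isIntegral_algebraMap (R := ℤ) (x := b ψ)).mul ?_
    have h2 := sum_GG_int (x := x) (y := y) (ψ := ψ) (k := k) (by rw [← hk]; exact pow_orderOf_eq_one ψ)
    rcases Nat.eq_zero_or_pos k with h0 | h0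
    · subst h0
      have e : (Finset.range (2 ^ 0)).filter (fun c => c.Coprime (2 ^ 0)) = Finset.range (2 ^ 0) := by
        ext c; simp
      rw [hk, e]
      exact h2
    · obtain ⟨j, rfl⟩ : ∃ j, k = j + 1 := ⟨k - 1, by omega⟩
      have h3 := sum_GG_int (x := x) (y := y) (ψ := ψ ^ 2) (k := j) (by
        rw [← pow_mul, ← pow_succ', ← hk]; exact pow_orderOf_eq_one ψ)
      have h4 : ∑ c ∈ Finset.range (2 ^ (j + 1)), GG x y (ψ ^ c) =
          ∑ c ∈ (Finset.range (2 ^ (j + 1))).filter (fun c => c.Coprime (2 ^ (j + 1))), GG x y (ψ ^ c) +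
          ∑ c ∈ Finset.range (2 ^ j), GG x y ((ψ ^ 2) ^ c) := by
        rw [← Finset.sum_filter_add_sum_filter_not (Finset.range (2 ^ (j + 1))) (fun c => c.Coprime (2 ^ (j + 1)))]
        congr 1
        symm
        refine Finset.sum_bij (fun c _ => 2 * c) ?_ ?_ ?_ ?_
        · intro c hc
          rw [Finset.mem_filter, Finset.mem_range]
          rw [Finset.mem_range] at hc
          refine ⟨by rw [pow_succ]; omega, ?_⟩
          intro h5
          have h6 : (2 * c).Coprime 2 := Nat.Coprime.coprime_dvd_right (dvd_pow_self 2 (Nat.succ_ne_zero j)) h5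
          have h7 : 2 ∣ Nat.gcd (2 * c) 2 := Nat.dvd_gcd (dvd_mul_right 2 c) dvd_rfl
          rw [h6] at h7
          omega
        · intro c _ d _ h; omega
        · intro c hc
          rw [Finset.mem_filter, Finset.mem_range] at hc
          have h5 : 2 ∣ c := by
            by_contra h6
            apply hc.2
            exact Nat.Coprime.pow_right _ ((Nat.prime_two.coprime_iff_not_dvd.2 h6).symm)
          obtain ⟨d, rfl⟩ := h5
          refine ⟨d, ?_, rfl⟩
          rw [Finset.mem_range]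
          have := hc.1
          rw [pow_succ] at this
          omega
        · intro c _
          rw [← pow_mul]
      rw [hk]
      have h5 : ∑ c ∈ (Finset.range (2 ^ (j + 1))).filter (fun c => c.Coprime (2 ^ (j + 1))), GG x y (ψ ^ c) =
          ∑ c ∈ Finset.range (2 ^ (j + 1)), GG x y (ψ ^ c) - ∑ c ∈ Finset.range (2 ^ j), GG x y ((ψ ^ 2) ^ c) := by
        rw [h4]; ring
      rw [h5, sub_div]
      exact h2.sub h3
  obtain ⟨n, hn⟩ := int_of_fixed hint (fun σ => by rw [map_div₀, map_intCast, map_ofNat])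
  refine ⟨n, ?_⟩
  have h6 : ((g 1 + g x + g y + g (x * y) : ℤ) : ℂ) = ((4 * n : ℤ) : ℂ) := by
    rw [div_eq_iff (by norm_num)] at hn
    rw [hn]; push_cast; ring
  exact_mod_cast h6

/-- the pure statement for gluing -/
theorem pureA (hA : ∀ a b : A, a * b = b * a) {p : ℕ} (hp : p.Prime) (hAp : IsPGroup p A) : H84.GL.PureA p A := by
  classical
  intro f hf c hc hcm v hv hv1 hfv hf1
  have h : Cv p f c v := ⟨hf, hc, hcm, hv, hv1, hfv⟩
  have := Fact.mk hp
  obtain ⟨a, ha⟩ := IsPGroup.iff_card.1 hAp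
  obtain ⟨l, hl⟩ : ∃ l : A →* ℂˣ, ∀ m : ℕ, m.Coprime p → ∀ x,
      ((l⁻¹ : A →* ℂˣ) (x ^ m) : ℂ) * f (x ^ m) = ((l⁻¹ : A →* ℂˣ) x : ℂ) * f x := by
    by_cases hp2 : p = 2
    · subst hp2
      exact h.untwist_two hA ha hf1
    · exact h.untwist_odd hA hp ha hp2
  have h' := h.twist l
  obtain ⟨t, ht1, ht2⟩ := h'.exists_t hA hp ha hl
  beta_reduce at ht2
  have hlx : ∀ x, f x = (l x : ℂ) * t x * c x := by
    intro x
    have h1 := ht2 x
    have h2 : ((l x : ℂˣ) : ℂ) ≠ 0 := Units.ne_zero _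
    rw [MonoidHom.inv_apply, Units.val_inv_eq_inv_val, inv_mul_eq_iff_eq_mul₀ h2] at h1
    rw [h1]; ring
  have hc0 : c 1 ≠ 0 := fun h0 => by apply hc 1; rw [h0]; exact dvd_zero _
  have ht1' : t 1 * c 1 = c 1 := by
    have h1 := ht2 1
    rw [map_one, Units.val_one, one_mul, hf1] at h1
    exact_mod_cast h1.symm
  have hcongr : ∀ x, (p : ℤ) ∣ t x * c x - c 1 := by
    intro x
    refine gen_congr hp ha h'.gen (x := x) ?_ ?_
    · beta_reduce; rw [ht2 x]; push_cast; ring
    · beta_reduce; rw [ht2 1]; exact_mod_cast ht1'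
  by_cases hp2 : p = 2
  · subst hp2
    set g : A → ℤ := fun x => t x * c x with hg
    have h4 := mod_four hA ha h'.gen hl (g := g) (fun x => by
      beta_reduce; rw [ht2 x, hg]; push_cast; ring)
    have hg1 : g 1 = c 1 := ht1'
    have hodd : ∀ x, Odd (g x) := by
      intro x
      rw [← Int.not_even_iff_odd, even_iff_two_dvd]
      intro h5
      apply hc x
      rcases ht1 x with h6 | h6
      · have : g x = c x := by rw [hg]; beta_reduce; rw [h6, one_mul]
        rw [← this]; exact_mod_cast h5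
      · have : g x = - c x := by rw [hg]; beta_reduce; rw [h6]; ring
        rw [this] at h5
        exact_mod_cast (dvd_neg.1 h5)
    have hsex : ∀ x, ∃ s : ℤ, (s = 1 ∨ s = -1) ∧ (4 : ℤ) ∣ g x - s * g 1 := by
      intro x
      obtain ⟨k, hk⟩ := hodd x
      obtain ⟨j, hj⟩ := hodd 1
      rcases Int.even_or_odd (k - j) with ⟨i, hi⟩ | ⟨i, hi⟩
      · exact ⟨1, Or.inl rfl, ⟨i, by rw [hk, hj]; linarith⟩⟩
      · exact ⟨-1, Or.inr rfl, ⟨i + j + 1, by rw [hk, hj]; linarith⟩⟩
    choose s hs1 hs2 using hsex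
    have hsmul : ∀ x y, s (x * y) = s x * s y := by
      intro x y
      have h5 := h4 x y
      have h6 := hs2 x
      have h7 := hs2 y
      have h8 := hs2 (x * y)
      have h9 : (4 : ℤ) ∣ (1 + s x + s y + s (x * y)) * g 1 := by
        have e : (1 + s x + s y + s (x * y)) * g 1 = (g 1 + g x + g y + g (x * y)) - (g x - s x * g 1) -
            (g y - s y * g 1) - (g (x * y) - s (x * y) * g 1) := by ring
        rw [e]
        exact dvd_sub (dvd_sub (dvd_sub h5 h6) h7) h8
      have h10 : (4 : ℤ) ∣ 1 + s x + s y + s (x * y) := by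
        have h11 : IsCoprime (4 : ℤ) (g 1) := by
          obtain ⟨j, hj⟩ := hodd 1
          have h12 : IsCoprime (2 : ℤ) (g 1) := ⟨-j, 1, by rw [hj]; ring⟩
          have h13 := h12.pow_left (m := 2)
          norm_num at h13
          exact h13
        exact h11.dvd_of_dvd_mul_right h9
      rcases hs1 x with a1 | a1 <;> rcases hs1 y with a2 | a2 <;> rcases hs1 (x * y) with a3 | a3 <;>
        rw [a1, a2, a3] at h10 <;> rw [a1, a2, a3] <;> revert h10 <;> norm_num
    have hss : ∀ x, s x * s x = 1 := by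
      intro x
      rcases hs1 x with h5 | h5 <;> rw [h5] <;> norm_num
    have hs11 : s 1 = 1 := by
      have h5 := hsmul 1 1
      rw [mul_one, hss] at h5
      exact h5
    set sH : A →* ℂˣ :=
      { toFun := fun x => ⟨(s x : ℂ), (s x : ℂ), by exact_mod_cast hss x, by exact_mod_cast hss x⟩
        map_one' := by ext; simp [hs11]
        map_mul' := fun x y => by ext; simp [hsmul] } with hsH
    have hsHx : ∀ x, ((sH x : ℂˣ) : ℂ) = s x := fun x => rfl
    refine ⟨l * sH, fun x => s x * t x, ?_, ?_, ?_, ?_⟩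
    · intro x
      beta_reduce
      rcases hs1 x with h5 | h5 <;> rcases ht1 x with h6 | h6 <;> rw [h5, h6] <;> norm_num
    · intro x
      beta_reduce
      have h5 : (s x : ℂ) * s x = 1 := by exact_mod_cast hss x
      rw [MonoidHom.mul_apply, Units.val_mul, hsHx, hlx x]
      push_cast
      calc (l x : ℂ) * t x * c x = (l x : ℂ) * t x * c x * ((s x : ℂ) * s x) := by rw [h5, mul_one]
        _ = _ := by ring
    all_goals
      have h4' : ∀ x, (4 : ℤ) ∣ s x * t x * c x - c 1 := by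
        intro x
        have h5 : s x * t x * c x - c 1 = s x * (g x - s x * g 1) := by
          rw [hg1, hg]
          beta_reduce
          linear_combination (c 1) * hss x
        rw [h5]
        exact Dvd.dvd.mul_left (hs2 x) _
    · intro x
      exact (by norm_num : ((2 : ℕ) : ℤ) ∣ 4).trans (h4' x)
    · intro _ x
      exact h4' x
  · exact ⟨l, t, ht1, hlx, hcongr, fun h2 => absurd h2 hp2⟩

end H84.GP
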