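import Cfsg.Agent.Lib.H84.Star15
import Cfsg.Agent.Lib.H80.BR7

/-!
# Ranks and character numbers of block idempotents of subgroups
-/

set_option autoImplicit false

namespace H84.Wat

open Cfsg H20.Loc H20.GA H20.Blk H20.Orth H80.GA H80.GB H80.GD H80.GE H80.GF H80.GJ H80.BR1 H80.BR2 H80.BR7

universe u

variable {M : Ideal AlgInt} [M.IsMaximal] {G : Type u} [Group G] [Finite G] {p : ℕ}

open Classical in
/-- rank of a block idempotent of a subgroup -/
noncomputable def rk (p : ℕ) (K : Subgroup G) (f : MonoidAlgebra (ResF M) G) : ℕ :=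
  if h : IsBlk K f then blockRank p (exists_bl h).choose else 0

open Classical in
/-- number of characters of a block idempotent of a subgroup -/
noncomputable def kk (K : Subgroup G) (f : MonoidAlgebra (ResF M) G) : ℕ :=
  if h : IsBlk K f then Nat.card (exists_bl h).choose else 0

theorem rk_bl {K : Subgroup G} {S : Set (IrrCharacter K)} (hS : IsPBlock M S) :
    rk p K (bl M K S) = blockRank p S := by
  have h : IsBlk K (bl M K S) := isBlk_bl hS
  unfold rk
  rw [dif_pos h, bl_inj (exists_bl h).choose_spec.1 hS (exists_bl h).choose_spec.2]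

theorem kk_bl {K : Subgroup G} {S : Set (IrrCharacter K)} (hS : IsPBlock M S) :
    kk K (bl M K S) = Nat.card S := by
  have h : IsBlk K (bl M K S) := isBlk_bl hS
  unfold kk
  rw [dif_pos h, bl_inj (exists_bl h).choose_spec.1 hS (exists_bl h).choose_spec.2]

section tr
variable {K K' : Type u} [Group K] [Group K'] [Finite K] [Finite K']

theorem pReg_trI (φ : K ≃* K') (χ : IrrCharacter K) :
    pRegularPart p (trI φ χ : K' → ℂ) = pRegularPart p (χ : K → ℂ) ∘ φ.symm := by
  funext x
  rw [H81.Contrib.pRegularPart_eq, H81.Contrib.pRegularPart_eq, Function.comp_apply]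
  have h : orderOf (φ.symm x) = orderOf x := φ.symm.orderOf_eq x
  by_cases hx : p ∣ orderOf x
  · rw [reg_not hx, reg_not (by rw [h]; exact hx)]
  · rw [reg_of hx, reg_of (by rw [h]; exact hx), trI_apply]

theorem blockRank_trI (φ : K ≃* K') (S : Set (IrrCharacter K)) :
    blockRank p (trI φ '' S) = blockRank p S := by
  unfold blockRank
  have h1 : (fun χ : IrrCharacter K' => pRegularPart p (χ : K' → ℂ)) '' (trI φ '' S) =
      (LinearEquiv.funCongrLeft ℂ ℂ φ.symm.toEquiv) ''
        ((fun χ : IrrCharacter K => pRegularPart p (χ : K → ℂ)) '' S) := by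
    rw [Set.image_image, Set.image_image]
    apply Set.image_congr
    intro χ _
    rw [pReg_trI]
    rfl
  rw [h1]
  have h2 := Submodule.map_span (LinearEquiv.funCongrLeft ℂ ℂ φ.symm.toEquiv).toLinearMap
    ((fun χ : IrrCharacter K => pRegularPart p (χ : K → ℂ)) '' S)
  have h3 : ((LinearEquiv.funCongrLeft ℂ ℂ φ.symm.toEquiv).toLinearMap : (K → ℂ) → (K' → ℂ)) =
      (LinearEquiv.funCongrLeft ℂ ℂ φ.symm.toEquiv) := rfl
  rw [h3] at h2
  rw [← h2]
  exact LinearEquiv.finrank_map_eq (LinearEquiv.funCongrLeft ℂ ℂ φ.symm.toEquiv) _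

theorem card_trI (φ : K ≃* K') (S : Set (IrrCharacter K)) : Nat.card (trI φ '' S : Set _) = Nat.card S :=
  Nat.card_image_of_injective (trI_injective φ) S

end tr

section inc
variable {K : Type u} [Group K] [Finite K]

theorem bl_map {φ : K →* G} (hφ : Function.Injective φ) (L : Subgroup K) (S : Set (IrrCharacter L)) :
    bl M (L.map φ) (trI (L.equivMapOfInjective φ hφ) '' S) = inc (ResF M) φ (bl M L S) := by
  unfold bl
  rw [ebar_trI, inc_comp (L.equivMapOfInjective φ hφ).injective (L.map φ).subtype_injective,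
    inc_comp L.subtype_injective hφ]
  congr 1

theorem rk_inc {φ : K →* G} (hφ : Function.Injective φ) (L : Subgroup K) (f : MonoidAlgebra (ResF M) K) :
    rk p (L.map φ) (inc (ResF M) φ f) = rk p L f := by
  by_cases h : IsBlk L f
  · obtain ⟨S, hS, rfl⟩ := exists_bl h
    rw [← bl_map hφ, rk_bl (isPBlock_trI _ hS), rk_bl hS, blockRank_trI]
  · have h' : ¬ IsBlk (L.map φ) (inc (ResF M) φ f) := by rwa [inc_isBlk hφ]
    unfold rk
    rw [dif_neg h, dif_neg h']

theorem kk_inc {φ : K →* G} (hφ : Function.Injective φ) (L : Subgroup K) (f : MonoidAlgebra (ResF M) K) :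
    kk (L.map φ) (inc (ResF M) φ f) = kk L f := by
  by_cases h : IsBlk L f
  · obtain ⟨S, hS, rfl⟩ := exists_bl h
    rw [← bl_map hφ, kk_bl (isPBlock_trI _ hS), kk_bl hS, card_trI]
  · have h' : ¬ IsBlk (L.map φ) (inc (ResF M) φ f) := by rwa [inc_isBlk hφ]
    unfold kk
    rw [dif_neg h, dif_neg h']

end inc

end H84.Wat
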