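import Cfsg.Agent.Lib.H84.Star6
import Cfsg.Agent.Lib.H84.Wat1

/-!
# Counting characters in unions of blocks by sections
-/

set_option autoImplicit false

namespace H84.KR

open Cfsg H20.Loc H20.GA H20.Blk H20.Orth H20.Ind H18.CharBasic H18.CharOrtho
open H19.Second H19.Second3 H81.Section H81.Contrib H84.Star
open scoped ComplexConjugate

universe u

attribute [local instance 2000] Fintype.ofFinite

variable {M : Ideal AlgInt} {G : Type u} [Group G] [Finite G] {p : ℕ}

/-- characters of the centralizer whose block induces into `X` -/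
def Xu (M : Ideal AlgInt) (X : Set (IrrCharacter G)) (x : G) : Set (IrrCharacter (C x)) :=
  {ξ | ∃ γ, γ ⊆ X ∧ IsInducedBlock M (C x) (blockOf M (ξ : C x → ℂ)) γ}

theorem isUnion_Xu [M.IsPrime] (X : Set (IrrCharacter G)) (x : G) : IsUnion M (Xu M X x) := by
  rintro ξ ⟨γ, h1, h2⟩ ξ' h3
  refine ⟨γ, h1, ?_⟩
  have h4 : blockOf M (ξ' : C x → ℂ) = blockOf M (ξ : C x → ℂ) :=
    isPBlock_eq_of_mem (isPBlock_blockOf ξ') (isPBlock_blockOf ξ) (mem_blockOf_self ξ')
      (by rw [mem_blockOf]; exact h3)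
  rw [h4]
  exact h2

open Classical in
/-- the component for a union of blocks -/
theorem comp_union [M.IsMaximal] {x : G} {Y : Set (IrrCharacter (C x))} (hY : IsUnion M Y)
    (χ : G → ℂ) : comp p x Y χ = ∑ S : BlkS M x, if S.1 ⊆ Y then comp p x S.1 χ else 0 := by
  have hpr := (inferInstance : M.IsMaximal).isPrime
  funext c
  rw [Finset.sum_apply]
  by_cases hc : p ∣ orderOf c
  · rw [comp, reg_not hc]
    symm
    apply Finset.sum_eq_zero
    intro S _
    split_ifs
    · rw [comp, reg_not hc]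
    · rfl
  · rw [comp, reg_of hc, proj_eq_sum]
    have h1 : ∀ S : BlkS M x, (if S.1 ⊆ Y then comp p x S.1 χ else 0) c = ∑ ξ : IrrCharacter (C x),
        if S.1 ⊆ Y ∧ ξ ∈ S.1 then classInner (tw x χ) (ξ : C x → ℂ) * (ξ : C x → ℂ) c else 0 := by
      intro S
      by_cases hS : S.1 ⊆ Y
      · rw [if_pos hS, comp, reg_of hc, proj_eq_sum]
        apply Finset.sum_congr rfl
        intro ξ _
        simp only [hS, true_and]
      · rw [if_neg hS]
        symm
        apply Finset.sum_eq_zero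
        intro ξ _
        rw [if_neg (fun h => hS h.1)]
    rw [Finset.sum_congr rfl fun S _ => h1 S, Finset.sum_comm]
    apply Finset.sum_congr rfl
    intro ξ _
    have hblk : ∀ S : BlkS M x, ξ ∈ S.1 → S = (⟨blockOf M (ξ : C x → ℂ), isPBlock_blockOf ξ⟩ : BlkS M x) := by
      intro S hξ
      exact Subtype.ext (isPBlock_eq_of_mem S.2 (isPBlock_blockOf ξ) hξ (mem_blockOf_self ξ))
    rw [Finset.sum_eq_single (⟨blockOf M (ξ : C x → ℂ), isPBlock_blockOf ξ⟩ : BlkS M x)]
    · by_cases hξ : ξ ∈ Y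
      · rw [if_pos hξ, if_pos]
        refine ⟨?_, mem_blockOf_self ξ⟩
        intro ξ' h'
        exact hY ξ hξ ξ' (by rwa [mem_blockOf] at h')
      · rw [if_neg hξ, if_neg]
        rintro ⟨h2, h3⟩
        exact hξ (h2 h3)
    · intro S _ hS
      rw [if_neg]
      rintro ⟨h2, h3⟩
      exact hS (hblk S h3)
    · intro h; exact absurd (Finset.mem_univ _) h

open Classical in
theorem inner_comp_union [M.IsMaximal] (hM : IsPModular p M) {x : G} {Y : Set (IrrCharacter (C x))}
    (hY : IsUnion M Y) (χ : G → ℂ) : classInner (comp p x Y χ) (comp p x Y χ) =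
      ∑ S : BlkS M x, if S.1 ⊆ Y then classInner (comp p x S.1 χ) (comp p x S.1 χ) else 0 := by
  rw [comp_union hY, inner_sum_left]
  apply Finset.sum_congr rfl
  intro S _
  rw [inner_sum_right, Finset.sum_eq_single S]
  · split_ifs
    · rfl
    · exact H18.CharOrtho.inner_zero_left _
  · intro S' _ hS'
    split_ifs
    · exact comp_orth hM (Ne.symm hS') _ _
    · exact H18.CharOrtho.inner_zero_right _
    · exact H18.CharOrtho.inner_zero_left _
    · exact H18.CharOrtho.inner_zero_left _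
  · intro h; exact absurd (Finset.mem_univ _) h

/-- the block of `χ` -/
theorem comp_Xu_zero [M.IsMaximal] (hM : IsPModular p M) {X : Set (IrrCharacter G)}
    {x : G} (hx : ∃ k : ℕ, orderOf x = p ^ k) {χ : IrrCharacter G} (hχ : χ ∉ X) :
    comp p x (Xu M X x) (χ : G → ℂ) = 0 := by
  classical
  have hpr := pm_isPrime hM
  rw [comp_union (isUnion_Xu X x)]
  apply Finset.sum_eq_zero
  intro S _
  split_ifs with hS
  · obtain ⟨ξ, hξ⟩ := isPBlock_nonempty S.2
    obtain ⟨γ, h1, h2⟩ := hS hξ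
    have h3 : blockOf M (ξ : C x → ℂ) = S.1 :=
      isPBlock_eq_of_mem (isPBlock_blockOf ξ) S.2 (mem_blockOf_self ξ) hξ
    rw [h3] at h2
    exact comp_eq_zero' hM hx h2 (fun h => hχ (h1 h))
  · rfl

theorem comp_not_Xu [M.IsMaximal] (hM : IsPModular p M) {X : Set (IrrCharacter G)} (hX : IsUnion M X)
    {x : G} (hx : ∃ k : ℕ, orderOf x = p ^ k) {χ : IrrCharacter G} (hχ : χ ∈ X) (S : BlkS M x)
    (hS : ¬ S.1 ⊆ Xu M X x) : comp p x S.1 (χ : G → ℂ) = 0 := by
  have hpr := pm_isPrime hM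
  apply comp_eq_zero hM S.2 hx
  intro hind
  apply hS
  intro ξ hξ
  refine ⟨blockOf M (χ : G → ℂ), ?_, ?_⟩
  · intro ψ hψ
    rw [mem_blockOf] at hψ
    exact hX χ hχ ψ hψ
  · have h3 : blockOf M (ξ : C x → ℂ) = S.1 :=
      isPBlock_eq_of_mem (isPBlock_blockOf ξ) S.2 (mem_blockOf_self ξ) hξ
    rw [h3]
    exact hind

/-- counting -/
theorem count_union [M.IsMaximal] (hM : IsPModular p M) {X : Set (IrrCharacter G)} (hX : IsUnion M X) :
    (Nat.card G : ℂ) * (Nat.card X : ℂ) = ∑ x : {x : G // ∃ k : ℕ, orderOf x = p ^ k},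
      (Nat.card (C x.1) : ℂ) * (blockRank p (Xu M X x.1) : ℂ) := by
  classical
  have hpr := pm_isPrime hM
  have hG : (Nat.card G : ℂ) ≠ 0 := by exact_mod_cast (Nat.card_pos (α := G)).ne'
  have h1 : (Nat.card X : ℂ) = ∑ χ ∈ Finset.univ.filter (fun χ : IrrCharacter G => χ ∈ X),
      classInner (χ : G → ℂ) (χ : G → ℂ) := by
    rw [Finset.sum_congr rfl (fun χ _ => inner_irr_self χ.2), Finset.sum_const, nsmul_eq_mul, mul_one,
      Nat.card_eq_fintype_card, ← Set.toFinset_card]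
    congr 2
    ext χ
    simp
  have h2 : ∀ χ ∈ Finset.univ.filter (fun χ : IrrCharacter G => χ ∈ X), classInner (χ : G → ℂ) (χ : G → ℂ) =
      ∑ x : {x : G // ∃ k : ℕ, orderOf x = p ^ k}, (Nat.card G : ℂ)⁻¹ * (Nat.card (C x.1) : ℂ) *
        classInner (comp p x.1 (Xu M X x.1) (χ : G → ℂ)) (comp p x.1 (Xu M X x.1) (χ : G → ℂ)) := by
    intro χ hχ
    rw [inner_eq_comp hM (isClassFunction_of_isIrr χ.2) (isClassFunction_of_isIrr χ.2)]
    apply Finset.sum_congr rfl
    intro x _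
    congr 1
    rw [inner_comp_union hM (isUnion_Xu X x.1)]
    apply Finset.sum_congr rfl
    intro S _
    split_ifs with hS
    · rfl
    · rw [comp_not_Xu hM hX x.2 (Finset.mem_filter.1 hχ).2 S hS, H18.CharOrtho.inner_zero_left]
  rw [h1, Finset.sum_congr rfl h2, Finset.sum_comm, Finset.mul_sum]
  apply Finset.sum_congr rfl
  intro x _
  rw [← Finset.mul_sum, mul_assoc, ← mul_assoc, mul_inv_cancel₀ hG, one_mul]
  congr 1
  rw [← sum_diag hM (isUnion_Xu X x.1) x.2]
  refine Finset.sum_subset_zero_on_sdiff (Finset.filter_subset _ _) ?_ ?_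
  · intro χ hχ
    rw [Finset.mem_sdiff, Finset.mem_filter] at hχ
    rw [comp_Xu_zero hM x.2 (fun h => hχ.2 ⟨Finset.mem_univ _, h⟩), H18.CharOrtho.inner_zero_left]
  · intro χ _
    rfl

end H84.KR
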