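import Cfsg.Agent.Lib.H89.MX0

/-!
S5316, piece P: the involution of the plane.
-/

set_option autoImplicit false

namespace H84.MXP

open Subgroup Cfsg Cfsg.FusionSystem H67.HallPetrescu H57.Mc H89.MX
open H86.FusBasic H86.FusSat H57.Ess H57.TvPair Matrix

variable {Ω : Type*} [Group Ω] {S : Subgroup Ω} [Finite S] {p n : ℕ} [hp : Fact p.Prime] {F : FusionSystem S} {E C W B : Subgroup Ω} {τ : MulAut E}

theorem tau (D : Dat S p n F E) (hCE : C ≤ E) (hC : Nat.card C = p ^ 2)
    (hc : ∀ g ∈ S, g ∈ normalizer (E : Set Ω) → ∀ z ∈ C, g * z = z * g) :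
    ∃ (τ : MulAut E) (W B : Subgroup Ω), Tau S p F E C τ W B := by
  have hS : IsPGroup p S := IsPGroup.of_card D.mc.card
  have hES : E ≤ S := D.ess.1.1
  haveI hfE : Finite E := finite_of_le hES
  have hcomm : ∀ a b : E, a * b = b * a := fun a b => Subtype.ext (D.comm a a.2 b b.2)
  have hp0 : 0 < p := hp.out.pos
  have hcC : Nat.card (C.subgroupOf E) = p ^ 2 := by
    rw [Nat.card_congr (Subgroup.subgroupOfEquivOfLe hCE).toEquiv, hC]
  have hi : (C.subgroupOf E).index = p := by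
    have h1 := Subgroup.card_mul_index (C.subgroupOf E)
    rw [hcC, D.card, pow_succ p 2] at h1
    exact Nat.eq_of_mul_eq_mul_left (pow_pos hp0 2) h1
  obtain ⟨hcard, P, hρ, hu, hπ⟩ := plane_of_essential hS D.sat D.ess hcomm (C.subgroupOf E) (by
    intro v hv g hg hgN
    have h1 := hc g hg hgN v (Subgroup.mem_subgroupOf.1 hv)
    rw [h1]; group) hi
  have hPi : Function.Surjective P.π := fun x => ⟨P.ι x, P.ret x⟩
  have hcF : Nat.card (Multiplicative (Fin 2 → ZMod p)) = p ^ 2 := by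
    rw [Nat.card_congr Multiplicative.toAdd, Nat.card_fun, Nat.card_zmod, Nat.card_fin]
  have cW : Nat.card P.ι.range = p ^ 2 := by
    rw [← Nat.card_congr (MonoidHom.ofInjective P.ι_injective).toEquiv, hcF]
  have cB : Nat.card P.π.ker = p := by
    have h1 := Subgroup.card_mul_index P.π.ker
    rw [Subgroup.index_ker, MonoidHom.range_eq_top.2 hPi, Subgroup.card_top, hcF, D.card,
      pow_succ' p 2] at h1
    exact Nat.eq_of_mul_eq_mul_right (pow_pos hp0 2) h1
  have cmap : ∀ V : Subgroup E, Nat.card (V.map E.subtype) = Nat.card V := fun V =>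
    (Nat.card_congr (V.equivMapOfInjective E.subtype E.subtype_injective).toEquiv).symm
  have hact : ∀ x : Multiplicative (Fin 2 → ZMod p), P.rho (-1) (P.ι x) = (P.ι x)⁻¹ := by
    intro x
    rw [Plane.rho_apply]
    have h1 : P.ι x = P.ι (Multiplicative.ofAdd x.toAdd) := rfl
    rw [h1, Plane.act_ι, ← map_inv]
    congr 1
    have h2 : ((-1 : SpecialLinearGroup (Fin 2) (ZMod p)) : Matrix (Fin 2) (Fin 2) (ZMod p)) = -1 := by
      simp
    rw [h2, Matrix.neg_mulVec, Matrix.one_mulVec]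
    rfl
  refine ⟨P.rho (-1), P.ι.range.map E.subtype, P.π.ker.map E.subtype, hρ _, hCE, hC, hc, ?_,
    Subgroup.map_subtype_le _, ?_, ?_, ?_, ?_, ?_, ?_, ?_, ?_, ?_⟩
  · -- cardN
    have h1 := index_normalizer_of_card D.ess hcomm hcard
    have h2 := Subgroup.card_mul_index (E.subgroupOf (S ⊓ Subgroup.normalizer (E : Set Ω)))
    have hEN : E ≤ S ⊓ Subgroup.normalizer (E : Set Ω) := le_normalizerIn hES
    rw [h1, Nat.card_congr (Subgroup.subgroupOfEquivOfLe hEN).toEquiv, D.card] at h2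
    show Nat.card ↥(S ⊓ Subgroup.normalizer (E : Set Ω)) = _
    rw [← h2, ← pow_succ]
  · -- BC
    rintro _ ⟨b, hb, rfl⟩
    have h1 : P.π b = 1 := hb
    have h2 : b ∈ C.subgroupOf E := (hπ b).1 (by rw [h1]; rfl)
    exact Subgroup.mem_subgroupOf.1 h2
  · -- inf
    rw [eq_bot_iff]
    rintro x ⟨⟨v, ⟨y, rfl⟩, rfl⟩, ⟨b, hb, hbx⟩⟩
    have h1 : b = P.ι y := E.subtype_injective hbx
    have h2 : P.π b = 1 := hb
    rw [h1, P.ret] at h2
    rw [Subgroup.mem_bot, h2, map_one]; rfl
  · -- sup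
    apply le_antisymm (sup_le (Subgroup.map_subtype_le _) (Subgroup.map_subtype_le _))
    intro e he
    set v : E := ⟨e, he⟩ with hv
    have h1 : e = ((P.ι (P.π v) : E) : Ω) * (((P.ι (P.π v))⁻¹ * v : E) : Ω) := by
      have : v = P.ι (P.π v) * ((P.ι (P.π v))⁻¹ * v) := by group
      exact congrArg Subtype.val this
    rw [h1]
    refine Subgroup.mul_mem_sup ⟨P.ι (P.π v), ⟨_, rfl⟩, rfl⟩ ⟨(P.ι (P.π v))⁻¹ * v, ?_, rfl⟩
    show P.π ((P.ι (P.π v))⁻¹ * v) = 1
    rw [map_mul, map_inv, P.ret, inv_mul_cancel]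
  · rw [cmap, cW]
  · rw [cmap, cB]
  · -- inv
    rintro w ⟨v, ⟨y, rfl⟩, hvw⟩
    have h1 : P.ι y = w := E.subtype_injective hvw
    rw [← h1]
    exact hact y
  · -- fix
    rintro b ⟨v, hv, hvb⟩
    have h1 : v = b := E.subtype_injective hvb
    subst h1
    rw [Plane.rho_apply]
    exact P.act_fix _ hv
  · -- com
    intro e he g hg hgN
    obtain ⟨t, ht⟩ := (hu _).1 (conjAut_mem_autInducedBy hgN hg)
    set v : E := ⟨e, he⟩ with hv
    set y : Fin 2 → ZMod p := (up t).1 *ᵥ (P.π v).toAdd - (P.π v).toAdd with hy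
    have h1 : conjAut E hgN v = v * P.ι (Multiplicative.ofAdd y) := by
      rw [ht, Plane.rho_apply]; rfl
    have h2 : g * e * g⁻¹ = e * ((P.ι (Multiplicative.ofAdd y) : E) : Ω) := congrArg Subtype.val h1
    have h3 : g * e * g⁻¹ * e⁻¹ = ((P.ι (Multiplicative.ofAdd y) : E) : Ω) := by
      rw [h2, D.comm e he _ (P.ι (Multiplicative.ofAdd y)).2]; group
    rw [h3]
    refine ⟨⟨_, ⟨_, rfl⟩, rfl⟩, ?_⟩
    have h4 : P.ι (Multiplicative.ofAdd y) ∈ C.subgroupOf E := by
      apply (hπ _).1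
      rw [P.ret, toAdd_ofAdd, hy]
      simp [up, Matrix.mulVec, dotProduct, Fin.sum_univ_two]
    exact Subgroup.mem_subgroupOf.1 h4
  · -- cardV
    let s : Multiplicative (ZMod p) →* Multiplicative (Fin 2 → ZMod p) :=
      (AddMonoidHom.single (fun _ : Fin 2 => ZMod p) 0).toMultiplicative
    have hs : Function.Injective s := by
      intro a b hab
      have h1 : (Pi.single (0 : Fin 2) (Multiplicative.toAdd a) : Fin 2 → ZMod p) = Pi.single 0 (Multiplicative.toAdd b) :=
        Multiplicative.ofAdd.injective hab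
      have h2 := congrFun h1 0
      rw [Pi.single_eq_same, Pi.single_eq_same] at h2
      exact Multiplicative.toAdd.injective h2
    let f : Multiplicative (ZMod p) →* E := P.ι.comp s
    have hf : Function.Injective f := P.ι_injective.comp hs
    have h1 : P.ι.range.map E.subtype ⊓ C = f.range.map E.subtype := by
      ext x
      constructor
      · rintro ⟨⟨v, ⟨y, rfl⟩, rfl⟩, hxC⟩
        have h2 : P.ι y ∈ C.subgroupOf E := Subgroup.mem_subgroupOf.2 hxC
        have h3 := (hπ _).2 h2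
        rw [P.ret] at h3
        refine ⟨P.ι y, ⟨Multiplicative.ofAdd (y.toAdd 0), ?_⟩, rfl⟩
        show P.ι (s (Multiplicative.ofAdd (y.toAdd 0))) = P.ι y
        congr 1
        apply Multiplicative.toAdd.injective
        funext i
        show (Pi.single (0 : Fin 2) (y.toAdd 0) : Fin 2 → ZMod p) i = y.toAdd i
        fin_cases i
        · simp
        · simp [h3]
      · rintro ⟨v, ⟨a, rfl⟩, rfl⟩
        refine ⟨⟨_, ⟨s a, rfl⟩, rfl⟩, ?_⟩
        have h2 : f a ∈ C.subgroupOf E := by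
          apply (hπ _).1
          show (P.π (P.ι (s a))).toAdd 1 = 0
          rw [P.ret]
          show (Pi.single (0 : Fin 2) (Multiplicative.toAdd a) : Fin 2 → ZMod p) 1 = 0
          simp
        exact Subgroup.mem_subgroupOf.1 h2
    rw [h1, cmap, ← Nat.card_congr (MonoidHom.ofInjective hf).toEquiv, Nat.card_congr Multiplicative.toAdd,
      Nat.card_zmod]

end H84.MXP
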