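import Cfsg.Agent.Lib.H47.MXFA

/-!
S5316, piece S1c.
-/

set_option autoImplicit false

namespace H84.MXS1c

open Subgroup Cfsg Cfsg.FusionSystem H67.HallPetrescu H57.Mc H89.MX
open H47.MXFA H86.FusBasic H86.FusSat
open scoped commutatorElement

section Gen

variable {Ω : Type*} [Group Ω]

theorem comm_eq_iff {x x' y : Ω} : x * y * x⁻¹ * y⁻¹ = x' * y * x'⁻¹ * y⁻¹ ↔ (x⁻¹ * x') * y = y * (x⁻¹ * x') := by
  constructor
  · intro h
    have h1 : x * y * x⁻¹ = x' * y * x'⁻¹ := mul_right_cancel h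
    calc (x⁻¹ * x') * y = x⁻¹ * (x' * y * x'⁻¹) * x' := by group
      _ = x⁻¹ * (x * y * x⁻¹) * x' := by rw [h1]
      _ = y * (x⁻¹ * x') := by group
  · intro h
    have h1 : x * y * x⁻¹ = x' * y * x'⁻¹ := by
      calc x * y * x⁻¹ = x * (y * (x⁻¹ * x')) * x'⁻¹ := by group
        _ = x * ((x⁻¹ * x') * y) * x'⁻¹ := by rw [h]
        _ = x' * y * x'⁻¹ := by group
    rw [h1]

theorem L1 (A : Subgroup Ω) [Finite A] (y : Ω) (R : Set Ω) (h : ∀ r ∈ R, ∃ x ∈ A, x * y * x⁻¹ * y⁻¹ = r) :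
    Nat.card R * Nat.card (A ⊓ centralizer {y} : Subgroup Ω) ≤ Nat.card A := by
  choose! g hg1 hg2 using h
  rw [← Nat.card_prod]
  refine Nat.card_le_card_of_injective
    (fun q : R × (A ⊓ centralizer {y} : Subgroup Ω) => (⟨g q.1 * q.2, A.mul_mem (hg1 _ q.1.2) q.2.2.1⟩ : A)) ?_
  rintro ⟨⟨r, hr⟩, ⟨c, hcA, hc⟩⟩ ⟨⟨r', hr'⟩, ⟨c', hcA', hc'⟩⟩ hq
  have h1 : g r * c = g r' * c' := congrArg Subtype.val hq
  replace hc : c ∈ centralizer {y} := hc
  replace hc' : c' ∈ centralizer {y} := hc'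
  rw [mem_centralizer_singleton_iff] at hc hc'
  have hrr : r = r' := by
    rw [← hg2 r hr, ← hg2 r' hr', comm_eq_iff]
    have h2 : (g r)⁻¹ * g r' = c * c'⁻¹ := by
      rw [inv_mul_eq_iff_eq_mul, ← mul_assoc, h1]; group
    rw [h2]
    have h3 : c'⁻¹ * y = y * c'⁻¹ := by
      rw [inv_mul_eq_iff_eq_mul, ← mul_assoc, hc']; group
    rw [mul_assoc, h3, ← mul_assoc, hc, mul_assoc]
  subst hrr
  have hcc : c = c' := mul_left_cancel h1
  subst hcc
  rfl

theorem L0 (A : Subgroup Ω) [Finite A] (y : Ω) (R : Set Ω) [Finite R] (h : ∀ x ∈ A, x * y * x⁻¹ * y⁻¹ ∈ R) :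
    ∃ f : A ⧸ ((centralizer {y}).subgroupOf A) → R, Function.Injective f ∧
      ∀ x : A, ((f (x : A ⧸ ((centralizer {y}).subgroupOf A)) : R) : Ω) = (x : Ω) * y * (x : Ω)⁻¹ * y⁻¹ := by
  let f : A ⧸ ((centralizer {y}).subgroupOf A) → R :=
    Quotient.lift (fun x : A => (⟨(x : Ω) * y * (x : Ω)⁻¹ * y⁻¹, h x x.2⟩ : R)) (by
    intro a b hab
    have h1 : a⁻¹ * b ∈ ((centralizer {y}).subgroupOf A) := QuotientGroup.leftRel_apply.1 hab
    have h2 : ((a⁻¹ * b : A) : Ω) ∈ centralizer {y} := h1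
    rw [mem_centralizer_singleton_iff] at h2
    exact Subtype.ext (comm_eq_iff.2 h2))
  refine ⟨f, ?_, fun x => rfl⟩
  intro a b hab
  induction a using QuotientGroup.induction_on with
  | H a =>
    induction b using QuotientGroup.induction_on with
    | H b =>
      have h1 : (a : Ω) * y * (a : Ω)⁻¹ * y⁻¹ = (b : Ω) * y * (b : Ω)⁻¹ * y⁻¹ := congrArg Subtype.val hab
      rw [comm_eq_iff] at h1
      refine QuotientGroup.eq.2 ?_
      show ((a⁻¹ * b : A) : Ω) ∈ centralizer {y}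
      rw [mem_centralizer_singleton_iff]
      exact h1

theorem cardC (A : Subgroup Ω) (y : Ω) :
    Nat.card ((centralizer {y}).subgroupOf A) = Nat.card (A ⊓ centralizer {y} : Subgroup Ω) := by
  rw [inf_comm, ← Subgroup.subgroupOf_map_subtype]
  exact Nat.card_congr (((centralizer {y}).subgroupOf A).equivMapOfInjective A.subtype A.subtype_injective).toEquiv

theorem L2' (A : Subgroup Ω) [Finite A] (y : Ω) (R : Set Ω) [Finite R] (h : ∀ x ∈ A, x * y * x⁻¹ * y⁻¹ ∈ R) :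
    Nat.card A ≤ Nat.card R * Nat.card (A ⊓ centralizer {y} : Subgroup Ω) := by
  obtain ⟨f, hf, -⟩ := L0 A y R h
  rw [Subgroup.card_eq_card_quotient_mul_card_subgroup ((centralizer {y}).subgroupOf A), cardC]
  exact Nat.mul_le_mul_right _ (Nat.card_le_card_of_injective f hf)

theorem L2 (A : Subgroup Ω) [Finite A] (y : Ω) (R : Set Ω) [Finite R] (h : ∀ x ∈ A, x * y * x⁻¹ * y⁻¹ ∈ R)
    (hc : Nat.card R * Nat.card (A ⊓ centralizer {y} : Subgroup Ω) ≤ Nat.card A) :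
    ∀ r ∈ R, ∃ x ∈ A, x * y * x⁻¹ * y⁻¹ = r := by
  obtain ⟨f, hf, hfx⟩ := L0 A y R h
  have hcard : Nat.card R ≤ Nat.card (A ⧸ ((centralizer {y}).subgroupOf A)) := by
    have h1 := Subgroup.card_eq_card_quotient_mul_card_subgroup ((centralizer {y}).subgroupOf A)
    rw [h1, cardC] at hc
    haveI : Finite (A ⊓ centralizer {y} : Subgroup Ω) := Finite.of_injective _ (Subgroup.inclusion_injective inf_le_left)
    exact Nat.le_of_mul_le_mul_right hc Nat.card_pos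
  have hb := hf.bijective_of_nat_card_le hcard
  intro r hr
  obtain ⟨q, hq⟩ := hb.2 ⟨r, hr⟩
  induction q using QuotientGroup.induction_on with
  | H x => exact ⟨x, x.2, by rw [← hfx x, hq]⟩

theorem L3 {p k : ℕ} [hp : Fact p.Prime] {A B : Subgroup Ω} (hAB : A ≤ B) (hne : A ≠ B) (hB : Nat.card B ≤ p ^ (k + 1))
    (hBp : ∃ m, Nat.card B = p ^ m) : Nat.card A ≤ p ^ k ∧ ∃ m, Nat.card A = p ^ m := by
  obtain ⟨m, hm⟩ := hBp
  haveI : Finite B := Nat.finite_of_card_ne_zero (by rw [hm]; exact pow_ne_zero _ hp.out.ne_zero)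
  have hd := Subgroup.card_dvd_of_le hAB
  rw [hm] at hd
  obtain ⟨j, hj, hjA⟩ := (Nat.dvd_prime_pow hp.out).1 hd
  have hjm : j ≠ m := by
    rintro rfl
    exact hne (Subgroup.eq_of_le_of_card_ge hAB (by rw [hm, hjA]))
  refine ⟨?_, j, hjA⟩
  rw [hjA]
  rw [hm] at hB
  have h1 := (Nat.pow_le_pow_iff_right hp.out.one_lt).1 hB
  exact Nat.pow_le_pow_right hp.out.pos (by omega)

end Gen

variable {Ω : Type*} [Group Ω] {S : Subgroup Ω} [Finite S] {p n : ℕ} [hp : Fact p.Prime] {F : FusionSystem S} {E : Subgroup Ω}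

theorem s1c (D : Dat S p n F E) (hN : Nat.card (normalizerIn S E) = p ^ 4) (hE1 : E ≤ T S 2) {y : Ω}
    (hy : y ∈ E) (hy' : y ∉ T S (n - 2)) (h7 : 7 ≤ n) (h1 : K S (n - 1) ≤ E)
    (h3 : K S (n - 3) ≤ normalizer (E : Set Ω)) (hE2 : E ⊓ K S 2 ≤ K S (n - 3))
    (hc : Nat.card (E ⊓ K S (n - 3) : Subgroup Ω) = p ^ 2) : False := by
  have hES : E ≤ S := D.ess.1.1
  have hyS : y ∈ S := hES hy
  have hp0 := hp.out.pos
  have hyTC : (⟨y, hyS⟩ : S) ∈ TC ↥S 2 := by
    obtain ⟨z, hz, hzy⟩ := hE1 hy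
    have : z = ⟨y, hyS⟩ := Subtype.ext hzy
    rwa [← this]
  have hyTC' : (⟨y, hyS⟩ : S) ∉ TC ↥S (n - 2) := fun h => hy' ⟨_, h, rfl⟩
  set M : Subgroup Ω := normalizerIn S E ⊓ K S 2 with hM
  have hyK : y ∉ K S 2 := by
    intro h
    obtain ⟨hyS', h'⟩ := mem_K.1 h
    exact hyTC' (K2_le_TC _ h')
  have hyN : y ∈ normalizerIn S E := mem_normalizerIn.2 ⟨hyS, Subgroup.le_normalizer hy⟩
  obtain ⟨hM3, hMp⟩ := L3 (p := p) (k := 3) (A := M) (B := normalizerIn S E) inf_le_left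
    (by intro h; exact hyK (h ▸ hyN : y ∈ M).2) (by rw [hN]) ⟨4, hN⟩
  haveI : Finite (K S 2) := Finite.of_injective _ (Subgroup.inclusion_injective (K_le 2))
  haveI : Finite (K S 4) := Finite.of_injective _ (Subgroup.inclusion_injective (K_le 4))
  haveI : Finite M := Finite.of_injective _ (Subgroup.inclusion_injective (inf_le_right.trans (K_le 2) : M ≤ S))
  -- commutators of `γ₂` with `y`
  have hcom4 : ∀ x ∈ K S 2, x * y * x⁻¹ * y⁻¹ ∈ K S 4 := by
    intro x hx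
    obtain ⟨hxS, hx'⟩ := mem_K.1 hx
    exact mem_K.2 ⟨_, hyTC _ hx'⟩
  -- `E = <y> H`
  have hyH : y ∉ K S (n - 3) := fun h => hyK (K_mono (by omega) h)
  have hnorm : ∀ x ∈ K S 2, x * y * x⁻¹ * y⁻¹ ∈ E → x ∈ M := by
    intro x hx hxy
    have hxS : x ∈ S := K_le _ hx
    -- the subgroup of `E` of all `e` with `x e x⁻¹ ∈ E`
    have hall : ∀ e ∈ E, x * e * x⁻¹ ∈ E := by
      let U : Subgroup Ω := E ⊓ E.comap (MulAut.conj x).toMonoidHom
      have hUE : U ≤ E := inf_le_left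
      have hHU : E ⊓ K S (n - 3) ≤ U := by
        intro e he
        refine ⟨he.1, ?_⟩
        show x * e * x⁻¹ ∈ E
        have h4 : e * x * e⁻¹ * x⁻¹ ∈ K S (n - 1) := by
          obtain ⟨heS, he'⟩ := mem_K.1 he.2
          obtain ⟨hxS', hx'⟩ := mem_K.1 hx
          have h5 := comm_memK he' hx'
          have h6 : n - 3 + 2 = n - 1 := by omega
          rw [h6] at h5
          exact mem_K.2 ⟨_, h5⟩
        have h5 := E.mul_mem (E.inv_mem (h1 h4)) he.1
        have h6 : (e * x * e⁻¹ * x⁻¹)⁻¹ * e = x * e * x⁻¹ := by group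
        rwa [h6] at h5
      have hyU : y ∈ U := by
        refine ⟨hy, ?_⟩
        show x * y * x⁻¹ ∈ E
        have h5 := E.mul_mem hxy hy
        have h6 : x * y * x⁻¹ * y⁻¹ * y = x * y * x⁻¹ := by group
        rwa [h6] at h5
      by_contra hne
      have hUne : U ≠ E := by
        intro h
        apply hne
        intro e he
        rw [← h] at he
        exact he.2
      obtain ⟨hU2, hUp⟩ := L3 (p := p) (k := 2) hUE hUne (by rw [D.card]) ⟨3, D.card⟩
      haveI : Finite U := by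
        obtain ⟨m, hm⟩ := hUp
        exact Nat.finite_of_card_ne_zero (by rw [hm]; exact pow_ne_zero _ hp.out.ne_zero)
      have h5 := Subgroup.eq_of_le_of_card_ge hHU (by rw [hc]; exact hU2)
      rw [← h5] at hyU
      exact hyH hyU.2
    haveI : Finite E := Nat.finite_of_card_ne_zero (by rw [D.card]; exact pow_ne_zero _ hp.out.ne_zero)
    refine ⟨mem_normalizerIn.2 ⟨hxS, ?_⟩, hx⟩
    have hmap : E.map (MulAut.conj x).toMonoidHom = E := by
      apply Subgroup.eq_of_le_of_card_ge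
      · rintro _ ⟨e, he, rfl⟩
        exact hall e he
      · rw [← Nat.card_congr (E.equivMapOfInjective _ (MulAut.conj x).injective).toEquiv]
    intro e
    constructor
    · exact hall e
    · intro h
      rw [← hmap] at h
      obtain ⟨e', he', hee'⟩ := h
      have h6 : x * e' * x⁻¹ = x * e * x⁻¹ := hee'
      have h7 : e' = e := by
        have := mul_right_cancel h6
        exact mul_left_cancel this
      rwa [← h7]
  -- centralizers
  have hCC : K S 2 ⊓ centralizer {y} = M ⊓ centralizer {y} := by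
    apply le_antisymm
    · intro x hx
      refine ⟨hnorm x hx.1 ?_, hx.2⟩
      have h5 := mem_centralizer_singleton_iff.1 hx.2
      have h6 : x * y * x⁻¹ * y⁻¹ = 1 := by rw [h5]; group
      rw [h6]
      exact E.one_mem
    · intro x hx
      exact ⟨hx.1.2, hx.2⟩
  have hMne : M ⊓ centralizer {y} ≠ M := by
    intro h
    apply hyTC'
    intro x hx
    have hxK : (x : Ω) ∈ K S (n - 2) := mem_K.2 ⟨x.2, hx⟩
    have hxM : (x : Ω) ∈ M :=
      ⟨mem_normalizerIn.2 ⟨x.2, h3 (K_mono (by omega) hxK)⟩, K_mono (by omega) hxK⟩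
    rw [← h] at hxM
    have h5 := mem_centralizer_singleton_iff.1 hxM.2
    have h6 : ⁅x, (⟨y, hyS⟩ : S)⁆ = 1 := by
      rw [commutatorElement_eq_one_iff_mul_comm]
      exact Subtype.ext h5
    rw [h6]
    exact one_mem _
  obtain ⟨hC2, -⟩ := L3 (p := p) (k := 2) (A := M ⊓ centralizer {y}) (B := M) inf_le_left hMne hM3 hMp
  -- surjectivity
  have hK2 : Nat.card (K S 2) = p ^ (n - 2) := K_card D.mc le_rfl (by omega)
  have hK4 : Nat.card (K S 4) = p ^ (n - 4) := K_card D.mc (by omega) (by omega)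
  have hsur := L2 (K S 2) y (K S 4 : Set Ω) hcom4 (by
    rw [hCC, hK2]
    calc Nat.card (K S 4) * Nat.card (M ⊓ centralizer {y} : Subgroup Ω) ≤ p ^ (n - 4) * p ^ 2 := by
          rw [hK4]; exact Nat.mul_le_mul_left _ hC2
      _ = p ^ (n - 2) := by rw [← pow_add]; congr 1; omega)
  have hH4 : ∀ r ∈ (E ⊓ K S (n - 3) : Subgroup Ω), ∃ x ∈ M, x * y * x⁻¹ * y⁻¹ = r := by
    intro r hr
    obtain ⟨x, hx, hxr⟩ := hsur r (K_mono (by omega) hr.2)
    exact ⟨x, hnorm x hx (by rw [hxr]; exact hr.1), hxr⟩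
  have h5 := L1 M y ((E ⊓ K S (n - 3) : Subgroup Ω) : Set Ω) hH4
  have hc' : Nat.card ((E ⊓ K S (n - 3) : Subgroup Ω) : Set Ω) = p ^ 2 := hc
  rw [hc'] at h5
  -- `|C| ≥ p²`
  have hge : p ^ 2 ≤ Nat.card (M ⊓ centralizer {y} : Subgroup Ω) := by
    by_contra hlt
    push_neg at hlt
    have h8 := L2' (K S 2) y (K S 4 : Set Ω) hcom4
    rw [hCC, hK2] at h8
    have h8' : p ^ (n - 2) ≤ p ^ (n - 4) * Nat.card (M ⊓ centralizer {y} : Subgroup Ω) := by
      rw [← hK4]; exact h8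
    have h9 : p ^ (n - 4) * Nat.card (M ⊓ centralizer {y} : Subgroup Ω) < p ^ (n - 4) * p ^ 2 :=
      Nat.mul_lt_mul_of_pos_left hlt (pow_pos hp0 _)
    rw [← pow_add] at h9
    have h10 : n - 4 + 2 = n - 2 := by omega
    rw [h10] at h9
    omega
  have h11 : p ^ 2 * p ^ 2 ≤ p ^ 3 := (Nat.mul_le_mul_left _ hge).trans (h5.trans hM3)
  rw [← pow_add] at h11
  have h12 := (Nat.pow_le_pow_iff_right hp.out.one_lt).1 h11
  omega

end H84.MXS1c
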