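import Cfsg.Agent.Lib.H84.Wat2
import Cfsg.Agent.Lib.H80.GX

/-!
# Relative form of the coset formula
-/

set_option autoImplicit false

namespace H84.Wat

open Cfsg H20.Loc H20.GA H80.GA H80.GB H80.GD H80.GE H80.GF H80.GG H80.GH H80.GJ H80.FS H84.RG H18.CharBasic H18.CharOrtho H84.TrR
open H20.Blk H20.Orth H20.Ind H20.Height H20.Defect H80.BR1 H80.BR2 H80.BR7 H80.FS4
open H84.Star
open scoped ComplexConjugate commutatorElement

universe u

attribute [local instance 2000] Fintype.ofFinite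

/-- norm argument -/
theorem norm_arg {P : Type u} [CommGroup P] [Finite P] (A : Subgroup (MulAut P)) {z : P}
    (hz : z ∈ Subgroup.closure {x : P | ∃ y : P, ∃ a ∈ A, x = y⁻¹ * a y}) (hfix : ∀ a ∈ A, a z = z) :
    z ^ Nat.card A = 1 := by
  classical
  let ν : P →* P :=
    { toFun := fun x => ∏ a : A, (a : MulAut P) x
      map_one' := by simp
      map_mul' := fun x y => by simp only [map_mul]; rw [Finset.prod_mul_distrib] }
  have h1 : z ∈ ν.ker := by
    refine (Subgroup.closure_le _).2 ?_ hz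
    rintro x ⟨y, a, ha, rfl⟩
    rw [SetLike.mem_coe, MonoidHom.mem_ker, map_mul, map_inv, inv_mul_eq_one]
    change ∏ b : A, (b : MulAut P) y = ∏ b : A, (b : MulAut P) (a y)
    rw [← Equiv.prod_comp (Equiv.mulRight (⟨a, ha⟩ : A))]
    rfl
  have h2 : ν z = z ^ Nat.card A := by
    change ∏ a : A, (a : MulAut P) z = _
    rw [Finset.prod_congr rfl (fun (a : A) _ => hfix a.1 a.2), Finset.prod_const, Finset.card_univ,
      Nat.card_eq_fintype_card]
  rw [← h2]
  exact h1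

variable {k : Type*} {G : Type u} [Field k] [Group G] [Finite G] {p : ℕ}

/-- orbits under the stabilizer -/
def ob (H P : Subgroup G) (e : MonoidAlgebra k G) (y : G) : Set G :=
  {y' | ∃ t ∈ ST H P e, y' = t * y * t⁻¹}

/-- the focal subgroup of the stabilizer -/
def foc (H P : Subgroup G) (e : MonoidAlgebra k G) : Subgroup G :=
  Subgroup.closure {x | ∃ y ∈ P, ∃ t ∈ ST H P e, x = y⁻¹ * (t * y * t⁻¹)}

omit [Finite G] in
theorem foc_le {H P : Subgroup G} {e : MonoidAlgebra k G} : foc H P e ≤ P := by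
  rw [foc, Subgroup.closure_le]
  rintro x ⟨y, hy, t, ht, rfl⟩
  exact mul_mem (inv_mem hy) ((mem_normalizer_iff'.1 ht.2.1 y).1 hy)

section map
variable {K : Type u} [Group K] [Finite K]

theorem ob_map {φ : K →* G} (hφ : Function.Injective φ) (L P : Subgroup K) (e : MonoidAlgebra k K) (y : K) :
    ob (L.map φ) (P.map φ) (inc k φ e) (φ y) = φ '' ob L P e y := by
  ext x
  constructor
  · rintro ⟨t, ht, rfl⟩
    obtain ⟨t', ht', rfl⟩ := ht.1
    exact ⟨t' * y * t'⁻¹, ⟨t', (inc_ST hφ).1 ht, rfl⟩, by simp⟩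
  · rintro ⟨_, ⟨t, ht, rfl⟩, rfl⟩
    exact ⟨φ t, (inc_ST hφ).2 ht, by simp⟩

theorem foc_map {φ : K →* G} (hφ : Function.Injective φ) (L P : Subgroup K) (e : MonoidAlgebra k K) :
    foc (L.map φ) (P.map φ) (inc k φ e) = (foc L P e).map φ := by
  unfold foc
  rw [MonoidHom.map_closure]
  congr 1
  ext x
  constructor
  · rintro ⟨_, ⟨y, hy, rfl⟩, t, ht, rfl⟩
    obtain ⟨t', ht', rfl⟩ := ht.1
    exact ⟨y⁻¹ * (t' * y * t'⁻¹), ⟨y, hy, t', (inc_ST hφ).1 ht, rfl⟩, by simp⟩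
  · rintro ⟨_, ⟨y, hy, t, ht, rfl⟩, rfl⟩
    exact ⟨φ y, ⟨y, hy, rfl⟩, φ t, (inc_ST hφ).2 ht, by simp⟩

end map

section ab
variable [Fact p.Prime] [CharP k p] [Algebra (ZMod p) k] [Algebra.IsAlgebraic (ZMod p) k]
variable {H P Q : Subgroup G} {b e f : MonoidAlgebra k G}

theorem ab_le (hP : IsPair p H P e) (hab : ∀ x ∈ P, ∀ y ∈ P, x * y = y * x) (hQP : Q ≤ P) : P ≤ CH H Q := by
  refine le_inf ?_ hP.le
  intro y hy
  rw [Subgroup.mem_centralizer_iff]
  intro u hu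
  exact hab u (hQP hu) y hy

/-- maximal pairs in local subgroups -/
theorem ab_max (hmax : IsMax p H b P e) (hab : ∀ x ∈ P, ∀ y ∈ P, x * y = y * x) (hf : SLE p H Q f P e) :
    IsMax p (CH H Q) f P e := by
  have hP := hmax.of.pair
  have hQP := hf.le' hP
  have hQ := hf.pair_left hP
  have hPC : P ≤ CH H Q := ab_le hP hab hQP
  have hQC : Q ≤ CH H Q := hQP.trans hPC
  have hle : CH H Q ≤ ST H Q f := CH_le_ST hQ.blk.mem.1
  have hfP : NLE p H Q f P e := hf.nle hP (hPC.trans CH_le_normalizer)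
  have h1 : PairOf p (CH H Q) f P e := (pairOf_rel hQ le_rfl hle hQC hQP).2 ⟨hfP, hPC⟩
  refine ⟨h1, ?_⟩
  intro R g hR
  exact hmax.max R g ((nle_rel le_rfl inf_le_right hQP).1 hR).1

/-- control of fusion -/
theorem ab_ctrl (hmax : IsMax p H b P e) (hab : ∀ x ∈ P, ∀ y ∈ P, x * y = y * x) (hf : SLE p H Q f P e)
    {g : G} (hg : g ∈ H) (hg2 : SLE p H (cs g Q) (cj g f) P e) :
    ∃ t ∈ ST H P e, ∃ c ∈ CH H Q, g = t * c := by
  have h1 := ab_max hmax hab hf
  have h2 := isMax_cj (ab_max hmax hab hg2) g⁻¹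
  rw [cs_CH, cs_inv_cs, cj_inv_cj, cs_of_mem (inv_mem hg)] at h2
  obtain ⟨c, hc, h3, h4⟩ := max_conj h1 h2
  have hcH : c ∈ H := hc.2
  have h5 : cs (g * c) P = P := by
    rw [cs_mul, ← h3, ← cs_mul, mul_inv_cancel, cs_one]
  have h6 : cj (g * c) e = e := by
    rw [cj_mul, ← h4, cj_cj_inv]
  exact ⟨g * c, ⟨mul_mem hg hcH, mem_normalizer.2 h5, h6⟩, c⁻¹, inv_mem hc, by simp⟩

/-- the automizer of an abelian defect group is a `p'`-group -/
theorem ab_coprime [IsAlgClosed k] (hmax : IsMax p H b P e) (hab : ∀ x ∈ P, ∀ y ∈ P, x * y = y * x) :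
    ¬ p ∣ Nat.card (stHom H P e).range := by
  have hD := H80.GX.def_ST hmax
  have hpair := hmax.of.pair
  have hCT : CH H P ≤ ST H P e := CH_le_ST hpair.blk.mem.1
  have hN : ST H P e ≤ Subgroup.normalizer (CH H P : Set G) := by
    intro y hy
    rw [mem_normalizer, cs_CH, mem_normalizer.1 hy.2.1, cs_of_mem hy.1]
  have h1 := H80.GK.cover_sylow hCT hN hpair.blk (isBlk_ST hpair) hD (stHom H P e) (by
    intro c hc
    ext x
    rw [stHom_apply, MulAut.one_apply]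
    have := Subgroup.mem_centralizer_iff.1 hc.1 x x.2
    rw [← this]; simp)
  have h2 : (P.subgroupOf (ST H P e)).map (stHom H P e) = ⊥ := by
    rw [eq_bot_iff]
    rintro _ ⟨t, ht, rfl⟩
    rw [Subgroup.mem_bot]
    ext x
    rw [stHom_apply, MulAut.one_apply]
    have := hab x x.2 (t : G) (Subgroup.mem_subgroupOf.1 ht)
    rw [← this]; simp
  rw [h2, Subgroup.relIndex_bot_left] at h1
  exact h1

/-- coprime action: the focal subgroup meets the fixed points trivially -/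
theorem ab_trivial [IsAlgClosed k] (hmax : IsMax p H b P e) (hab : ∀ x ∈ P, ∀ y ∈ P, x * y = y * x) {z : G}
    (hz : z ∈ foc H P e) (hfix : ∀ t ∈ ST H P e, t * z * t⁻¹ = z) : z = 1 := by
  let _ : CommGroup P := { (inferInstance : Group P) with mul_comm := fun a b => Subtype.ext (hab a a.2 b b.2) }
  have hzP : z ∈ P := foc_le hz
  have h1 : (foc H P e).subgroupOf P = Subgroup.closure {x : P | ∃ y : P, ∃ a ∈ (stHom H P e).range, x = y⁻¹ * a y} := by
    have hinj := P.subtype_injective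
    apply Subgroup.map_injective hinj
    rw [Subgroup.subgroupOf_map_subtype, inf_eq_left.2 foc_le, MonoidHom.map_closure]
    unfold foc
    congr 1
    ext x
    constructor
    · rintro ⟨y, hy, t, ht, rfl⟩
      exact ⟨(⟨y, hy⟩ : P)⁻¹ * (stHom H P e ⟨t, ht⟩) ⟨y, hy⟩, ⟨⟨y, hy⟩, _, ⟨⟨t, ht⟩, rfl⟩, rfl⟩, rfl⟩
    · rintro ⟨_, ⟨y, a, ⟨t, rfl⟩, rfl⟩, rfl⟩
      exact ⟨y, y.2, t, t.2, rfl⟩
  have h2 := norm_arg (stHom H P e).range (z := (⟨z, hzP⟩ : P)) (by
    rw [← h1]; exact Subgroup.mem_subgroupOf.2 hz) (by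
    rintro _ ⟨t, rfl⟩
    apply Subtype.ext
    exact hfix t t.2)
  have h3 := ab_coprime hmax hab
  obtain ⟨m, hm⟩ := (IsPGroup.iff_orderOf.1 hmax.of.pair.pgr) (⟨z, hzP⟩ : P)
  have h4 := orderOf_dvd_of_pow_eq_one h2
  rw [hm] at h4
  have h5 : m = 0 := by
    by_contra h
    exact h3 ((dvd_pow_self p h).trans h4)
  rw [h5, pow_zero, orderOf_eq_one_iff] at hm
  exact congrArg Subtype.val hm

end ab

end H84.Wat
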