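import Cfsg.Agent.Lib.H84.Wat4

/-!
# Watanabe's theorem for abelian defect groups
-/

set_option autoImplicit false

namespace H84.Wat

open Cfsg H20.Loc H20.GA H80.GA H80.GB H80.GD H80.GE H80.GF H80.GG H80.GH H80.GJ H80.FS H84.RG H18.CharBasic H18.CharOrtho H84.TrR
open H20.Blk H20.Orth H20.Ind H20.Height H20.Defect H80.BR1 H80.BR2 H80.BR7 H80.FS4
open H84.Star
open scoped ComplexConjugate commutatorElement

universe u

attribute [local instance 2000] Fintype.ofFinite

variable {M : Ideal AlgInt} [M.IsMaximal] {G : Type u} [Group G] [Finite G] {p : ℕ}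
variable [Fact p.Prime] [CharP (ResF M) p] [Algebra (ZMod p) (ResF M)] [Algebra.IsAlgebraic (ZMod p) (ResF M)]

theorem wt_map {K : Type u} [Group K] [Finite K] {φ : K →* G} (hφ : Function.Injective φ) {P : Subgroup K}
    {b e : MonoidAlgebra (ResF M) K} (hmax : IsMax p ⊤ b P e) (hab : ∀ x ∈ P, ∀ y ∈ P, x * y = y * x) {y : K}
    (hy : y ∈ P) : wt p ((⊤ : Subgroup K).map φ) (P.map φ) (inc (ResF M) φ e) (φ y) = wt p ⊤ P e y := by
  obtain ⟨f, hf, -⟩ := exists_unique_sle hmax.of.pair (Q := Subgroup.zpowers y)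
    (by rw [Subgroup.zpowers_le]; exact hy)
  have h1 := (ab_max hmax hab hf).of
  have h2 : CH ((⊤ : Subgroup K).map φ) (Subgroup.zpowers (φ y)) = (CH ⊤ (Subgroup.zpowers y)).map φ := by
    rw [map_CH hφ, MonoidHom.map_zpowers]
  have h3 : bk p (CH ((⊤ : Subgroup K).map φ) (Subgroup.zpowers (φ y))) (P.map φ) (inc (ResF M) φ e) =
      inc (ResF M) φ (bk p (CH ⊤ (Subgroup.zpowers y)) P e) := by
    rw [h2]
    apply bk_eq
    rw [inc_pairOf hφ, bk_eq h1]
    exact h1
  unfold wt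
  rw [h3, h2, rk_inc hφ, ob_map hφ, Nat.card_image_of_injective hφ]

open Classical in
/-- the coset formula, relative form -/
theorem rel_coset (hM : IsPModular p M) {H P : Subgroup G} {b e : MonoidAlgebra (ResF M) G}
    (hmax : IsMax p H b P e) (hab : ∀ x ∈ P, ∀ y ∈ P, x * y = y * x) {z : G} (hz : z ∈ P) :
    ((foc H P e).relIndex P : ℂ) * ∑ y : G, (if y ∈ P ∧ z⁻¹ * y ∈ foc H P e then wt p H P e y else 0) =
      (kk H b : ℂ) := by
  have hinj := H.subtype_injective
  have hPH := hmax.of.pair.le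
  obtain ⟨B, hB, hBb⟩ := exists_bl hmax.of.blk
  obtain ⟨e', he'⟩ := exists_inc (k := ResF M) hinj (b := e) (by
    rw [Subgroup.range_subtype]; exact Sp_mono inf_le_right hmax.of.pair.blk.mem.2)
  have hP' : (P.subgroupOf H).map H.subtype = P := by
    rw [Subgroup.subgroupOf_map_subtype]; exact inf_eq_left.2 hPH
  have htop : (⊤ : Subgroup H).map H.subtype = H := map_subtype_top H
  have hab' : ∀ x ∈ P.subgroupOf H, ∀ y ∈ P.subgroupOf H, x * y = y * x := fun x hx y hy =>
    Subtype.ext (hab x (Subgroup.mem_subgroupOf.1 hx) y (Subgroup.mem_subgroupOf.1 hy))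
  have hmax' : IsMax p ⊤ (ebar M B) (P.subgroupOf H) e' := by
    rw [← inc_isMax hinj, htop, hP', he']
    have : inc (ResF M) H.subtype (ebar M B) = b := hBb
    rw [this]; exact hmax
  have h1 := top_coset hM hmax' hB hab' (z := ⟨z, hPH hz⟩) (Subgroup.mem_subgroupOf.2 hz)
  have hfoc : (foc ⊤ (P.subgroupOf H) e').map H.subtype = foc H P e := by
    rw [← foc_map hinj, htop, hP', he']
  have hk : kk H b = Nat.card B := by rw [← hBb, kk_bl hB]
  rw [hk, ← h1]
  have hidx : (foc ⊤ (P.subgroupOf H) e').relIndex (P.subgroupOf H) = (foc H P e).relIndex P := by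
    rw [← Subgroup.relIndex_map_map_of_injective _ _ hinj, hfoc, hP']
  rw [hidx]
  congr 1
  rw [← Finset.sum_filter, ← Finset.sum_filter]
  symm
  apply Finset.sum_bij (fun (y : H) _ => (y : G))
  · intro y hy
    rw [Finset.mem_filter] at hy ⊢
    refine ⟨Finset.mem_univ _, Subgroup.mem_subgroupOf.1 hy.2.1, ?_⟩
    rw [← hfoc]
    exact ⟨_, hy.2.2, rfl⟩
  · intro a _ b _ h
    exact Subtype.ext h
  · intro y hy
    rw [Finset.mem_filter] at hy
    obtain ⟨-, hy1, hy2⟩ := hy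
    refine ⟨⟨y, hPH hy1⟩, ?_, rfl⟩
    rw [Finset.mem_filter]
    refine ⟨Finset.mem_univ _, Subgroup.mem_subgroupOf.2 hy1, ?_⟩
    rw [← hfoc] at hy2
    obtain ⟨w, hw1, hw2⟩ := hy2
    have : (⟨z, hPH hz⟩ : H)⁻¹ * ⟨y, hPH hy1⟩ = w := Subtype.ext hw2.symm
    rw [this]
    exact hw1
  · intro y hy
    rw [Finset.mem_filter] at hy
    have := wt_map (p := p) hinj hmax' hab' hy.2.1
    rw [htop, hP', he'] at this
    exact this.symm

/-- translation of a sum over the focal subgroup -/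
theorem sum_shift {F P : Subgroup G} (hF : F ≤ P) {z : G} (hz : z ∈ P) (w : G → ℂ)
    [DecidablePred fun y => y ∈ P ∧ z⁻¹ * y ∈ F] [DecidablePred fun y => y ∈ F] :
    ∑ y : G, (if y ∈ P ∧ z⁻¹ * y ∈ F then w y else 0) = ∑ y : G, (if y ∈ F then w (z * y) else 0) := by
  rw [← Equiv.sum_comp (Equiv.mulLeft z)]
  apply Finset.sum_congr rfl
  intro y _
  have hc : ((Equiv.mulLeft z) y ∈ P ∧ z⁻¹ * (Equiv.mulLeft z) y ∈ F) ↔ y ∈ F := by
    rw [Equiv.coe_mulLeft]
    simp only [inv_mul_cancel_left]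
    exact ⟨fun h => h.2, fun h => ⟨mul_mem hz (hF h), h⟩⟩
  by_cases h : y ∈ F
  · rw [if_pos h, if_pos (hc.2 h)]
    rfl
  · rw [if_neg h, if_neg (fun h' => h (hc.1 h'))]

theorem CH_CH' {H P : Subgroup G} {x y : G} (hx : x ∈ P) (hy : y ∈ P)
    (hab : ∀ x ∈ P, ∀ y ∈ P, x * y = y * x) :
    CH (CH H (Subgroup.zpowers (x * y))) (Subgroup.zpowers x) = CH (CH H (Subgroup.zpowers y)) (Subgroup.zpowers x) := by
  have hmem : ∀ (L : Subgroup G) (w c : G), c ∈ CH L (Subgroup.zpowers w) ↔ c * w = w * c ∧ c ∈ L := by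
    intro L w c
    unfold CH
    rw [Subgroup.mem_inf, Subgroup.mem_centralizer_iff]
    apply and_congr_left'
    constructor
    · intro h; exact (h w (Subgroup.mem_zpowers w)).symm
    · intro h v hv
      obtain ⟨n, rfl⟩ := Subgroup.mem_zpowers_iff.1 hv
      exact ((Commute.zpow_right (show Commute c w from h) n)).symm
  ext c
  rw [hmem, hmem, hmem, hmem]
  constructor
  · rintro ⟨h1, h2, h3⟩
    refine ⟨h1, ?_, h3⟩
    have h4 : x * (c * y) = x * (y * c) := by
      calc x * (c * y) = (c * x) * y := by rw [h1, mul_assoc]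
        _ = c * (x * y) := by rw [mul_assoc]
        _ = x * y * c := h2
        _ = _ := by rw [mul_assoc]
    exact mul_left_cancel h4
  · rintro ⟨h1, h2, h3⟩
    refine ⟨h1, ?_, h3⟩
    calc c * (x * y) = x * (c * y) := by rw [← mul_assoc, h1, mul_assoc]
      _ = _ := by rw [h2, mul_assoc]

theorem CH_comm {H : Subgroup G} {x y : G} :
    CH (CH H (Subgroup.zpowers x)) (Subgroup.zpowers y) = CH (CH H (Subgroup.zpowers y)) (Subgroup.zpowers x) := by
  unfold CH
  rw [← inf_assoc, ← inf_assoc, inf_comm (Subgroup.centralizer _) (Subgroup.centralizer _)]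

end H84.Wat
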